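import Cfsg.Agent.H426.LieEx_m3
import Cfsg.Agent.H357.ChebMid
import Cfsg.Agent.H267.Sp.SpecAlt_m3
import Mathlib
import Cfsg.Agent.H359.MainRed
import Cfsg.Agent.H357.NT
import Cfsg.Agent.H357.PermOrd
import Cfsg.Agent.H603.SporElim
import Cfsg.Agent.S3765
import Cfsg.Agent.H403.GroupLift
import Cfsg.Agent.R01.Fi22Facts
import Cfsg.Agent.S2119
import Cfsg.Agent.H559.Row.Mathieu
import Cfsg.Agent.H559.SixMain
import Cfsg.Agent.S2466
import Cfsg.Agent.SignalizersComponents.ComponentExists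
import Cfsg.Agent.H559.ActFrob
import Cfsg.Agent.H395.Coclique
import Cfsg.Agent.H414.Adj
import Cfsg.Agent.S0721
import Cfsg.Agent.S3633
import Cfsg.Prelude.Def_KGroupFacts
import Cfsg.Agent.H813.NonCyc
import Cfsg.Agent.H621.LN.Main
import Cfsg.Agent.H168.ExcCoc
import Cfsg.Agent.H72.AdjPSUW
import Cfsg.Agent.S0033
import Cfsg.Agent.H912.KnownSplit
import Cfsg.Prelude.Def_Classification2
import Cfsg.Agent.H341.ThreeList_m3
import Cfsg.Agent.S0253
import Cfsg.Agent.FastGrp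
import Cfsg.Agent.Prune
set_option linter.all false

section
prune_inst 0x7fb0fcf80db825dfffff7e7ffef1dffc1990dfffffdff943bfe02bff0f9f03020bc5fb870de040ff0e46e09410b87813f97eceffe86bdc7ffffd5ff45ffbee0fe5febd8011d698340f3c0ffe63f07f8e7f3fffffffffffffffffffffffffffbeffffffffffff

-- part: H149/Sa/Tab7
section
set_option linter.all false
open scoped Cfsg.Agent.FastGrp

-- part: H149/Sa/Base
section
/-!
# No group of Lie type for the primes of `(n / 2, n]`, `29 ≤ n < 3000`: the check (task 1527, S3397)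

For every prime `r < 3000` a chain of pairs `(a₁, v₁)`, `(a₂, v₂)` of primes with `Rel r a_i v_i`, serving all `n` with
`a₂ ≤ n < min (2 a₁, v₁, v₂)`.
-/

set_option autoImplicit false

namespace Cfsg.Agent.H149.Sa

open Cfsg.Agent.H414.Arith Cfsg.Agent.H414.LieShape Cfsg.Agent.H414.RelB

/-- the check of `Rel` with a primality test `P` -/
def relG (P : ℕ → Bool) (r : ℕ) (c : RC) : Bool :=
  Nat.blt 4 c.u && Nat.blt 4 c.v && P c.v && Nat.beq (pe c.u r c.o) 1 && Nat.beq (pe c.v r c.e) 1 &&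
  Nat.beq (prodl (c.ls.map fun x => (x.1, x.2.1))) c.e &&
  (c.ls.all fun x => P x.1 && Nat.blt 0 x.2.1 && Nat.beq (c.o % x.1 ^ x.2.2) 0 &&
    !(Nat.beq (pe c.u r (x.1 ^ (x.2.1 - 1) * (c.o / x.1 ^ x.2.2))) 1)) &&
  Nat.beq (c.o % 2 ^ c.b2) 0 && Nat.beq (c.o / 2 ^ c.b2 % 2) 1 && Nat.beq (c.e % 2 ^ c.b2) 0 &&
  (Nat.beq c.b2 0 || (Nat.beq (c.e % 2) 0 && Nat.beq (pe c.v r (c.e / 2) + 1) c.v)) &&
  Nat.beq (c.o % 3 ^ c.c3) 0 && !(Nat.beq (c.o / 3 ^ c.c3 % 3) 0) && Nat.beq (c.e % 3 ^ c.c3) 0 &&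
  (Nat.beq c.c3 0 || (Nat.beq (c.e % 3) 0 && !(Nat.beq (pe c.v r (c.e / 3)) 1)))

/-- **The relation from the check.** -/
theorem rel_of_relG {P : ℕ → Bool} (hP : ∀ x, P x = true → x.Prime) {r : ℕ} (hr : r.Prime) {c : RC}
    (hu : c.u.Prime) (hnd : (c.ls.map Prod.fst).Nodup) (h : relG P r c = true) :
    c.v.Prime ∧ 5 ≤ c.v ∧ Rel r c.u c.v := by
  obtain ⟨u, v, o, e, ls, b2, c3⟩ := c
  unfold relG at h
  simp only [Bool.and_eq_true, Nat.blt_eq, Nat.beq_eq, List.all_eq_true, Bool.or_eq_true, Bool.not_eq_true',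
    ← Bool.not_eq_true] at h
  obtain ⟨⟨⟨⟨⟨⟨⟨⟨⟨⟨⟨⟨⟨⟨h1, h2⟩, h3⟩, h4⟩, h5⟩, h6⟩, h7⟩, h8⟩, h9⟩, h10⟩, h11⟩, h12⟩, h13⟩, h14⟩, h15⟩ := h
  change u.Prime at hu
  change (ls.map Prod.fst).Nodup at hnd
  show v.Prime ∧ 5 ≤ v ∧ Rel r u v
  have hv : v.Prime := hP _ h3
  have hfu := Fact.mk hu
  have hfv := Fact.mk hv
  have hr1 : 1 ≤ r := hr.one_lt.le
  have hxo : (r : ZMod u) ^ o = 1 := (pe_eq_one (by omega)).2 (by rw [Nat.beq_eq]; exact h4)
  have hxe : (r : ZMod v) ^ e = 1 := (pe_eq_one (by omega)).2 (by rw [Nat.beq_eq]; exact h5)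
  -- `e ∣ j`
  have hdvd : ∀ j, (r : ZMod u) ^ j = 1 → e ∣ j := by
    intro j hj
    rw [← h6]
    apply prodl_dvd
    · intro x hx
      rw [List.mem_map] at hx
      obtain ⟨y, hy, rfl⟩ := hx
      exact hP _ (h7 y hy).1.1.1
    · rw [List.map_map]
      exact hnd
    · intro x hx
      rw [List.mem_map] at hx
      obtain ⟨y, hy, rfl⟩ := hx
      obtain ⟨⟨⟨a1, a2⟩, a3⟩, a4⟩ := h7 y hy
      refine pow_dvd_of (hP _ a1) a2 (Nat.dvd_of_mod_eq_zero a3) hxo ?_ hj
      rw [Ne, pe_eq_one (by omega), Nat.beq_eq]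
      exact a4
  have htwo : (2 : ZMod u) ≠ 0 := by
    intro h2
    have h3 : ((2 : ℕ) : ZMod u) = 0 := by exact_mod_cast h2
    rw [ZMod.natCast_eq_zero_iff] at h3
    have := Nat.le_of_dvd (by norm_num) h3
    omega
  have hthree : (3 : ZMod u) ≠ 0 := by
    intro h2
    have h3 : ((3 : ℕ) : ZMod u) = 0 := by exact_mod_cast h2
    rw [ZMod.natCast_eq_zero_iff] at h3
    have := Nat.le_of_dvd (by norm_num) h3
    omega
  refine ⟨hv, by omega, ?_, ?_, ?_⟩
  · intro j hj
    rw [dvd_sub_iff hr1] at hj ⊢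
    obtain ⟨t, rfl⟩ := hdvd j hj
    rw [pow_mul, hxe, one_pow]
  · intro j hj
    rw [dvd_add_iff] at hj ⊢
    have hj2 : (r : ZMod u) ^ (2 * j) = 1 := by rw [mul_comm, pow_mul, hj]; ring
    -- `2 ^ b2` does not divide `j`
    have hnd2 : ¬ 2 ^ b2 ∣ j := by
      rintro ⟨w, rfl⟩
      have ha : (r : ZMod u) ^ (2 ^ b2 * w * (o / 2 ^ b2)) = 1 := by
        have h20 : 2 ^ b2 * w * (o / 2 ^ b2) = o * w := by
          have := Nat.div_mul_cancel (Nat.dvd_of_mod_eq_zero h8)
          calc 2 ^ b2 * w * (o / 2 ^ b2) = (o / 2 ^ b2 * 2 ^ b2) * w := by ring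
            _ = o * w := by rw [this]
        rw [h20, pow_mul, hxo, one_pow]
      rw [pow_mul, hj, Odd.neg_one_pow (Nat.odd_iff.2 h9)] at ha
      apply htwo
      have : (1 : ZMod u) - (-1) = 0 := by rw [ha]; ring
      calc (2 : ZMod u) = 1 - (-1) := by ring
        _ = 0 := this
    rcases h11 with h11 | ⟨h11, h16⟩
    · exfalso
      apply hnd2
      rw [h11, pow_zero]
      exact one_dvd _
    · obtain ⟨t, ht⟩ := hdvd _ hj2
      have htodd : Odd t := by
        rw [← Nat.not_even_iff_odd]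
        rintro ⟨s, hs⟩
        apply hnd2
        have h17 : j = e * s := by
          have : 2 * j = 2 * (e * s) := by rw [ht, hs]; ring
          omega
        rw [h17]
        exact (Nat.dvd_of_mod_eq_zero h10).mul_right s
      have h18 : j = e / 2 * t := by
        have h19 := Nat.div_mul_cancel (Nat.dvd_of_mod_eq_zero h11)
        have : 2 * j = 2 * (e / 2 * t) := by
          rw [ht]
          conv_lhs => rw [← h19]
          ring
        omega
      have h19 : (r : ZMod v) ^ (e / 2) = -1 := (pe_eq_neg_one (by omega)).2 (by rw [Nat.beq_eq]; exact h16)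
      rw [h18, pow_mul, h19, Odd.neg_one_pow htodd]
  · intro j hj
    have hcast : ∀ w : ℕ, w ∣ r ^ (8 * j) + r ^ (4 * j) + 1 ↔ ((r : ZMod w) ^ (4 * j)) ^ 2 + (r : ZMod w) ^ (4 * j) + 1 = 0 := by
      intro w
      rw [← ZMod.natCast_eq_zero_iff]
      push_cast
      rw [← pow_mul, show 4 * j * 2 = 8 * j by ring]
    rw [hcast] at hj ⊢
    set x : ZMod u := (r : ZMod u) ^ (4 * j) with hx
    set y : ZMod v := (r : ZMod v) ^ (4 * j) with hy
    have hx3 : x ^ 3 = 1 := by linear_combination (x - 1) * hj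
    have hx1 : x ≠ 1 := by
      intro h1
      rw [h1] at hj
      apply hthree
      calc (3 : ZMod u) = 1 ^ 2 + 1 + 1 := by ring
        _ = 0 := hj
    have h12j : (r : ZMod u) ^ (12 * j) = 1 := by
      rw [show 12 * j = 4 * j * 3 by ring, pow_mul]
      exact hx3
    have hnd3 : ¬ 3 ^ c3 ∣ 4 * j := by
      rintro ⟨w, hw⟩
      apply hx1
      have ha : x ^ (o / 3 ^ c3) = 1 := by
        rw [hx, ← pow_mul, hw]
        have h20 : 3 ^ c3 * w * (o / 3 ^ c3) = o * w := by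
          have := Nat.div_mul_cancel (Nat.dvd_of_mod_eq_zero h12)
          calc 3 ^ c3 * w * (o / 3 ^ c3) = (o / 3 ^ c3 * 3 ^ c3) * w := by ring
            _ = o * w := by rw [this]
        rw [h20, pow_mul, hxo, one_pow]
      have h21 : orderOf x ∣ 3 := orderOf_dvd_of_pow_eq_one hx3
      have h22 : orderOf x ∣ o / 3 ^ c3 := orderOf_dvd_of_pow_eq_one ha
      rcases (Nat.dvd_prime Nat.prime_three).1 h21 with h23 | h23
      · exact orderOf_eq_one_iff.1 h23
      · exfalso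
        rw [h23] at h22
        exact h13 (Nat.mod_eq_zero_of_dvd h22)
    rcases h15 with h15 | ⟨h15, h16⟩
    · exfalso
      apply hnd3
      rw [h15, pow_zero]
      exact one_dvd _
    · obtain ⟨t, ht⟩ := hdvd _ h12j
      have ht3 : ¬ 3 ∣ t := by
        rintro ⟨s, hs⟩
        apply hnd3
        have h17 : 4 * j = e * s := by
          have : 3 * (4 * j) = 3 * (e * s) := by rw [← mul_assoc, show 3 * 4 * j = 12 * j by ring, ht, hs]; ring
          omega
        rw [h17]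
        exact (Nat.dvd_of_mod_eq_zero h14).mul_right s
      have h18 : 4 * j = e / 3 * t := by
        have h19 := Nat.div_mul_cancel (Nat.dvd_of_mod_eq_zero h15)
        have : 3 * (4 * j) = 3 * (e / 3 * t) := by
          rw [show 3 * (4 * j) = 12 * j by ring, ht]
          conv_lhs => rw [← h19]
          ring
        omega
      set w : ZMod v := (r : ZMod v) ^ (e / 3) with hw
      have hw1 : w ≠ 1 := by
        rw [hw, Ne, pe_eq_one (by omega), Nat.beq_eq]
        exact h16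
      have hw3 : w ^ 3 = 1 := by
        rw [hw, ← pow_mul, Nat.div_mul_cancel (Nat.dvd_of_mod_eq_zero h15), hxe]
      have hyw : y = w ^ t := by rw [hy, h18, pow_mul]
      have hy1 : y ≠ 1 := by
        rw [hyw]
        intro h1
        have h21 : orderOf w ∣ 3 := orderOf_dvd_of_pow_eq_one hw3
        have h22 : orderOf w ∣ t := orderOf_dvd_of_pow_eq_one h1
        rcases (Nat.dvd_prime Nat.prime_three).1 h21 with h23 | h23
        · exact hw1 (orderOf_eq_one_iff.1 h23)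
        · rw [h23] at h22
          exact ht3 h22
      have hy3 : y ^ 3 = 1 := by rw [hyw, ← pow_mul, mul_comm, pow_mul, hw3, one_pow]
      have h24 : (y - 1) * (y ^ 2 + y + 1) = 0 := by linear_combination hy3
      rcases mul_eq_zero.1 h24 with h25 | h25
      · exact absurd (sub_eq_zero.1 h25) hy1
      · exact h25



/-! ### primality -/

/-- primality test for the certificates -/
def PP (x : ℕ) : Bool :=
  Cfsg.Agent.H357.Cheb.isP x || Nat.beq x 2 || Nat.beq x 3 || Nat.beq x 159871 || Nat.beq x 169553 ||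
    Nat.beq x 591163 || Nat.beq x 1270657 || Nat.beq x 7792003 || Nat.beq x 5336717 || Nat.beq x 10435069

theorem prime_of_PP (x : ℕ) (h : PP x = true) : x.Prime := by
  unfold PP at h
  simp only [Bool.or_eq_true, Nat.beq_eq] at h
  rcases h with ((((((((h | rfl) | rfl) | rfl) | rfl) | rfl) | rfl) | rfl) | rfl) | rfl
  · exact Cfsg.Agent.H357.Cheb.prime_of_isP h
  · exact Nat.prime_two
  · exact Nat.prime_three
  all_goals norm_num

/-! ### the chains -/

/-- strictly increasing first components -/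
def incB : ℕ → List (ℕ × ℕ × ℕ) → Bool
  | _, [] => true
  | x, y :: l => Nat.blt x y.1 && incB y.1 l

theorem lt_of_incB : ∀ {l : List (ℕ × ℕ × ℕ)} {x : ℕ}, incB x l = true → ∀ y ∈ l, x < y.1
  | [], _, _ => by simp
  | y :: l, x, h => by
    unfold incB at h
    rw [Bool.and_eq_true, Nat.blt_eq] at h
    intro z hz
    rcases List.mem_cons.1 hz with rfl | hz
    · exact h.1
    · exact h.1.trans (lt_of_incB h.2 z hz)

theorem nodup_of_incB : ∀ {l : List (ℕ × ℕ × ℕ)} {x : ℕ}, incB x l = true → (l.map Prod.fst).Nodup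
  | [], _, _ => by simp
  | y :: l, x, h => by
    unfold incB at h
    rw [Bool.and_eq_true, Nat.blt_eq] at h
    rw [List.map_cons, List.nodup_cons]
    refine ⟨?_, nodup_of_incB h.2⟩
    intro hm
    obtain ⟨z, hz, hzy⟩ := List.mem_map.1 hm
    have := lt_of_incB h.2 z hz
    omega

/-- one entry: the primes `a₁ < a₂`, and the new bound -/
def entB (r x : ℕ) (c : RC × RC × ℕ) : Bool :=
  Nat.ble c.2.1.u x && Nat.blt c.1.u c.2.1.u && PP c.1.u && PP c.2.1.u && !(Nat.beq c.1.u r) &&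
    !(Nat.beq c.2.1.u r) && relG PP r c.1 && relG PP r c.2.1 && incB 1 c.1.ls && incB 1 c.2.1.ls &&
    Nat.ble c.2.2 (2 * c.1.u) && Nat.ble c.2.2 c.1.v && Nat.ble c.2.2 c.2.1.v

/-- a chain of entries from `x` up to `3000` -/
def coverB (r : ℕ) : ℕ → List (RC × RC × ℕ) → Bool
  | x, [] => Nat.ble 3000 x
  | x, c :: l => entB r x c && coverB r c.2.2 l

/-- the conclusion for `n` and `r` -/
def Pair (n r : ℕ) : Prop :=
  ∃ a₁ v₁ a₂ v₂ : ℕ, a₁ < a₂ ∧ n < 2 * a₁ ∧ a₂ ≤ n ∧ a₁.Prime ∧ a₂.Prime ∧ a₁ ≠ r ∧ a₂ ≠ r ∧ v₁.Prime ∧ v₂.Prime ∧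
    5 ≤ v₁ ∧ 5 ≤ v₂ ∧ n < v₁ ∧ n < v₂ ∧ Rel r a₁ v₁ ∧ Rel r a₂ v₂

theorem pair_of_entB {r x n : ℕ} {c : RC × RC × ℕ} (hr : r.Prime) (h : entB r x c = true) (hx : x ≤ n)
    (hn : n < c.2.2) : Pair n r := by
  obtain ⟨c1, c2, y⟩ := c
  unfold entB at h
  simp only [Bool.and_eq_true, Nat.blt_eq, Nat.ble_eq, Bool.not_eq_true', ← Bool.not_eq_true, Nat.beq_eq] at h
  obtain ⟨⟨⟨⟨⟨⟨⟨⟨⟨⟨⟨⟨h1, h2⟩, h3⟩, h4⟩, h5⟩, h6⟩, h7⟩, h8⟩, h9⟩, h10⟩, h11⟩, h12⟩, h13⟩ := h
  change n < y at hn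
  have hp1 := prime_of_PP _ h3
  have hp2 := prime_of_PP _ h4
  obtain ⟨a1, a2, a3⟩ := rel_of_relG prime_of_PP hr hp1 (nodup_of_incB h9) h7
  obtain ⟨b1, b2, b3⟩ := rel_of_relG prime_of_PP hr hp2 (nodup_of_incB h10) h8
  exact ⟨c1.u, c1.v, c2.u, c2.v, h2, by omega, by omega, hp1, hp2, h5, h6, a1, b1, a2, b2, by omega, by omega, a3, b3⟩

theorem pair_of_coverB {r n : ℕ} (hr : r.Prime) (hn : n < 3000) : ∀ {l : List (RC × RC × ℕ)} {x : ℕ},
    coverB r x l = true → x ≤ n → Pair n r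
  | [], x, h, hx => by
    unfold coverB at h
    rw [Nat.ble_eq] at h
    omega
  | c :: l, x, h, hx => by
    unfold coverB at h
    rw [Bool.and_eq_true] at h
    by_cases hc : n < c.2.2
    · exact pair_of_entB hr h.1 hx hc
    · exact pair_of_coverB hr hn h.2 (by omega)

/-- a table: characteristics with their chains -/
def tabB (t : List (ℕ × List (RC × RC × ℕ))) : Bool :=
  t.all fun y => coverB y.1 (bif Nat.blt y.1 29 then 29 else y.1) y.2

theorem pair_of_tabB {t : List (ℕ × List (RC × RC × ℕ))} (h : tabB t = true) {r n : ℕ} (hr : r.Prime)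
    (h29 : 29 ≤ n) (hrn : r ≤ n) (hn : n < 3000) (hm : r ∈ t.map Prod.fst) : Pair n r := by
  obtain ⟨y, hy, rfl⟩ := List.mem_map.1 hm
  unfold tabB at h
  rw [List.all_eq_true] at h
  refine pair_of_coverB hr hn (h y hy) ?_
  cases Nat.blt y.1 29
  · exact hrn
  · exact h29

/-- the conclusion -/
theorem no_lie_of_pair {n c r : ℕ} (hP : Pair n r) (hr : r.Prime)
    (hS : Shape r c) (hsm : ∀ p : ℕ, p.Prime → p ∣ c → p ≤ n) (t₀ : ℕ)
    (hT : ∀ p ∈ Cfsg.Agent.H357.Sp.T n, p ≠ t₀ → p ∣ c) : False := by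
  obtain ⟨a₁, v₁, a₂, v₂, h1, h2, h3, hp1, hp2, h4, h5, hq1, hq2, h6, h7, h8, h9, R1, R2⟩ := hP
  have m1 : a₁ ∈ Cfsg.Agent.H357.Sp.T n := Finset.mem_filter.2 ⟨Finset.mem_Ioc.2 ⟨by omega, by omega⟩, hp1⟩
  have m2 : a₂ ∈ Cfsg.Agent.H357.Sp.T n := Finset.mem_filter.2 ⟨Finset.mem_Ioc.2 ⟨by omega, by omega⟩, hp2⟩
  by_cases ht : a₁ = t₀
  · have := hsm v₂ hq2 (hS.dvd hr hp2 h5 hq2 h7 R2 (hT a₂ m2 (by omega)))
    omega
  · have := hsm v₁ hq1 (hS.dvd hr hp1 h4 hq1 h6 R1 (hT a₁ m1 ht))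
    omega

end Cfsg.Agent.H149.Sa
end

-- part: H149/Sa/Tab7
section
/-!
# Certificates, part 7 (task 1527)
-/

set_option autoImplicit false
set_option maxRecDepth 20000

namespace Cfsg.Agent.H149.Sa

open Cfsg.Agent.H414.RelB

/-- certificates -/
def tab7 : List (ℕ × List (RC × RC × ℕ)) := [
  (1999, [(⟨1987,5297,662,662,[(2,1,1),(331,1,1)],1,0⟩,⟨1997,7213,1996,4,[(2,2,2)],2,0⟩,3974)]),
  (2003, [(⟨1987,15889,993,993,[(3,1,1),(331,1,1)],0,1⟩,⟨1993,26561,664,664,[(2,3,3),(83,1,1)],3,0⟩,3974)]),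
  (2011, [(⟨1993,10477,332,4,[(2,2,2)],2,0⟩,⟨1997,10477,1996,4,[(2,2,2)],2,0⟩,3986)]),
  (2017, [(⟨2003,6007,1001,1001,[(7,1,1),(11,1,1),(13,1,1)],0,0⟩,⟨2011,4691,335,67,[(67,1,1)],0,0⟩,4006)]),
  (2027, [(⟨2011,4021,201,201,[(3,1,1),(67,1,1)],0,1⟩,⟨2017,32257,2016,2016,[(2,5,5),(3,2,2),(7,1,1)],5,2⟩,4021)]),
  (2029, [(⟨2011,5227,2010,402,[(2,1,1),(3,1,1),(67,1,1)],1,1⟩,⟨2027,6079,2026,2026,[(2,1,1),(1013,1,1)],1,0⟩,4022)]),
  (2039, [(⟨2027,30391,1013,1013,[(1013,1,1)],0,0⟩,⟨2029,37501,2028,12,[(2,2,2),(3,1,1)],2,1⟩,4054)]),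
  (2053, [(⟨2027,6079,2026,2026,[(2,1,1),(1013,1,1)],1,0⟩,⟨2029,6761,676,676,[(2,2,2),(13,2,2)],2,0⟩,4054)]),
  (2063, [(⟨2027,12157,1013,1013,[(1013,1,1)],0,0⟩,⟨2053,6841,342,342,[(2,1,1),(3,2,2),(19,1,1)],1,2⟩,4054)]),
  (2069, [(⟨2003,6553,1001,91,[(7,1,1),(13,1,1)],0,0⟩,⟨2053,35911,513,513,[(3,3,3),(19,1,1)],0,3⟩,4006)]),
  (2081, [(⟨2011,4099,1005,3,[(3,1,1)],0,1⟩,⟨2069,8273,2068,2068,[(2,2,2),(11,1,1),(47,1,1)],2,0⟩,4022)]),
  (2083, [(⟨2063,57737,2062,2062,[(2,1,1),(1031,1,1)],1,0⟩,⟨2069,8933,2068,44,[(2,2,2),(11,1,1)],2,0⟩,4126)]),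
  (2087, [(⟨2069,25621,2068,4,[(2,2,2)],2,0⟩,⟨2083,8329,1041,1041,[(3,1,1),(347,1,1)],0,1⟩,4138)]),
  (2089, [(⟨2029,5851,169,13,[(13,1,2)],0,0⟩,⟨2081,7841,1040,80,[(2,4,4),(5,1,1)],4,0⟩,4058)]),
  (2099, [(⟨2083,15913,1041,3,[(3,1,1)],0,1⟩,⟨2087,12517,1043,1043,[(7,1,1),(149,1,1)],0,0⟩,4166)]),
  (2111, [(⟨2081,11969,2080,32,[(2,5,5)],5,0⟩,⟨2087,33377,1043,1043,[(7,1,1),(149,1,1)],0,0⟩,4162)]),
  (2113, [(⟨2053,58537,2052,108,[(2,2,2),(3,3,3)],2,3⟩,⟨2069,8273,1034,1034,[(2,1,1),(11,1,1),(47,1,1)],1,0⟩,4106)]),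
  (2129, [(⟨2069,4597,2068,4,[(2,2,2)],2,0⟩,⟨2087,12517,2086,298,[(2,1,1),(149,1,1)],1,0⟩,4138)]),
  (2131, [(⟨2113,13729,528,528,[(2,4,4),(3,1,1),(11,1,1)],4,1⟩,⟨2129,22481,532,4,[(2,2,2)],2,0⟩,4226)]),
  (2137, [(⟨2129,11933,532,76,[(2,2,2),(19,1,1)],2,0⟩,⟨2131,31081,1065,3,[(3,1,1)],0,1⟩,4258)]),
  (2141, [(⟨2111,6121,1055,5,[(5,1,1)],0,0⟩,⟨2129,55889,112,112,[(2,4,4),(7,1,1)],4,0⟩,4222)]),
  (2143, [(⟨2087,11027,2086,298,[(2,1,1),(149,1,1)],1,0⟩,⟨2113,19073,704,64,[(2,6,6)],6,0⟩,4174)]),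
  (2153, [(⟨2129,4561,2128,304,[(2,4,4),(19,1,1)],4,0⟩,⟨2143,7057,2142,126,[(2,1,1),(3,2,2),(7,1,1)],1,2⟩,4258)]),
  (2161, [(⟨2141,20759,535,107,[(107,1,1)],0,0⟩,⟨2143,35407,63,63,[(3,2,2),(7,1,1)],0,2⟩,4282)]),
  (2179, [(⟨2143,10099,1071,153,[(3,2,2),(17,1,1)],0,2⟩,⟨2161,20521,1080,1080,[(2,3,3),(3,3,3),(5,1,1)],3,3⟩,4286)]),
  (2203, [(⟨2143,16843,119,7,[(7,1,1)],0,0⟩,⟨2179,7019,121,121,[(11,2,2)],0,0⟩,4286)]),
  (2207, [(⟨2161,19441,80,80,[(2,4,4),(5,1,1)],4,0⟩,⟨2179,8713,2178,2178,[(2,1,1),(3,2,2),(11,2,2)],1,2⟩,4322)]),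
  (2213, [(⟨2153,4493,1076,4,[(2,2,2)],2,0⟩,⟨2161,4493,20,4,[(2,2,2)],2,0⟩,4306)]),
  (2221, [(⟨2207,48533,2206,2206,[(2,1,1),(1103,1,1)],1,0⟩,⟨2213,8849,2212,2212,[(2,2,2),(7,1,1),(79,1,1)],2,0⟩,4414)]),
  (2237, [(⟨2213,33181,1106,1106,[(2,1,1),(7,1,1),(79,1,1)],1,0⟩,⟨2221,23071,555,3,[(3,1,1)],0,1⟩,4426)]),
  (2239, [(⟨2179,56629,2178,2178,[(2,1,1),(3,2,2),(11,2,2)],1,2⟩,⟨2237,6709,2236,2236,[(2,2,2),(13,1,1),(43,1,1)],2,0⟩,4358)]),
  (2243, [(⟨2213,6469,2212,28,[(2,2,2),(7,1,1)],2,0⟩,⟨2237,13417,559,559,[(13,1,1),(43,1,1)],0,0⟩,4426)]),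
  (2251, [(⟨2239,15667,2238,2238,[(2,1,1),(3,1,1),(373,1,1)],1,1⟩,⟨2243,20297,2242,118,[(2,1,1),(59,1,1)],1,0⟩,4478)]),
  (2267, [(⟨2179,9439,363,363,[(3,1,1),(11,2,2)],0,1⟩,⟨2239,31333,1119,1119,[(3,1,1),(373,1,1)],0,1⟩,4358)]),
  (2269, [(⟨2221,7699,555,3,[(3,1,1)],0,1⟩,⟨2251,8737,750,6,[(2,1,1),(3,1,1)],1,1⟩,4442)]),
  (2273, [(⟨2251,28031,250,10,[(2,1,1),(5,1,3)],1,0⟩,⟨2267,7481,2266,22,[(2,1,1),(11,1,1)],1,0⟩,4502)]),
  (2281, [(⟨2243,15467,1121,19,[(19,1,1)],0,0⟩,⟨2251,7741,225,9,[(3,2,2)],0,2⟩,4486)]),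
  (2287, [(⟨2273,37409,2272,32,[(2,5,5)],5,0⟩,⟨2281,19381,1140,1140,[(2,2,2),(3,1,1),(5,1,1),(19,1,1)],2,1⟩,4546)]),
  (2293, [(⟨2243,44537,2242,38,[(2,1,1),(19,1,1)],1,0⟩,⟨2281,6841,1140,60,[(2,2,2),(3,1,1),(5,1,1)],2,1⟩,4486)]),
  (2297, [(⟨2281,15277,95,19,[(19,1,1)],0,0⟩,⟨2293,22921,1146,1146,[(2,1,1),(3,1,1),(191,1,1)],1,1⟩,4562)]),
  (2309, [(⟨2287,8317,1143,9,[(3,2,2)],0,2⟩,⟨2297,22961,2296,2296,[(2,3,3),(7,1,1),(41,1,1)],3,0⟩,4574)]),
  (2311, [(⟨2297,10333,287,287,[(7,1,1),(41,1,1)],0,0⟩,⟨2309,6529,2308,4,[(2,2,2)],2,0⟩,4594)]),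
  (2333, [(⟨2297,11317,1148,164,[(2,2,2),(41,1,1)],2,0⟩,⟨2311,10711,770,70,[(2,1,1),(5,1,1),(7,1,1)],1,0⟩,4594)]),
  (2339, [(⟨2311,8317,2310,462,[(2,1,1),(3,1,1),(7,1,1),(11,1,1)],1,1⟩,⟨2333,8693,1166,106,[(2,1,1),(53,1,1)],1,0⟩,4622)]),
  (2341, [(⟨2333,6997,2332,2332,[(2,2,2),(11,1,1),(53,1,1)],2,0⟩,⟨2339,6287,2338,14,[(2,1,1),(7,1,1)],1,0⟩,4666)]),
  (2347, [(⟨2297,9689,287,7,[(7,1,1)],0,0⟩,⟨2311,9689,35,7,[(7,1,1)],0,0⟩,4594)]),
  (2351, [(⟨2341,9829,2340,468,[(2,2,2),(3,2,2),(13,1,1)],2,2⟩,⟨2347,15641,391,391,[(17,1,1),(23,1,1)],0,0⟩,4682)]),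
  (2357, [(⟨2347,15733,1173,69,[(3,1,1),(23,1,1)],0,1⟩,⟨2351,5171,1175,235,[(5,1,2),(47,1,1)],0,0⟩,4694)]),
  (2371, [(⟨2347,43597,51,3,[(3,1,1)],0,1⟩,⟨2351,28201,1175,235,[(5,1,2),(47,1,1)],0,0⟩,4694)]),
  (2377, [(⟨2351,5923,2350,94,[(2,1,1),(47,1,1)],1,0⟩,⟨2357,7069,2356,2356,[(2,2,2),(19,1,1),(31,1,1)],2,0⟩,4702)]),
  (2381, [(⟨2371,43609,2370,474,[(2,1,1),(3,1,1),(79,1,1)],1,1⟩,⟨2377,7723,594,54,[(2,1,1),(3,3,3)],1,3⟩,4742)]),
  (2383, [(⟨2371,12781,2370,30,[(2,1,1),(3,1,1),(5,1,1)],1,1⟩,⟨2381,18313,476,28,[(2,2,2),(7,1,1)],2,0⟩,4742)]),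
  (2389, [(⟨2371,33757,474,6,[(2,1,1),(3,1,1)],1,1⟩,⟨2381,6121,476,68,[(2,2,2),(17,1,1)],2,0⟩,4742)]),
  (2393, [(⟨2371,51193,2370,474,[(2,1,1),(3,1,1),(79,1,1)],1,1⟩,⟨2381,6737,2380,4,[(2,2,2)],2,0⟩,4742)]),
  (2399, [(⟨2381,8821,2380,20,[(2,2,2),(5,1,1)],2,0⟩,⟨2393,11897,2392,8,[(2,3,3)],3,0⟩,4762)]),
  (2411, [(⟨2381,16253,85,17,[(17,1,1)],0,0⟩,⟨2393,26497,1196,92,[(2,2,2),(23,1,1)],2,0⟩,4762)]),
  (2417, [(⟨2383,4903,2382,6,[(2,1,1),(3,1,1)],1,1⟩,⟨2389,11437,597,3,[(3,1,1)],0,1⟩,4766)]),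
  (2423, [(⟨2399,9043,1199,11,[(11,1,1)],0,0⟩,⟨2417,11969,2416,16,[(2,4,4)],4,0⟩,4798)]),
  (2437, [(⟨2393,49177,2392,8,[(2,3,3)],3,0⟩,⟨2399,16787,2398,2398,[(2,1,1),(11,1,1),(109,1,1)],1,0⟩,4786)]),
  (2441, [(⟨2411,14461,2410,482,[(2,1,1),(241,1,1)],1,0⟩,⟨2437,21817,1218,6,[(2,1,1),(3,1,1)],1,1⟩,4822)]),
  (2447, [(⟨2399,5669,1199,109,[(109,1,1)],0,0⟩,⟨2423,9689,1211,1211,[(7,1,1),(173,1,1)],0,0⟩,4798)]),
  (2459, [(⟨2437,6217,609,3,[(3,1,1)],0,1⟩,⟨2441,53681,1220,1220,[(2,2,2),(5,1,1),(61,1,1)],2,0⟩,4874)]),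
  (2467, [(⟨2411,38561,2410,2410,[(2,1,1),(5,1,1),(241,1,1)],1,0⟩,⟨2441,15739,61,61,[(61,1,1)],0,0⟩,4822)]),
  (2473, [(⟨2447,36691,1223,1223,[(1223,1,1)],0,0⟩,⟨2467,23581,9,9,[(3,2,2)],0,2⟩,4894)]),
  (2477, [(⟨2441,21157,1220,4,[(2,2,2)],2,0⟩,⟨2473,38317,309,309,[(3,1,1),(103,1,1)],0,1⟩,4882)]),
  (2503, [(⟨2437,22129,1218,6,[(2,1,1),(3,1,1)],1,1⟩,⟨2459,17207,1229,1229,[(1229,1,1)],0,0⟩,4874)]),
  (2521, [(⟨2441,34283,305,61,[(61,1,1)],0,0⟩,⟨2477,59957,2476,4,[(2,2,2)],2,0⟩,4882)]),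
  (2531, [(⟨2447,61151,2446,2446,[(2,1,1),(1223,1,1)],1,0⟩,⟨2521,6121,630,90,[(2,1,1),(3,2,2),(5,1,1)],1,2⟩,4894)]),
  (2539, [(⟨2503,10009,1251,1251,[(3,2,2),(139,1,1)],0,2⟩,⟨2521,43261,420,420,[(2,2,2),(3,1,1),(5,1,1),(7,1,1)],2,1⟩,5006)]),
  (2543, [(⟨2477,9949,2476,4,[(2,2,2)],2,0⟩,⟨2531,14771,115,5,[(5,1,1)],0,0⟩,4954)]),
  (2549, [(⟨2521,34211,35,5,[(5,1,1)],0,0⟩,⟨2539,5347,2538,54,[(2,1,1),(3,3,3)],1,3⟩,5042)]),
  (2551, [(⟨2503,8713,2502,18,[(2,1,1),(3,2,2)],1,2⟩,⟨2531,5171,1265,55,[(5,1,1),(11,1,1)],0,0⟩,5006)]),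
  (2557, [(⟨2549,15289,2548,196,[(2,2,2),(7,2,2)],2,0⟩,⟨2551,14281,2550,510,[(2,1,1),(3,1,1),(5,1,2),(17,1,1)],1,1⟩,5098)]),
  (2579, [(⟨2521,16633,2520,72,[(2,3,3),(3,2,2)],3,2⟩,⟨2549,17669,1274,14,[(2,1,1),(7,1,2)],1,0⟩,5042)]),
  (2591, [(⟨2549,15809,637,13,[(13,1,1)],0,0⟩,⟨2551,15121,255,15,[(3,1,1),(5,1,1)],0,1⟩,5098)]),
  (2593, [(⟨2579,18047,2578,2578,[(2,1,1),(1289,1,1)],1,0⟩,⟨2591,8807,1295,259,[(7,1,1),(37,1,1)],0,0⟩,5158)]),
  (2609, [(⟨2531,54419,2530,46,[(2,1,1),(23,1,1)],1,0⟩,⟨2551,5441,425,17,[(17,1,1)],0,0⟩,5062)]),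
  (2617, [(⟨2557,7669,2556,2556,[(2,2,2),(3,2,2),(71,1,1)],2,2⟩,⟨2609,49937,1304,8,[(2,3,3)],3,0⟩,5114)]),
  (2621, [(⟨2557,11503,426,426,[(2,1,1),(3,1,1),(71,1,1)],1,1⟩,⟨2609,5281,2608,16,[(2,4,4)],4,0⟩,5114)]),
  (2633, [(⟨2551,6451,1275,75,[(3,1,1),(5,2,2)],0,1⟩,⟨2593,10369,864,864,[(2,5,5),(3,3,3)],5,3⟩,5102)]),
  (2647, [(⟨2609,41953,1304,8,[(2,3,3)],3,0⟩,⟨2633,53897,1316,4,[(2,2,2)],2,0⟩,5218)]),
  (2657, [(⟨2591,9311,1295,35,[(5,1,1),(7,1,1)],0,0⟩,⟨2609,41729,2608,2608,[(2,4,4),(163,1,1)],4,0⟩,5182)]),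
  (2659, [(⟨2621,27773,655,131,[(131,1,1)],0,0⟩,⟨2633,5641,2632,376,[(2,3,3),(47,1,1)],3,0⟩,5242)]),
  (2663, [(⟨2591,5741,1295,35,[(5,1,1),(7,1,1)],0,0⟩,⟨2633,7333,1316,188,[(2,2,2),(47,1,1)],2,0⟩,5182)]),
  (2671, [(⟨2659,53161,886,886,[(2,1,1),(443,1,1)],1,0⟩,⟨2663,13751,1331,11,[(11,1,3)],0,0⟩,5318)]),
  (2677, [(⟨2657,26177,2656,32,[(2,5,5)],5,0⟩,⟨2671,5519,890,178,[(2,1,1),(89,1,1)],1,0⟩,5314)]),
  (2683, [(⟨2671,19403,890,178,[(2,1,1),(89,1,1)],1,0⟩,⟨2677,55373,892,4,[(2,2,2)],2,0⟩,5342)]),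
  (2687, [(⟨2647,9829,2646,54,[(2,1,1),(3,3,3)],1,3⟩,⟨2657,39841,1328,16,[(2,4,4)],4,0⟩,5294)]),
  (2689, [(⟨2591,7549,1295,37,[(37,1,1)],0,0⟩,⟨2621,9433,2620,524,[(2,2,2),(131,1,1)],2,0⟩,5182)]),
  (2693, [(⟨2683,36457,447,3,[(3,1,1)],0,1⟩,⟨2687,32233,1343,1343,[(17,1,1),(79,1,1)],0,0⟩,5366)]),
  (2699, [(⟨2671,6481,2670,30,[(2,1,1),(3,1,1),(5,1,1)],1,1⟩,⟨2687,8059,1343,1343,[(17,1,1),(79,1,1)],0,0⟩,5342)]),
  (2707, [(⟨2687,18803,2686,2686,[(2,1,1),(17,1,1),(79,1,1)],1,0⟩,⟨2699,7669,2698,142,[(2,1,1),(71,1,1)],1,0⟩,5374)]),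
  (2711, [(⟨2689,8641,1344,192,[(2,6,6),(3,1,1)],6,1⟩,⟨2707,28387,1353,3,[(3,1,1)],0,1⟩,5378)]),
  (2713, [(⟨2699,7243,1349,71,[(71,1,1)],0,0⟩,⟨2707,58631,451,451,[(11,1,1),(41,1,1)],0,0⟩,5398)]),
  (2719, [(⟨2689,22721,448,64,[(2,6,6)],6,0⟩,⟨2699,13633,1349,71,[(71,1,1)],0,0⟩,5378)]),
  (2729, [(⟨2689,20161,336,336,[(2,4,4),(3,1,1),(7,1,1)],4,1⟩,⟨2719,28657,1359,9,[(3,2,2)],0,2⟩,5378)]),
  (2731, [(⟨2707,30013,1353,123,[(3,1,1),(41,1,1)],0,1⟩,⟨2713,48817,1356,1356,[(2,2,2),(3,1,1),(113,1,1)],2,1⟩,5414)]),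
  (2741, [(⟨2719,30403,1359,9,[(3,2,2)],0,2⟩,⟨2731,6007,2730,546,[(2,1,1),(3,1,1),(7,1,1),(13,1,1)],1,1⟩,5438)]),
  (2749, [(⟨2719,5437,302,302,[(2,1,1),(151,1,1)],1,0⟩,⟨2731,5851,2730,78,[(2,1,1),(3,1,1),(13,1,1)],1,1⟩,5437)]),
  (2753, [(⟨2731,34939,1365,3,[(3,1,1)],0,1⟩,⟨2741,6577,548,548,[(2,2,2),(137,1,1)],2,0⟩,5462)]),
  (2767, [(⟨2713,45427,339,339,[(3,1,1),(113,1,1)],0,1⟩,⟨2719,9967,302,302,[(2,1,1),(151,1,1)],1,0⟩,5426)]),
  (2777, [(⟨2749,41221,916,916,[(2,2,2),(229,1,1)],2,0⟩,⟨2767,13831,2766,2766,[(2,1,1),(3,1,1),(461,1,1)],1,1⟩,5498)]),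
  (2789, [(⟨2741,55661,2740,20,[(2,2,2),(5,1,1)],2,0⟩,⟨2777,39041,2776,8,[(2,3,3)],3,0⟩,5482)]),
  (2791, [(⟨2777,19433,2776,2776,[(2,3,3),(347,1,1)],3,0⟩,⟨2789,40153,2788,4,[(2,2,2)],2,0⟩,5554)]),
  (2797, [(⟨2777,19433,2776,2776,[(2,3,3),(347,1,1)],3,0⟩,⟨2789,19081,2788,4,[(2,2,2)],2,0⟩,5554)]),
  (2801, [(⟨2749,10993,2748,2748,[(2,2,2),(3,1,1),(229,1,1)],2,1⟩,⟨2753,41281,2752,2752,[(2,6,6),(43,1,1)],6,0⟩,5498)]),
  (2803, [(⟨2791,11071,2790,90,[(2,1,1),(3,2,2),(5,1,1)],1,2⟩,⟨2801,13001,1400,40,[(2,3,3),(5,1,2)],3,0⟩,5582)]),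
  (2819, [(⟨2749,22901,458,458,[(2,1,1),(229,1,1)],1,0⟩,⟨2801,62581,140,20,[(2,2,2),(5,1,1)],2,0⟩,5498)]),
  (2833, [(⟨2797,8389,1398,1398,[(2,1,1),(3,1,1),(233,1,1)],1,1⟩,⟨2801,9521,280,280,[(2,3,3),(5,1,1),(7,1,1)],3,0⟩,5594)]),
  (2837, [(⟨2803,17761,2802,6,[(2,1,1),(3,1,1)],1,1⟩,⟨2833,5783,59,59,[(59,1,1)],0,0⟩,5606)]),
  (2843, [(⟨2789,5741,697,41,[(41,1,1)],0,0⟩,⟨2819,28181,2818,2818,[(2,1,1),(1409,1,1)],1,0⟩,5578)]),
  (2851, [(⟨2837,8893,2836,4,[(2,2,2)],2,0⟩,⟨2843,18229,2842,98,[(2,1,1),(7,2,2)],1,0⟩,5674)]),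
  (2857, [(⟨2843,17053,1421,1421,[(7,2,2),(29,1,1)],0,0⟩,⟨2851,5881,1425,15,[(3,1,1),(5,1,2)],0,1⟩,5686)]),
  (2861, [(⟨2851,9007,2850,114,[(2,1,1),(3,1,1),(19,1,1)],1,1⟩,⟨2857,19891,51,51,[(3,1,1),(17,1,1)],0,1⟩,5702)]),
  (2879, [(⟨2851,12503,950,38,[(2,1,1),(19,1,1)],1,0⟩,⟨2861,14741,2860,44,[(2,2,2),(11,1,1)],2,0⟩,5702)]),
  (2887, [(⟨2851,16417,1425,57,[(3,1,1),(19,1,1)],0,1⟩,⟨2857,8641,2856,24,[(2,3,3),(3,1,1)],3,1⟩,5702)]),
  (2897, [(⟨2851,20521,2850,570,[(2,1,1),(3,1,1),(5,1,2),(19,1,1)],1,1⟩,⟨2887,17239,2886,78,[(2,1,1),(3,1,1),(13,1,1)],1,1⟩,5702)]),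
  (2903, [(⟨2851,7297,1425,57,[(3,1,1),(19,1,1)],0,1⟩,⟨2887,8161,1443,3,[(3,1,1)],0,1⟩,5702)]),
  (2909, [(⟨2879,20147,1439,1439,[(1439,1,1)],0,0⟩,⟨2887,6997,2886,6,[(2,1,1),(3,1,1)],1,1⟩,5758)]),
  (2917, [(⟨2887,29251,481,13,[(13,1,1)],0,0⟩,⟨2909,11633,2908,2908,[(2,2,2),(727,1,1)],2,0⟩,5774)]),
  (2927, [(⟨2887,6781,222,6,[(2,1,1),(3,1,1)],1,1⟩,⟨2897,8689,1448,1448,[(2,3,3),(181,1,1)],3,0⟩,5774)]),
  (2939, [(⟨2887,10687,1443,39,[(3,1,1),(13,1,1)],0,1⟩,⟨2909,20357,727,727,[(727,1,1)],0,0⟩,5774)]),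
  (2953, [(⟨2887,27529,1443,111,[(3,1,1),(37,1,1)],0,1⟩,⟨2927,8779,2926,154,[(2,1,1),(7,1,1),(11,1,1)],1,0⟩,5774)]),
  (2957, [(⟨2927,11677,2926,14,[(2,1,1),(7,1,1)],1,0⟩,⟨2939,44071,2938,2938,[(2,1,1),(13,1,1),(113,1,1)],1,0⟩,5854)]),
  (2963, [(⟨2927,29723,1463,77,[(7,1,1),(11,1,1)],0,0⟩,⟨2953,26209,984,24,[(2,3,3),(3,1,1)],3,1⟩,5854)]),
  (2969, [(⟨2927,6007,2926,154,[(2,1,1),(7,1,1),(11,1,1)],1,0⟩,⟨2939,6397,2938,26,[(2,1,1),(13,1,1)],1,0⟩,5854)]),
  (2971, [(⟨2927,9439,2926,22,[(2,1,1),(11,1,1)],1,0⟩,⟨2939,44071,2938,2938,[(2,1,1),(13,1,1),(113,1,1)],1,0⟩,5854)]),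
  (2999, [(⟨2963,8887,1481,1481,[(1481,1,1)],0,0⟩,⟨2971,34471,495,45,[(3,2,2),(5,1,1)],0,2⟩,5926)])]

theorem tab7_ok : tabB tab7 = true := by decide +kernel

end Cfsg.Agent.H149.Sa
end

private theorem dce_9c043c555b5c : _root_.True := by
  try have : _root_.True := by simp only [_root_.Cfsg.Agent.H149.Sa.incB.eq_def]
  try have : _root_.True := by simp only [_root_.Cfsg.Agent.H149.Sa.coverB.eq_def]
  exact _root_.True.intro
end

-- part: H149/Sa/NoLieSmall_mg
section
prune_inst 0x4f03057207da200000018001062003e66f2000002006b84019d400f06078fdf4300430f20fba00d1b91228264003c006813100170421000002a000200411d01a00022f6829248a10c26001980b807180c00000000000000000000000000041000000000000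
set_option linter.all false
open scoped Cfsg.Agent.FastGrp

/-- decoders of the packed data (elaboration time only) -/
private noncomputable def pk61d (b S i : Nat) : Nat := Nat.mod (Nat.shiftRight S (Nat.mul b i)) (Nat.shiftLeft (nat_lit 1) b)
private noncomputable def pk61f {α : Type} (t : Nat) (f : Nat → α) : α := Nat.rec (f Nat.zero) (fun k _ => f (Nat.succ k)) t
private noncomputable def pk61l {α : Type} (f : Nat → α) (s e : Nat) (tl : List α) : List α :=
  pk61f e fun e => Nat.rec tl (fun k ih => List.cons (pk61f (Nat.sub e (Nat.succ k)) f) ih) (Nat.sub e s)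

-- part: H149/Sa/Tab0
section
/-!
# Certificates, part 0 (task 1527)
-/

set_option autoImplicit false
set_option maxRecDepth 20000

namespace Cfsg.Agent.H149.Sa

open Cfsg.Agent.H414.RelB

/-- certificates -/
noncomputable def tab0 : List (ℕ × List (RC × RC × ℕ)) :=
  let y0 : List (ℕ × List (RC × RC × ℕ)) := (by
  refine (?fq9001 : (pk61l (fun i0 => (_root_.Prod.mk (pk61d (nat_lit 6) 
    (nat_lit 0xbeba65) i0) ((fun g0 : Nat → Nat => pk61l (fun i1 => (_root_.Prod.mk (_root_.Cfsg.Agent.H414.RelB.RC.mk (pk61d (nat_lit 12) 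
    (nat_lit 0x9fd5152a515d0b506103501fa9955d2c516f0bf06103501fb295ab2e31850c706d03b01fb2d5a72d716f0c506b03d02901d017) i1) (pk61d (nat_lit 16) 
    (nat_lit 0x9fc10cb32db58b910481624108bd391d1a7d47350b1107270a8b0139d76b008b2849410b142f5117788507c9015d06bb96d310f3120da02101eb02e7008910af00890815) i1) (pk61d (nat_lit 12) 
    (nat_lit 0x9fc28a2a40740b400800d00554c2ae16216e05f01801a01e3b82d51710c20c600c01d00f5960f12d60b703103501400501c016) i1) (pk61d (nat_lit 12) 
    (nat_lit 0x9fc28a03407402400800d00554c06216216e01301801a0060080191710c201200c01d0035960f10420b7031035004005004016) i1) ((fun g1 : Nat → Nat => pk61l (fun i2 => (_root_.Prod.mk (pk61d (nat_lit 8) 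
    (nat_lit 0x4703020d05020d021d020302020d0571030207023b03023d03021303020d020302020529036102030203021d030d0b0502f10b03023d0307350205020b02) i2) (_root_.Prod.mk (pk61d (nat_lit 2) 
    (nat_lit 0x69966ad5695555d5799659555556665) i2) (pk61d (nat_lit 2) 
    (nat_lit 0x699a6ad56d5555d5799659555956665) i2)))) (g1 i1) (g1 (Nat.succ i1)) List.nil) fun j => (pk61d (nat_lit 6) 
    (nat_lit 0x3eef8db4cb1c2fb2a9e48e17dd71b65755349134c247185103080) j)) (pk61d (nat_lit 2) 
    (nat_lit 0x9ab09535c16044089) i1) (pk61d (nat_lit 2) 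
    (nat_lit 0x80804511089105000) i1)) (_root_.Prod.mk (_root_.Cfsg.Agent.H414.RelB.RC.mk (pk61d (nat_lit 12) 
    (nat_lit 0xa1f51b2b31610c106503b029aab5652dd17b0c106703d029b515bf2ef18d0d307103d025b475ab2dd17f0d306d04903502901d) i1) (pk61d (nat_lit 20) 
    (nat_lit 0x16f906b230c5770037100241000fb0772d0006102c2f02c350477d00a5700209070c30092501181021f10576d0100f003f100223028490100f0788503ffd0655f0a021008f500a6f00b650007f9053b010af00089) i1) (pk61d (nat_lit 12) 
    (nat_lit 0xa1e28d1590b00c003203a0285555642dc17a00806603c014b502df0320240d203800a0125a35aa0b717e06906c00901a00501c) i1) (pk61d (nat_lit 12) 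
    (nat_lit 0xe28d00f0b00c003203a0080271142dc17a00806603c014b5000f00a02400600800a0120270320b717e00f06c00901a005004) i1) ((fun g1 : Nat → Nat => pk61l (fun i2 => (_root_.Prod.mk (pk61d (nat_lit 10) 
    (nat_lit 0x1c02a340500c0b00803008050081d008020340305c030083d00c0201c0300802044030080500c02014022d402014030140200c0200c0200805008030080d00c050083d00cbf0080500c03008030340201402) i2) (_root_.Prod.mk (pk61d (nat_lit 3) 
    (nat_lit 0x924987224b24944a2cb24928a3092522592892892492d224a) i2) (pk61d (nat_lit 3) 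
    (nat_lit 0x924987224b24944a2cb24928a3094522592892892492d224a) i2)))) (g1 i1) (g1 (Nat.succ i1)) List.nil) fun j => (pk61d (nat_lit 7) 
    (nat_lit 0x10a03f7aedcb76ad192f58a54254480f1c3460b15264478d16243850808080) j)) (pk61d (nat_lit 3) 
    (nat_lit 0x81312c24594a028b241042042) i1) (pk61d (nat_lit 2) 
    (nat_lit 0x4405714124244780) i1)) (pk61d (nat_lit 13) 
    (nat_lit 0x27f4a2a2a50ae82d40c203500faa64aba2c50b782fc0c203500faca4b562e30c2831c0da03b00facb4b4e2d70b783140d603d014807402e) i1)))) (g0 i0) (g0 (Nat.succ i0)) List.nil) fun j => (pk61d (nat_lit 6) 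
    (nat_lit 0x22692280) j)))) (nat_lit 0) (nat_lit 4) List.nil : List (ℕ × List (RC × RC × ℕ)))
    = ?xq9001 → (List (ℕ × List (RC × RC × ℕ)))) ?hq9001; (case hq9001 => (set_option maxRecDepth 1000000 in conv => lhs; reduce)); intro _; exact ?xq9001 : List (ℕ × List (RC × RC × ℕ)))
  let y1 : List (ℕ × List (RC × RC × ℕ)) := (by
  refine (?fq9002 : (fun tl : List (ℕ × List (RC × RC × ℕ)) => pk61l (fun i0 => (_root_.Prod.mk (pk61d (nat_lit 5) 
    (nat_lit 0xff6f3) i0) ((fun g0 : Nat → Nat => pk61l (fun i1 => (_root_.Prod.mk (_root_.Cfsg.Agent.H414.RelB.RC.mk (pk61d (nat_lit 12) 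
    (nat_lit 0x7d33f520910d0890470290179ef4fd2831510bf06b03b01f0130116fb38f1cd0f107f04702f01f01371f3971d30fb08b04f02f01d011) i1) (pk61d (nat_lit 24) 
    (nat_lit 0x2ec3000aa90045c7000649000199002ec300553d00018d008f9f00417b000f0d0007e100019100296900417b0001919f39fd00666100997d007be9000509000e7100010f0002a100008b0000d376e583005c8700a0f300386f0008cb00159100009d0002b30000b5000ef9) i1) (pk61d (nat_lit 11) 
    (nat_lit 0xfa4fd04110c1101180500b9ee4fca095017c0d40e80a0240437d04102e1403f00e05c02804b8f72c7487d08a04e0b80e008) i1) (pk61d (nat_lit 11) 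
    (nat_lit 0x1c0b00d10c0100380500b03e074a09500140d40e80a0240437d04102e0400900e05c02804b8f06c7480508a04e0b802008) i1) ((fun g1 : Nat → Nat => pk61l (fun i2 => (_root_.Prod.mk (pk61d (nat_lit 10) 
    (nat_lit 0x1c0202c020340210c0200807008050080b07c1d1ac0301c0300805008350740500803008020bc130080d014170080300807008170080500803e3c03008e9008050081700c020340305c0200802) i2) (_root_.Prod.mk (pk61d (nat_lit 3) 
    (nat_lit 0x928929924924926124928c24926224924a2c9249249253) i2) (pk61d (nat_lit 3) 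
    (nat_lit 0x928929924924926124928c24926224924a2c92c9249253) i2)))) (g1 i1) (g1 (Nat.succ i1)) List.nil) fun j => (pk61d (nat_lit 6) 
    (nat_lit 0x3ef3ae36d73c70beeb299e696386075b6995d54d140f34b246102040) j)) (pk61d (nat_lit 3) 
    (nat_lit 0x28a648004201308109240249053) i1) (pk61d (nat_lit 2) 
    (nat_lit 0x500800808c140) i1)) (_root_.Prod.mk (_root_.Cfsg.Agent.H414.RelB.RC.mk (pk61d (nat_lit 12) 
    (nat_lit 0x7db3fd20b10f08b04f02b01d9f74ff28715b0c707103d02501f0137133971cf0fb08b04903d02501d7273a11eb11509705903501f01d) i1) (pk61d (nat_lit 24) 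
    (nat_lit 0x43c70013ed000e35000e3500014b00014b00014b001c5500300d001df5000f4700e3110038650066610001390001390001919f39fd002903000e59000b990019970003f50012b50003ad001d7d516e8d001f750011390008cb00092b00038f000ef90000b500007f0000b5) i1) (pk61d (nat_lit 11) 
    (nat_lit 0x29eff08282d08a09c0a81c9f73f8a18ad0c61c00600c014049c49cb1341f41702402803003a620e87a80b8050b00d00781c) i1) (pk61d (nat_lit 11) 
    (nat_lit 0xaff00480900600c0181c0973f8088ad0120400600c0140485a9cb01c064170240280300387a0e80280b80501001001804) i1) ((fun g1 : Nat → Nat => pk61l (fun i2 => (_root_.Prod.mk (pk61d (nat_lit 8) 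
    (nat_lit 0x51105030203030303030702050347030211ad03020302030205020302b511030702051702030205020302073d021d020502170502020302) i2) (_root_.Prod.mk (pk61d (nat_lit 3) 
    (nat_lit 0x24949124a44a24a85144a24b25129145124a24968a) i2) (pk61d (nat_lit 3) 
    (nat_lit 0x24949124a44a24a85144a24b25929145124a24968a) i2)))) (g1 i1) (g1 (Nat.succ i1)) List.nil) fun j => (pk61d (nat_lit 6) 
    (nat_lit 0x38df3cb1c2fbacaa79a592385f75b6985954d13cd30a2061440c2040) j)) (pk61d (nat_lit 3) 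
    (nat_lit 0x8000204011224020a481440682) i1) (pk61d (nat_lit 2) 
    (nat_lit 0x1a5460852302100004) i1)) (pk61d (nat_lit 13) 
    (nat_lit 0x7d31fa882421a08902380a402e9ef27e8a0c2a20bf03580ec03e0130089bec71e1cd07881fc08e02f00f804ce3e3970e983ec11604e8178074022) i1)))) (g0 i0) (g0 (Nat.succ i0)) List.nil) fun j => (pk61d (nat_lit 6) 
    (nat_lit 0x24712240) j)))) (nat_lit 0) (nat_lit 4) tl)
    = ?xq9002 → (List (ℕ × List (RC × RC × ℕ)))) ?hq9002; (case hq9002 => (set_option maxRecDepth 1000000 in conv => lhs; reduce)); intro _; exact ?xq9002 y0 : List (ℕ × List (RC × RC × ℕ)))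
  let y2 : List (ℕ × List (RC × RC × ℕ)) := (by
  refine (?fq9003 : (fun tl : List (ℕ × List (RC × RC × ℕ)) => pk61l (fun i0 => (_root_.Prod.mk (pk61d (nat_lit 5) 
    (nat_lit 0x8b567) i0) ((fun g0 : Nat → Nat => pk61l (fun i1 => (_root_.Prod.mk (_root_.Cfsg.Agent.H414.RelB.RC.mk (pk61d (nat_lit 12) 
    (nat_lit 0xb2d5ab2d716f0c70710430290170136d33731c910d0890490290176c53771c90f107f0490290176a135b1cd0ef07f04702901d011) i1) (pk61d (nat_lit 21) 
    (nat_lit 0x155e40b7fa00e710134d800f7c002a20013305190800ece6c70204b0700c4e8140a401f6a001990082880df24003460808d0053180726400de20207d04e78807264000b204f8100717803ed40071e026650005f8012c4024fa29651) i1) (pk61d (nat_lit 11) 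
    (nat_lit 0x412d516b2dc1083802105005804ed2372720430880900a005ec43762601803f0900a00b6a035a7307707e08c0a003810) i1) (pk61d (nat_lit 11) 
    (nat_lit 0x501d0212dc1083800301005804ed207e7204308809002005ec43760201803f0900200b6a00420500707e01402003810) i1) ((fun g1 : Nat → Nat => pk61l (fun i2 => (_root_.Prod.mk (pk61d (nat_lit 9) 
    (nat_lit 0x28083a020580c7a030102c0602038080602058080661018080e030980c04430104404030100817b1016ec04030101c06030100816021a8081603028080e020380c0405010080e02) i2) (_root_.Prod.mk (pk61d (nat_lit 3) 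
    (nat_lit 0x28924924930b25144a25925a6c94598526c93492892892cc) i2) (pk61d (nat_lit 3) 
    (nat_lit 0x28944924930b25145225925a6c94598526c93492892892cc) i2)))) (g1 i1) (g1 (Nat.succ i1)) List.nil) fun j => (pk61d (nat_lit 7) 
    (nat_lit 0x80f9e3a6ed193160b96aa50951a13e78e9b3464b95264880e18284050608080) j)) (pk61d (nat_lit 3) 
    (nat_lit 0x882606410cb6c20e06cd0892c4) i1) (pk61d (nat_lit 2) 
    (nat_lit 0x1510a908006804200) i1)) (_root_.Prod.mk (_root_.Cfsg.Agent.H414.RelB.RC.mk (pk61d (nat_lit 12) 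
    (nat_lit 0xb515ad2dd18d0d308304902b0250176d938f1eb10f08b04f02b01d6cd38b1cf0fb08304f02b01d6a33731cf0fb08304902f01f01d) i1) (pk61d (nat_lit 18) 
    (nat_lit 0x49e10aa2c269b1356417cb33ecc0529004cc006d00ecc37c902aac068300ea42a97011140151158fc1b31033ec120d0d1b404450088cb107000f4637f03bbc038f027dc0af1003040c0b9c1fc127d) i1) (pk61d (nat_lit 12) 
    (nat_lit 0xb502d616e0840d20820180150240162481c70f501204502701500e1b312e1ce0fa04102700701c35106209a07d04101801700f007) i1) (pk61d (nat_lit 10) 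
    (nat_lit 0x10b596e210d22081800c240580871c310484509c15039b34b9ce0280d09c07013511880e064050601703c07) i1) ((fun g1 : Nat → Nat => pk61l (fun i2 => (_root_.Prod.mk (pk61d (nat_lit 9) 
    (nat_lit 0x20580c043d0180816030101c0a03010340a020180806030102c04020681c0a07018082e030680c0e03038083a0501a5c040b0380c0405010341a030380a3603038080e020281406020b8140607) i2) (_root_.Prod.mk (pk61d (nat_lit 3) 
    (nat_lit 0x44492494492492ca44b24a44924924924924924928944944b249) i2) (pk61d (nat_lit 3) 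
    (nat_lit 0x44492494492492ca44b24a44924924924924b24928944964b249) i2)))) (g1 i1) (g1 (Nat.succ i1)) List.nil) fun j => (pk61d (nat_lit 7) 
    (nat_lit 0x8b120be76dda3262bd6ac52a13244480f1b3254992203c70c1420386080c080) j)) (pk61d (nat_lit 3) 
    (nat_lit 0x10944b08b008008248010240600) i1) (pk61d (nat_lit 2) 
    (nat_lit 0x55160095110410044) i1)) (pk61d (nat_lit 13) 
    (nat_lit 0x59696ac5ae16f06381c408602900b804cda63730e48434112049014805cd8a3770e483c40fe049014805cd4235b0e3c3bc0fe0470148074022) i1)))) (g0 i0) (g0 (Nat.succ i0)) List.nil) fun j => (pk61d (nat_lit 6) 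
    (nat_lit 0x23651240) j)))) (nat_lit 0) (nat_lit 4) tl)
    = ?xq9003 → (List (ℕ × List (RC × RC × ℕ)))) ?hq9003; (case hq9003 => (set_option maxRecDepth 1000000 in conv => lhs; reduce)); intro _; exact ?xq9003 y1 : List (ℕ × List (RC × RC × ℕ)))
  (by
  refine (?fq9004 : (fun tl : List (ℕ × List (RC × RC × ℕ)) => pk61l (fun i0 => (_root_.Prod.mk (pk61d (nat_lit 3) 
    (nat_lit 0x15a) i0) ((fun g0 : Nat → Nat => pk61l (fun i1 => (_root_.Prod.mk (_root_.Cfsg.Agent.H414.RelB.RC.mk (pk61d (nat_lit 12) 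
    (nat_lit 0xab55652bd16f0bf06d03d0290176d33711cf0f107f04702b01f0178f948b25913709d06504302501d017) i1) (pk61d (nat_lit 15) 
    (nat_lit 0xaf8a77143b6a34530fe043cee2a3c900872c1dc2088dd32a20dcc22288dd021e3c2d3dc8a610e12b33c3269fa5a2f201b40388059) i1) (pk61d (nat_lit 11) 
    (nat_lit 0x224ac8af07a02606c0f01402db49b81ce0f01f81182a03c02e3e0a603226c1a0640840900e00b) i1) (pk61d (nat_lit 11) 
    (nat_lit 0x2240781907a02606c0f01402db482802a0301f80382a03c02c520a603226c1a0640840900e00b) i1) ((fun g1 : Nat → Nat => pk61l (fun i2 => (_root_.Prod.mk (pk61d (nat_lit 8) 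
    (nat_lit 0x890205030205023d02130305030205020b0261030205020703020302070302070703020503020b29025302051f050d0205020b0302030207020b) i2) (_root_.Prod.mk (pk61d (nat_lit 3) 
    (nat_lit 0x924a2496492892898492ca24924925128929224a451) i2) (pk61d (nat_lit 3) 
    (nat_lit 0x924a2496492892898492ca24924925128929224a451) i2)))) (g1 i1) (g1 (Nat.succ i1)) List.nil) fun j => (pk61d (nat_lit 6) 
    (nat_lit 0x3ae35cf1c2fb2aa258e079b69751344f38c288143040) j)) (pk61d (nat_lit 3) 
    (nat_lit 0x24900a261641211012290) i1) (pk61d (nat_lit 2) 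
    (nat_lit 0x10342161400060) i1)) (_root_.Prod.mk (_root_.Cfsg.Agent.H414.RelB.RC.mk (pk61d (nat_lit 12) 
    (nat_lit 0xabd5772dd1750d307104302b01d6df3731df0fb08b04f03b02b01d90749d26b1390b506704703502501d) i1) (pk61d (nat_lit 16) 
    (nat_lit 0xcf891b4fee49045d0277015114a1007f01c10dbd09d9433922f713f30b476f7908dd406d72070dd509a904e1d2f1085f007f009d006d0071) i1) (pk61d (nat_lit 11) 
    (nat_lit 0x1caaec7a1740461c00b02a01c9283f0ef0fa2282701d054072418ec4d42705a0330460d01201c) i1) (pk61d (nat_lit 10) 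
    (nat_lit 0x396bb3d17408c700582a03a4a1f8ef0648a1381d0a81c1a4ec9a89c2d03301c340901c) i1) ((fun g1 : Nat → Nat => pk61l (fun i2 => (_root_.Prod.mk (pk61d (nat_lit 9) 
    (nat_lit 0xe57480c7a020f80c04070281c040b0101c06020380a4a020380c04ef0285c06020680c041d0380c04070101c0a031d808ce030103406020280c04110181c1a02018080e02) i2) (_root_.Prod.mk (pk61d (nat_lit 3) 
    (nat_lit 0x124a25126124924928944924924944928924a29124a48a) i2) (pk61d (nat_lit 3) 
    (nat_lit 0x124a25126124924928964924924944928924a29124a48a) i2)))) (g1 i1) (g1 (Nat.succ i1)) List.nil) fun j => (pk61d (nat_lit 6) 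
    (nat_lit 0x3df3ae35cf1becaa89648e075c6575123cc247184080) j)) (pk61d (nat_lit 3) 
    (nat_lit 0x12109248048282290092) i1) (pk61d (nat_lit 2) 
    (nat_lit 0x11010814445908) i1)) (pk61d (nat_lit 13) 
    (nat_lit 0xab52b28af42de0bf03680f40520173698dc439e0f103f811c05601f00ba3e491625909b82740ca03f812807402e) i1)))) (g0 i0) (g0 (Nat.succ i0)) List.nil) fun j => (pk61d (nat_lit 5) 
    (nat_lit 0xe4d40) j)))) (nat_lit 0) (nat_lit 3) tl)
    = ?xq9004 → (List (ℕ × List (RC × RC × ℕ)))) ?hq9004; (case hq9004 => (set_option maxRecDepth 1000000 in conv => lhs; reduce)); intro _; exact ?xq9004 y2 : List (ℕ × List (RC × RC × ℕ)))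

theorem tab0_ok : tabB tab0 = true := by decide +kernel

end Cfsg.Agent.H149.Sa
end

-- part: H149/Sa/Tab1
section
/-!
# Certificates, part 1 (task 1527)
-/

set_option autoImplicit false
set_option maxRecDepth 20000

namespace Cfsg.Agent.H149.Sa

open Cfsg.Agent.H414.RelB

/-- certificates -/
noncomputable def tab1 : List (ℕ × List (RC × RC × ℕ)) :=
  let y0 : List (ℕ × List (RC × RC × ℕ)) := (by
  refine (?fq9005 : (pk61l (fun i0 => (_root_.Prod.mk (pk61d (nat_lit 8) 
    (nat_lit 0x97958b89837f) i0) ((fun g0 : Nat → Nat => pk61l (fun i1 => (_root_.Prod.mk (_root_.Cfsg.Agent.H414.RelB.RC.mk (pk61d (nat_lit 12) 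
    (nat_lit 0x6df38b1cd0ef08b6fd38f1cd0f10836f738f1d30f108370938f1cf0ef07fb475bf2ef17b0c506bb995d52ef17f0c706d) i1) (pk61d (nat_lit 16) 
    (nat_lit 0x587b587b0e8f02bd0bdd1cb709f532ad08710751c9df199931272da102a5c7f915d7184305511843c7750dc919336ebf0a4906a168595d4108cb491f0e591c45) i1) (pk61d (nat_lit 12) 
    (nat_lit 0x6de38a0e60ee08a37e1c71cc0f001a37b38e0e90500827080461ce0ee02a3c22df04b17a0c406ab985d417717e0c606c) i1) (pk61d (nat_lit 12) 
    (nat_lit 0x600602e00e08a00605b05c0f001a37b0b60e905001a04800a00602200604a01500f17a01c06ab985d417717e01206c) i1) ((fun g1 : Nat → Nat => pk61l (fun i2 => (_root_.Prod.mk (pk61d (nat_lit 9) 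
    (nat_lit 0x180806020b8080e020b80c0403010340e170101406020680816030681c04e9028081a02018080a02018082202018084a020380c0a030380c0407010d404350380aea020280d7e02018080602) i2) (_root_.Prod.mk (pk61d (nat_lit 3) 
    (nat_lit 0x24924924924944c24c2493094c92492492492c94492ca64945a) i2) (pk61d (nat_lit 3) 
    (nat_lit 0x24924924924944c24c2493094c92492494512ca4492ca64945a) i2)))) (g1 i1) (g1 (Nat.succ i1)) List.nil) fun j => (pk61d (nat_lit 7) 
    (nat_lit 0x448501f3c72ddab360b962950992224078e1a3058a111e345080c10100) j)) (pk61d (nat_lit 3) 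
    (nat_lit 0x24924284110b24920145a04a) i1) (pk61d (nat_lit 3) 
    (nat_lit 0x24024022000204104b000213) i1)) (_root_.Prod.mk (_root_.Cfsg.Agent.H414.RelB.RC.mk (pk61d (nat_lit 12) 
    (nat_lit 0x70938f1cf10f0957093971d30fb0897093a11df0fb0897133971d30fb083b6f5cb2f51850d306db9b5db2f918d0d3071) i1) (pk61d (nat_lit 16) 
    (nat_lit 0x359946d30985021d036d1ab91e2b84e302b31b591b9124414ab104b125bd15372047280d02ef03712a1d115fa0bd0611032ba0bd416519155e39088304cf064d) i1) (pk61d (nat_lit 12) 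
    (nat_lit 0xc838e1ce0870942581cb0e90050880783a00ef0fa0443893960e90fa082b6e0f70bd1840d201bb9a2ed2f80630d201c) i1) (pk61d (nat_lit 10) 
    (nat_lit 0xa00e0a8870101806ce901408063a03bc0a01389e58e93e80a268f706d840181b4386b0a00901804) i1) ((fun g1 : Nat → Nat => pk61l (fun i2 => (_root_.Prod.mk (pk61d (nat_lit 8) 
    (nat_lit 0x5020702070302050302030203e9050203021d02ef050202b505110302e9050205020b0702130d0361020302030503026b050203030202) i2) (_root_.Prod.mk (pk61d (nat_lit 3) 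
    (nat_lit 0x592492d16c9659a4944964b2492496512cb24b44a) i2) (pk61d (nat_lit 3) 
    (nat_lit 0x992492d16c9659a5944964b2492496512cb24b44a) i2)))) (g1 i1) (g1 (Nat.succ i1)) List.nil) fun j => (pk61d (nat_lit 6) 
    (nat_lit 0x37d73c2eb6baa9a279638a07dd6995d54903cd2ca1c6103040) j)) (pk61d (nat_lit 3) 
    (nat_lit 0x6484c00dd05020920220860a) i1) (pk61d (nat_lit 2) 
    (nat_lit 0x71c0400c00c7c24) i1)) (pk61d (nat_lit 13) 
    (nat_lit 0x6df1c587341de08b37e8e3c39a0f10419bdc71e1d3078820ce1238f0e783bc0feb472df8bbc2f60c5035ae64baa2ef0bf831c0da) i1)))) (g0 i0) (g0 (Nat.succ i0)) List.nil) fun j => (pk61d (nat_lit 6) 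
    (nat_lit 0x206d644c180) j)))) (nat_lit 0) (nat_lit 6) List.nil : List (ℕ × List (RC × RC × ℕ)))
    = ?xq9005 → (List (ℕ × List (RC × RC × ℕ)))) ?hq9005; (case hq9005 => (set_option maxRecDepth 1000000 in conv => lhs; reduce)); intro _; exact ?xq9005 : List (ℕ × List (RC × RC × ℕ)))
  let y1 : List (ℕ × List (RC × RC × ℕ)) := (by
  refine (?fq9006 : (fun tl : List (ℕ × List (RC × RC × ℕ)) => pk61l (fun i0 => (_root_.Prod.mk (pk61d (nat_lit 7) 
    (nat_lit 0x71dbaf3e5) i0) (pk61l (fun i1 => (_root_.Prod.mk (_root_.Cfsg.Agent.H414.RelB.RC.mk (pk61d (nat_lit 12) 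
    (nat_lit 0xae75812d716f0c50679f55292a11610b5065aab5652c516f0bf0659f54fd28114b0ad0619594bd26913709d053) i1) (pk61d (nat_lit 16) 
    (nat_lit 0x3f3774e17d8f03df02bd5435eee11c990a814729067901c929d717b9a8b56ac101a30b2320ed0b1b12c102d704257a7d13ed16191709544902092c35) i1) (pk61d (nat_lit 12) 
    (nat_lit 0xae616016b0b701c0229f40282a0058024064aaa5640ec03d01300a9f413f0500a50ac00c4ac06505813600d052) i1) (pk61d (nat_lit 12) 
    (nat_lit 0x22e16002100301c0229f40282a00580240040d21140ec03d01300a01c01d05002100400c00406505803e00d052) i1) ((fun g1 : Nat → Nat => pk61l (fun i2 => (_root_.Prod.mk (pk61d (nat_lit 7) 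
    (nat_lit 0x1f0608582160c187044410d0e082820e0c10b040c1020e141822e0c13b04f4985041c11d0a08583040c102ca2c11f0435482) i2) (_root_.Prod.mk (pk61d (nat_lit 3) 
    (nat_lit 0x144d24944948b269692249251449251309452259249) i2) (pk61d (nat_lit 3) 
    (nat_lit 0x144d44944948b269692249251449291309452259249) i2)))) (g1 i1) (g1 (Nat.succ i1)) List.nil) fun j => (pk61d (nat_lit 6) 
    (nat_lit 0x39db4cb1bedaa89638607195d655345038c2c9207143080) j)) (pk61d (nat_lit 3) 
    (nat_lit 0xd0114eb48a401420490641) i1) (pk61d (nat_lit 2) 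
    (nat_lit 0x850048500011000) i1)) (_root_.Prod.mk (_root_.Cfsg.Agent.H414.RelB.RC.mk (pk61d (nat_lit 12) 
    (nat_lit 0xaf15ab2dd1750c706da3d52f2ab1670bf067ac15812cf1750c50679f74ff2951510b50659774c726b1390a3061) i1) (pk61d (nat_lit 16) 
    (nat_lit 0xb131e8bd08f504fd020b020b56ff6cc726ef554f5dfd00c1cc4194014bbb538f0373b6e34bb50df37a7d04250bf5042555271c8b283f03a901e782f9) i1) (pk61d (nat_lit 12) 
    (nat_lit 0xaf02d500c07c0c601228f52e155166005066ac058016705d0620333520d508401c0b40644bb4c61351380a2018) i1) (pk61d (nat_lit 12) 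
    (nat_lit 0x7000500c00401201228f52e00b166005006ac008016705d0620330aa00300c0040240040ad01a0031380a2018) i1) ((fun g1 : Nat → Nat => pk61l (fun i2 => (_root_.Prod.mk (pk61d (nat_lit 9) 
    (nat_lit 0x70101406020100c04030120c0a110680c040b598080a03010ac0402b387c0607010440611028080603010080602012b41a02018340602018080602) i2) (_root_.Prod.mk (pk61d (nat_lit 3) 
    (nat_lit 0x184a48a24924924927724a24924949244924b84b) i2) (pk61d (nat_lit 3) 
    (nat_lit 0x188a48a24924924927724a24944949244924b84b) i2)))) (g1 i1) (g1 (Nat.succ i1)) List.nil) fun j => (pk61d (nat_lit 6) 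
    (nat_lit 0x35cf2c2fb6ba6592285f75c6d95d54913ce30b2881c4080) j)) (pk61d (nat_lit 3) 
    (nat_lit 0x204890410770082124810cb) i1) (pk61d (nat_lit 3) 
    (nat_lit 0x212040040041048400261) i1)) (pk61d (nat_lit 13) 
    (nat_lit 0x2b9cb022d70b783140ce9f52948a842c20b50306aacaca2c50b782fc0ca9f527e8a042960ad030a56497a26909b82740a6) i1)))) (Nat.mul (nat_lit 6) i0) (Nat.mul (nat_lit 6) (Nat.succ i0)) List.nil))) (nat_lit 0) (nat_lit 5) tl)
    = ?xq9006 → (List (ℕ × List (RC × RC × ℕ)))) ?hq9006; (case hq9006 => (set_option maxRecDepth 1000000 in conv => lhs; reduce)); intro _; exact ?xq9006 y0 : List (ℕ × List (RC × RC × ℕ)))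
  let y2 : List (ℕ × List (RC × RC × ℕ)) := (by
  refine (?fq9007 : (fun tl : List (ℕ × List (RC × RC × ℕ)) => pk61l (fun i0 => (_root_.Prod.mk (pk61d (nat_lit 7) 
    (nat_lit 0x61b34e7c9) i0) (pk61l (fun i1 => (_root_.Prod.mk (_root_.Cfsg.Agent.H414.RelB.RC.mk (pk61d (nat_lit 11) 
    (nat_lit 0x3b0bb93e646c4b84fedaf2cf590d11211f7eb8f39e3c444849ef2f1cf58fb10611f7db8b39a3c43f843) i1) (pk61d (nat_lit 16) 
    (nat_lit 0x1e010e5903e50c61041b4f87e557ae4d0c4110c1011902b322ed0aab103f12fd4ab14ab143391813050908cb013900d35da3153d059361e107090709) i1) (pk61d (nat_lit 11) 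
    (nat_lit 0x3b03b814c2342580d17c794f508611008f7e0b61340f044008ef0f187a87d03408dbeb8a1cc1400a821) i1) (pk61d (nat_lit 11) 
    (nat_lit 0x1008814c00c2580d04c794310860100177e0b61340f004008ef00180387d03408c17b8a05c04001803) i1) ((fun g1 : Nat → Nat => pk61l (fun i2 => (_root_.Prod.mk (pk61d (nat_lit 8) 
    (nat_lit 0x2110253020305030d130261050702430202059503020d07020b07020503020202ef02030207050d0207052f9703021702020303) i2) (_root_.Prod.mk (pk61d (nat_lit 3) 
    (nat_lit 0xa592512492892c9289249253659259249249309) i2) (pk61d (nat_lit 3) 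
    (nat_lit 0xa592512492892c9289249253659299249249309) i2)))) (g1 i1) (g1 (Nat.succ i1)) List.nil) fun j => (pk61d (nat_lit 6) 
    (nat_lit 0x34cf1beeb2ba679638a179b61551344f38d2c92050c2040) j)) (pk61d (nat_lit 3) 
    (nat_lit 0x2b20020961129b640201300) i1) (pk61d (nat_lit 1) 
    (nat_lit 0x6024413) i1)) (_root_.Prod.mk (_root_.Cfsg.Agent.H414.RelB.RC.mk (pk61d (nat_lit 11) 
    (nat_lit 0x3b6bdf4464944e853f1af44f990f11613f89b973a63ec4584ff1af44f990111212789b8f39e3ec41847) i1) (pk61d (nat_lit 16) 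
    (nat_lit 0x9bdd648d0c61251309d902e310e723452acd032b1f4b07d3290320470577079f016f01392395195107c90481019906551537ac8b0709076d4bf1038f) i1) (pk61d (nat_lit 11) 
    (nat_lit 0x3b614a2222484e0523c60f4f908708a037891cb1d21f422827f18f40f9080110093890231ce1f405023) i1) (pk61d (nat_lit 9) 
    (nat_lit 0x2f94a01a4818520a8f7e48701836d5cb7486406278a043e48044092d423018641423) i1) ((fun g1 : Nat → Nat => pk61l (fun i2 => (_root_.Prod.mk (pk61d (nat_lit 8) 
    (nat_lit 0x1305020b0503020349020302290207033d5303020503030db5021103e905030d03170302025303020211020302b5020705030505020705) i2) (_root_.Prod.mk (pk61d (nat_lit 3) 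
    (nat_lit 0x4a2492494492492592496512495093cb48924a249) i2) (pk61d (nat_lit 3) 
    (nat_lit 0x522492494492492592496592495093cb48924b249) i2)))) (g1 i1) (g1 (Nat.succ i1)) List.nil) fun j => (pk61d (nat_lit 6) 
    (nat_lit 0x37d30bedae99e68e181f75b6996164d23ce30a206144080) j)) (pk61d (nat_lit 3) 
    (nat_lit 0x1105100800800050f688008) i1) (pk61d (nat_lit 2) 
    (nat_lit 0x144474305442040) i1)) (pk61d (nat_lit 12) 
    (nat_lit 0xec27723e523612e09eeda7963d621a11208edfa71e39e1e2112092ef278e3d61f610608edf671639a1e20fe086) i1)))) (Nat.mul (nat_lit 6) i0) (Nat.mul (nat_lit 6) (Nat.succ i0)) List.nil))) (nat_lit 0) (nat_lit 5) tl)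
    = ?xq9007 → (List (ℕ × List (RC × RC × ℕ)))) ?hq9007; (case hq9007 => (set_option maxRecDepth 1000000 in conv => lhs; reduce)); intro _; exact ?xq9007 y1 : List (ℕ × List (RC × RC × ℕ)))
  (by
  refine (?fq9008 : (fun tl : List (ℕ × List (RC × RC × ℕ)) => pk61l (fun i0 => (_root_.Prod.mk (pk61d (nat_lit 7) 
    (nat_lit 0x4786f5db5) i0) (pk61l (fun i1 => (_root_.Prod.mk (_root_.Cfsg.Agent.H414.RelB.RC.mk (pk61d (nat_lit 12) 
    (nat_lit 0xaa95572b31750c106703da395292ab15d0c506503578b3d71fd10708b04f02b85944922d11b09504f02f6d336d1cd0f108304702b) i1) (pk61d (nat_lit 16) 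
    (nat_lit 0x1c19e01d08ad067901c1067900b589f51d39b6db5e0701c101c101c11b250f5907450419020b570b020b10b11df906850dd506cd00a3033d28ed319f07db106915cd02a10199) i1) (pk61d (nat_lit 12) 
    (nat_lit 0xaa85560730ba04006603c51c1b801f01d0c406403478a3d61fc08308a01a02a85811211608d09404e0176d20db0e6078005046015) i1) (pk61d (nat_lit 12) 
    (nat_lit 0xf855600500604000603c51c1b801f01d0040040041823d600408300601a0068581121160030040060176d20db00a07800500e003) i1) ((fun g1 : Nat → Nat => pk61l (fun i2 => (_root_.Prod.mk (pk61d (nat_lit 10) 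
    (nat_lit 0x7c02aac02014030080200c02014030086d00c0202c050081f0740200802304027ac020088300c020340200c0216403008890088b008030080300817184030084900c050080500c020140700803) i2) (_root_.Prod.mk (pk61d (nat_lit 3) 
    (nat_lit 0xb24938925128964a48925124924964925124a24924b249) i2) (pk61d (nat_lit 3) 
    (nat_lit 0xb24938925128964a48925124924964925124a24924b249) i2)))) (g1 i1) (g1 (Nat.succ i1)) List.nil) fun j => (pk61d (nat_lit 6) 
    (nat_lit 0xfbceb9df6d31babaa9a279a48a181e71a5d54d244f38b247103040) j)) (pk61d (nat_lit 3) 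
    (nat_lit 0xc838a4c0491281259211041608) i1) (pk61d (nat_lit 2) 
    (nat_lit 0x4540000114112441) i1)) (_root_.Prod.mk (_root_.Cfsg.Agent.H414.RelB.RC.mk (pk61d (nat_lit 12) 
    (nat_lit 0xaab5652bd17b0c5071043a495512b31670c706703b79f3df20911509705303587144f23312509d0590356d938f1cf0fb08b04f02f) i1) (pk61d (nat_lit 16) 
    (nat_lit 0x1c0913f909d92dc709d9024113f92a01b839b839a7d1088311479deb2221623b19990745020b152507453c010ceb13c3036d06cd02514cfd319f07d30a57051502b303971369) i1) (pk61d (nat_lit 12) 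
    (nat_lit 0x1111592bc17a0c4010021a480aa0e616604206603a0c302106805c0960290340f044e11904903405801a0db1c71ce0fa08a04e017) i1) (pk61d (nat_lit 11) 
    (nat_lit 0x9c018042f401008003010028051660840181d0270421a0020060520101844e2321240200803436c2d82a06422803017) i1) ((fun g1 : Nat → Nat => pk61l (fun i2 => (_root_.Prod.mk (pk61d (nat_lit 9) 
    (nat_lit 0xd0180c0407018080402018080a020280966020580c040301074040d0182c060d0100806021480806020e84c051924808040d01124060d0381c0602028082e030100c0417) i2) (_root_.Prod.mk (pk61d (nat_lit 3) 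
    (nat_lit 0x12516542c924924924924968928c249299249249449249) i2) (pk61d (nat_lit 3) 
    (nat_lit 0x12516542c924924924924968928c249299249249649249) i2)))) (g1 i1) (g1 (Nat.succ i1)) List.nil) fun j => (pk61d (nat_lit 6) 
    (nat_lit 0xf7beb9db5d33cb0baca6796385f79c6da6155134913cd2c8183040) j)) (pk61d (nat_lit 3) 
    (nat_lit 0x22a06492480d10a1013201248) i1) (pk61d (nat_lit 2) 
    (nat_lit 0x14c100514104001114) i1)) (pk61d (nat_lit 13) 
    (nat_lit 0x554955c566175060819c07aa392948aac2ba0c503280d4f163d70fe841c11604f015a16289222d08d825409e02f3698db439a0f1041811c056) i1)))) (Nat.mul (nat_lit 7) i0) (Nat.mul (nat_lit 7) (Nat.succ i0)) List.nil))) (nat_lit 0) (nat_lit 5) tl)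
    = ?xq9008 → (List (ℕ × List (RC × RC × ℕ)))) ?hq9008; (case hq9008 => (set_option maxRecDepth 1000000 in conv => lhs; reduce)); intro _; exact ?xq9008 y2 : List (ℕ × List (RC × RC × ℕ)))

theorem tab1_ok : tabB tab1 = true := by decide +kernel

end Cfsg.Agent.H149.Sa
end

-- part: H149/Sa/Tab2
section
/-!
# Certificates, part 2 (task 1527)
-/

set_option autoImplicit false
set_option maxRecDepth 20000

namespace Cfsg.Agent.H149.Sa

open Cfsg.Agent.H414.RelB

/-- certificates -/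
noncomputable def tab2 : List (ℕ × List (RC × RC × ℕ)) :=
  let y0 : List (ℕ × List (RC × RC × ℕ)) := (by
  refine (?fq9009 : (pk61l (fun i0 => (_root_.Prod.mk (pk61d (nat_lit 9) 
    (nat_lit 0x27337) i0) (pk61l (fun i1 => (_root_.Prod.mk (_root_.Cfsg.Agent.H414.RelB.RC.mk (pk61d (nat_lit 12) 
    (nat_lit 0x92349325f13388344f22d11b) i1) (pk61d (nat_lit 16) 
    (nat_lit 0x6d99c34f25e1283f2c1727ef068513f3) i1) (pk61d (nat_lit 12) 
    (nat_lit 0x9220c30650330c622722c08d) i1) (pk61d (nat_lit 12) 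
    (nat_lit 0x9220270650330c601322c003) i1) ((fun g1 : Nat → Nat => pk61l (fun i2 => (_root_.Prod.mk (pk61d (nat_lit 8) 
    (nat_lit 0xa707020d036511030b0302138b0203) i2) (_root_.Prod.mk (pk61d (nat_lit 2) 
    (nat_lit 0x15555959) i2) (pk61d (nat_lit 2) 
    (nat_lit 0x15555959) i2)))) (g1 i1) (g1 (Nat.succ i1)) List.nil) fun j => (pk61d (nat_lit 4) 
    (nat_lit 0xfca974310) j)) (pk61d (nat_lit 2) 
    (nat_lit 0x4048) i1) (pk61d (nat_lit 2) 
    (nat_lit 0x1181) i1)) (_root_.Prod.mk (_root_.Cfsg.Agent.H414.RelB.RC.mk (pk61d (nat_lit 12) 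
    (nat_lit 0x9254a326513789b455233133) i1) (pk61d (nat_lit 16) 
    (nat_lit 0x84af98e3283f093511efe9b913c30463) i1) (pk61d (nat_lit 12) 
    (nat_lit 0x2494a203309b89a454232033) i1) (pk61d (nat_lit 11) 
    (nat_lit 0x132881981f00d15119033) i1) ((fun g1 : Nat → Nat => pk61l (fun i2 => (_root_.Prod.mk (pk61d (nat_lit 10) 
    (nat_lit 0xe510081100c1f00c02454024640204403) i2) (_root_.Prod.mk (pk61d (nat_lit 2) 
    (nat_lit 0x9555655) i2) (pk61d (nat_lit 2) 
    (nat_lit 0x9555655) i2)))) (g1 i1) (g1 (Nat.succ i1)) List.nil) fun j => (pk61d (nat_lit 4) 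
    (nat_lit 0xedb986420) j)) (pk61d (nat_lit 2) 
    (nat_lit 0x1064) i1) (pk61d (nat_lit 2) 
    (nat_lit 0x8441) i1)) (pk61d (nat_lit 13) 
    (nat_lit 0x923249897c26688322788b4236) i1)))) (Nat.mul (nat_lit 4) i0) (Nat.mul (nat_lit 4) (Nat.succ i0)) List.nil))) (nat_lit 0) (nat_lit 2) List.nil : List (ℕ × List (RC × RC × ℕ)))
    = ?xq9009 → (List (ℕ × List (RC × RC × ℕ)))) ?hq9009; (case hq9009 => (set_option maxRecDepth 1000000 in conv => lhs; reduce)); intro _; exact ?xq9009 : List (ℕ × List (RC × RC × ℕ)))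
  let y1 : List (ℕ × List (RC × RC × ℕ)) := (by
  refine (?fq9010 : (fun tl : List (ℕ × List (RC × RC × ℕ)) => pk61l (fun i0 => (_root_.Prod.mk (pk61d (nat_lit 9) 
    (nat_lit 0x99c9637198ac3e1b07) i0) (pk61l (fun i1 => (_root_.Prod.mk (_root_.Cfsg.Agent.H414.RelB.RC.mk (pk61d (nat_lit 11) 
    (nat_lit 0xf9eff50591bfd701d0590ffd6ff504915f1af5cfb90dfa6fc4fe907f3ef94fe907edaf2cf58fbd9adcce68ef) i1) (pk61d (nat_lit 16) 
    (nat_lit 0x2fb309eb09eb02dd2f7d283d16ed032b2f7d210d0493042d1fff0f5936e90bddaddb0a211df903135ffb20a1a0bd0f5b274d1a8705bf8c6f71ad120d05651c2b) i1) (pk61d (nat_lit 11) 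
    (nat_lit 0xde7f85708d7ea80d050877eaff02091478c7ac7d90c7d2fc0fe106186f907f083ed87947a8fad9824c73007) i1) (pk61d (nat_lit 10) 
    (nat_lit 0x1bc0601803fd60304887fd43c1040c0a9eb3ec04134900110600c0c3f883050613d4320f01539807) i1) ((fun g1 : Nat → Nat => pk61l (fun i2 => (_root_.Prod.mk (pk61d (nat_lit 10) 
    (nat_lit 0x2500c030080300803fd467014030080500ff5014030080d014030080700c027acfb0080b01c030080220c0200c030087f008830140218407014050080500c0201c0305c0500807) i2) (_root_.Prod.mk (pk61d (nat_lit 3) 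
    (nat_lit 0x12492492896494494492512a224944928a289289249) i2) (pk61d (nat_lit 3) 
    (nat_lit 0x12492492896494494492512a224944948a2c9291249) i2)))) (g1 i1) (g1 (Nat.succ i1)) List.nil) fun j => (pk61d (nat_lit 6) 
    (nat_lit 0x39df5cf2c6fb6baa796381f79d6d961655345038d2c9184040) j)) (pk61d (nat_lit 3) 
    (nat_lit 0x48008082202111088401408) i1) (pk61d (nat_lit 2) 
    (nat_lit 0x550b114020500050) i1)) (_root_.Prod.mk (_root_.Cfsg.Agent.H414.RelB.RC.mk (pk61d (nat_lit 11) 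
    (nat_lit 0xfa701d0e925fdb0250e919fdb02511919f3ef9505915fb6fd50590df6afd50490df1af44f9907db2e5ce98fb) i1) (pk61d (nat_lit 16) 
    (nat_lit 0x13670e7d783d47dd959b64491d8909d90fd912d124433be313ed0bb90b89033d16f91df90e351df98f7109e309898f713ffd121db2f90313b4c111efa3d50259) i1) (pk61d (nat_lit 11) 
    (nat_lit 0x7d3018078923f65610e118fd85611104679ef908282e3241710510cf683f48210cf180f45308349072ce907d) i1) (pk61d (nat_lit 11) 
    (nat_lit 0x1a3380789204e0210e038fd85611100a01e0300482e00c010090040083f40a0040a80f45308301072ce9019) i1) ((fun g1 : Nat → Nat => pk61l (fun i2 => (_root_.Prod.mk (pk61d (nat_lit 8) 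
    (nat_lit 0xd6702050349020d030205030207020d03022b020d07030205020503030203170203020203020202170b0502020703023d530283021103e90205) i2) (_root_.Prod.mk (pk61d (nat_lit 2) 
    (nat_lit 0x5555779e67555569569a569655dd6) i2) (pk61d (nat_lit 2) 
    (nat_lit 0x5556779e67555969569a569655dd7) i2)))) (g1 i1) (g1 (Nat.succ i1)) List.nil) fun j => (pk61d (nat_lit 6) 
    (nat_lit 0x3ae77d73c70b6ba268a079c6d95d651349038d2891c6143040) j)) (pk61d (nat_lit 2) 
    (nat_lit 0x113bb521668a84c4) i1) (pk61d (nat_lit 2) 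
    (nat_lit 0x44c445848004030) i1)) (pk61d (nat_lit 12) 
    (nat_lit 0xf9e7fa416236fd680e41621efd67fa41222af1a7ae3ee21afa67e23fa20ef3e7ca3fa20eeda7963d61f6d9a6e639a1de) i1)))) (Nat.mul (nat_lit 4) i0) (Nat.mul (nat_lit 4) (Nat.succ i0)) List.nil))) (nat_lit 0) (nat_lit 8) tl)
    = ?xq9010 → (List (ℕ × List (RC × RC × ℕ)))) ?hq9010; (case hq9010 => (set_option maxRecDepth 1000000 in conv => lhs; reduce)); intro _; exact ?xq9010 y0 : List (ℕ × List (RC × RC × ℕ)))
  let y2 : List (ℕ × List (RC × RC × ℕ)) := (by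
  refine (?fq9011 : (fun tl : List (ℕ × List (RC × RC × ℕ)) => pk61l (fun i0 => (_root_.Prod.mk (pk61d (nat_lit 9) 
    (nat_lit 0x405f6f177ba5cae3) i0) ((fun g0 : Nat → Nat => pk61l (fun i1 => (_root_.Prod.mk (_root_.Cfsg.Agent.H414.RelB.RC.mk (pk61d (nat_lit 12) 
    (nat_lit 0x6d93711c10ef6cd3711bb0e365533d1b70df64d3351a30d36a13591b10df62331d1a30dfb515c92ef1910d3) i1) (pk61d (nat_lit 16) 
    (nat_lit 0x2e332f414ec10b292581082104eb25f725f9092b20474bf13d85076d0aa903cbae59ae590a2101e7f55107e13cdd1d2321f136b97243087102c5) i1) (pk61d (nat_lit 11) 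
    (nat_lit 0x1b66e07003becc6e06e87121c1146d837e4c668688231a86b01b06f6226386886f5a8250bb8c8069) i1) (pk61d (nat_lit 11) 
    (nat_lit 0x1b60207003b80c0a00887121c1140180187c028058050080101b003622008098035a8010bb808003) i1) ((fun g1 : Nat → Nat => pk61l (fun i2 => (_root_.Prod.mk (pk61d (nat_lit 8) 
    (nat_lit 0x490302020702110703020502110271020503021703020302031f0205020b0205020202030203029d05020213020302b502020503020203) i2) (_root_.Prod.mk (pk61d (nat_lit 3) 
    (nat_lit 0x4987125184925a24924a28925b68924a2492db261) i2) (pk61d (nat_lit 3) 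
    (nat_lit 0x4987125184925a24924a28925b68924a2492db261) i2)))) (g1 i1) (g1 (Nat.succ i1)) List.nil) fun j => (pk61d (nat_lit 6) 
    (nat_lit 0xdf4cf1bedae99e485f79c69859551240d30a206142040) j)) (pk61d (nat_lit 3) 
    (nat_lit 0x198284a24244b68944b660) i1) (pk61d (nat_lit 2) 
    (nat_lit 0x101035400340411) i1)) (_root_.Prod.mk (_root_.Cfsg.Agent.H414.RelB.RC.mk (pk61d (nat_lit 12) 
    (nat_lit 0x6df3771cd0fb6d33731c10f165b35b1bb0e56653371a50e96a335b1bb0e362b3371bb0e3b6f5db2f91990df) i1) (pk61d (nat_lit 16) 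
    (nat_lit 0xdbd3761052970e5612d0a210851064910f1281f281f204753150bcb0bcb03291a8935a1052f25f71d2309a303979a7f2a1d138736b91421a309) i1) (pk61d (nat_lit 12) 
    (nat_lit 0x6de1bb1cc0fa6d21b903801e10f11e1ba07266419b0150e86a235a0dd0e262a3360dd0e2b6e2ed2f8044025) i1) (pk61d (nat_lit 11) 
    (nat_lit 0x6de376010190120120e00310f0340680366400600c046a26b43747100666c0447109a00e02002025) i1) ((fun g1 : Nat → Nat => pk61l (fun i2 => (_root_.Prod.mk (pk61d (nat_lit 9) 
    (nat_lit 0x9280c05bb0101404030100c0e020180a1e0d0103404030166404030180a3603010341603010441a710100c04890180822710102c0e02038080425) i2) (_root_.Prod.mk (pk61d (nat_lit 2) 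
    (nat_lit 0x55a66755555975555555555579) i2) (pk61d (nat_lit 2) 
    (nat_lit 0x55b66755555975555555555579) i2)))) (g1 i1) (g1 (Nat.succ i1)) List.nil) fun j => (pk61d (nat_lit 6) 
    (nat_lit 0xd31c2fb6baa89a58e17dd71b6974d13cd2891c40c2040) j)) (pk61d (nat_lit 2) 
    (nat_lit 0x12534560d454538) i1) (pk61d (nat_lit 2) 
    (nat_lit 0x102840451414000) i1)) (pk61d (nat_lit 13) 
    (nat_lit 0xdb23710e083bcd9a3710dd838ccaa33d0db837cc9a3350d1834cd423590d8837cc4631d0d1837d6a25c917786441a6) i1)))) (g0 i0) (g0 (Nat.succ i0)) List.nil) fun j => (pk61d (nat_lit 5) 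
    (nat_lit 0xee6b16a4a0) j)))) (nat_lit 0) (nat_lit 7) tl)
    = ?xq9011 → (List (ℕ × List (RC × RC × ℕ)))) ?hq9011; (case hq9011 => (set_option maxRecDepth 1000000 in conv => lhs; reduce)); intro _; exact ?xq9011 y1 : List (ℕ × List (RC × RC × ℕ)))
  let y3 : List (ℕ × List (RC × RC × ℕ)) := (by
  refine (?fq9012 : (fun tl : List (ℕ × List (RC × RC × ℕ)) => pk61l (fun i0 => (_root_.Prod.mk (pk61d (nat_lit 8) 
    (nat_lit 0xdfd3c7c5c1bf) i0) ((fun g0 : Nat → Nat => pk61l (fun i1 => (_root_.Prod.mk (_root_.Cfsg.Agent.H414.RelB.RC.mk (pk61d (nat_lit 12) 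
    (nat_lit 0x5f33011850c79f55292bd16f0bfa3d52729515b0bf9f75152931510b5a1f5292ab15b0b39714cf26b13d0ad) i1) (pk61d (nat_lit 16) 
    (nat_lit 0x11d7666103cb060d27d1486d076d0fbb05514d599a753c97040f01a337c90f291087048102e3210db9a1145910391163b6db2b3f2f41906d0409) i1) (pk61d (nat_lit 12) 
    (nat_lit 0x2f90600610129f40a52bc03d05fa3c52606e0ad05f4fb51429203002da1e52803e15a05912e19a26a13c0ac) i1) (pk61d (nat_lit 12) 
    (nat_lit 0x2f90600610129f400f06403d00500452606e0ad0130ff00405e03000900a52803e15a05912e05200613c0ac) i1) ((fun g1 : Nat → Nat => pk61l (fun i2 => (_root_.Prod.mk (pk61d (nat_lit 10) 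
    (nat_lit 0x2f900c02184030080d01c0201403014020f40500a930080b014022b4130440500c020bc0200c0200c050080b014030081f008ad0085925c020a40200c0213c020ac02) i2) (_root_.Prod.mk (pk61d (nat_lit 3) 
    (nat_lit 0x134a25225225124924928931124964924924928a) i2) (pk61d (nat_lit 3) 
    (nat_lit 0x134a25225225124924a28931124964924924928a) i2)))) (g1 i1) (g1 (Nat.succ i1)) List.nil) fun j => (pk61d (nat_lit 6) 
    (nat_lit 0xd74cb1becaa89e696381f79b6985954cf34b288184080) j)) (pk61d (nat_lit 3) 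
    (nat_lit 0xa0a08044801180b241252) i1) (pk61d (nat_lit 2) 
    (nat_lit 0x48400010610010) i1)) (_root_.Prod.mk (_root_.Cfsg.Agent.H414.RelB.RC.mk (pk61d (nat_lit 12) 
    (nat_lit 0x5fb30518d0d3a3952f2dd17b0c7a495292ab1610c5a1f51b29515d0c1a4952f2b31610b59774d527714b0b5) i1) (pk61d (nat_lit 16) 
    (nat_lit 0xbf5136d2209199914714db36e17a603025f4d593ff10f431ce14d594bf1990d09070c91048186c3346906f70d01024129830a99826f032b4165) i1) (pk61d (nat_lit 12) 
    (nat_lit 0x2fd30418c00ea380dd16e0bd0425245282aa1600c417251a00515c03014929715916005a4bb4d413b0a50b4) i1) (pk61d (nat_lit 11) 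
    (nat_lit 0x2fd008630070181ba5b80d8060084201f16000802a8d0050180c017827006080090070184ec078b4) i1) ((fun g1 : Nat → Nat => pk61l (fun i2 => (_root_.Prod.mk (pk61d (nat_lit 10) 
    (nat_lit 0x11014030080b00c0201c0200c020440d0f4030080300c020080b00c0207c0202c020080500a8d0080500c0200c020bc0d00c03008030080700c0201c0500c0500c0500c02) i2) (_root_.Prod.mk (pk61d (nat_lit 3) 
    (nat_lit 0x4a45224b2492c944b24d44924a30926a24a251252) i2) (pk61d (nat_lit 3) 
    (nat_lit 0x4a45224b2492c944b24d44924a30926a24a251252) i2)))) (g1 i1) (g1 (Nat.succ i1)) List.nil) fun j => (pk61d (nat_lit 6) 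
    (nat_lit 0xdf4cf0bacaa79a48e079c6d95d651244f38d2ca2050c0) j)) (pk61d (nat_lit 3) 
    (nat_lit 0x48b0414cd448500148402) i1) (pk61d (nat_lit 2) 
    (nat_lit 0x2211d1000514866) i1)) (pk61d (nat_lit 13) 
    (nat_lit 0xbe63010c2831d3ea52915e85bc17ea3d2938a542b60bf4fb945452615105aa87ca522ab0ad82cd2e24cf13584f415a) i1)))) (g0 i0) (g0 (Nat.succ i0)) List.nil) fun j => (pk61d (nat_lit 5) 
    (nat_lit 0x77347a8a0) j)))) (nat_lit 0) (nat_lit 6) tl)
    = ?xq9012 → (List (ℕ × List (RC × RC × ℕ)))) ?hq9012; (case hq9012 => (set_option maxRecDepth 1000000 in conv => lhs; reduce)); intro _; exact ?xq9012 y2 : List (ℕ × List (RC × RC × ℕ)))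
  (by
  refine (?fq9013 : (fun tl : List (ℕ × List (RC × RC × ℕ)) => pk61l (fun i0 => (_root_.Prod.mk (pk61d (nat_lit 8) 
    (nat_lit 0xb5b3ada7a39d) i0) (pk61l (fun i1 => (_root_.Prod.mk (_root_.Cfsg.Agent.H414.RelB.RC.mk (pk61d (nat_lit 12) 
    (nat_lit 0x7b53e520b10f0979854cd2691390a77ed40920b11b09791d49325113309d7e140f22311b0957e140920910d08b) i1) (pk61d (nat_lit 16) 
    (nat_lit 0x3ffd3e41061f041b041b27a7b8af11ab4031abd7337f1231061f069d75971b552419637111ef2419136967271fff09eb05c988210871197906490dab) i1) (pk61d (nat_lit 11) 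
    (nat_lit 0x3da3e40ae0784b01d266268340533f70208291a097238c32500661382440e4440bc4a1208108208608a) i1) (pk61d (nat_lit 11) 
    (nat_lit 0x23e40ae0180301d266038340533f60608291a00723803250066018240064440bc4a1200300a086006) i1) ((fun g1 : Nat → Nat => pk61l (fun i2 => (_root_.Prod.mk (pk61d (nat_lit 9) 
    (nat_lit 0x8a6030107406030100c041d9981c040d0114c1a03018083a031780c04031a82c04030109404110180c04030100c040d0380c042f128080602018080a02218080602) i2) (_root_.Prod.mk (pk61d (nat_lit 3) 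
    (nat_lit 0x894492492496512ca24924926124a6492492952cb289) i2) (pk61d (nat_lit 3) 
    (nat_lit 0x894492492496512ca24924926124a6492492952cb289) i2)))) (g1 i1) (g1 (Nat.succ i1)) List.nil) fun j => (pk61d (nat_lit 6) 
    (nat_lit 0x3beb7d73c70bedaeaa2692181d6d95d54d134c288184080) j)) (pk61d (nat_lit 3) 
    (nat_lit 0x120480580c104c0592156d1) i1) (pk61d (nat_lit 2) 
    (nat_lit 0x154005944594241) i1)) (_root_.Prod.mk (_root_.Cfsg.Agent.H414.RelB.RC.mk (pk61d (nat_lit 12) 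
    (nat_lit 0x7c940721d1250ad9894cf26b14b0ad7f740f2331250a392349d2591390a381544522d1250977ed40f20b115097) i1) (pk61d (nat_lit 16) 
    (nat_lit 0xb1791cf906553ffd3ffd613911fb09a911fb34699743103913c3036d14e31f514b656d9903a901e7307980cb0a610a616727e5a30dab0a21033d0dab) i1) (pk61d (nat_lit 12) 
    (nat_lit 0x7c820321c1240ac1e807b26a0a502b3fb20723212405192212700f13805120511122c12409615240e105017096) i1) (pk61d (nat_lit 10) 
    (nat_lit 0x606787004011e800e6a00c2bfee078c9241454e014034e05181415010040181a0180905c06) i1) ((fun g1 : Nat → Nat => pk61l (fun i2 => (_root_.Prod.mk (pk61d (nat_lit 10) 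
    (nat_lit 0xc0219c0500c02008020f40200c6700c0200c2bfecad00d19008490080329c020140303403008030bc0b01c030080200c020340200c0200c1700c02) i2) (_root_.Prod.mk (pk61d (nat_lit 3) 
    (nat_lit 0x2c96922c924924925424925c249489249449) i2) (pk61d (nat_lit 3) 
    (nat_lit 0x2c96922c924924925424925c249489449449) i2)))) (g1 i1) (g1 (Nat.succ i1)) List.nil) fun j => (pk61d (nat_lit 6) 
    (nat_lit 0x30badaa9a269628607dd6d961655445038c2ca206103080) j)) (pk61d (nat_lit 2) 
    (nat_lit 0xcab100610c0a541) i1) (pk61d (nat_lit 3) 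
    (nat_lit 0x8600248040801301008281) i1)) (pk61d (nat_lit 13) 
    (nat_lit 0x1ed47ca20b087825d30a4cd13484e414e7ed204882c23609748e924c4a213304e9f8481e22308d8254fc24091048434116) i1)))) (Nat.mul (nat_lit 5) i0) (Nat.mul (nat_lit 5) (Nat.succ i0)) List.nil))) (nat_lit 0) (nat_lit 6) tl)
    = ?xq9013 → (List (ℕ × List (RC × RC × ℕ)))) ?hq9013; (case hq9013 => (set_option maxRecDepth 1000000 in conv => lhs; reduce)); intro _; exact ?xq9013 y3 : List (ℕ × List (RC × RC × ℕ)))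

theorem tab2_ok : tabB tab2 = true := by decide +kernel

end Cfsg.Agent.H149.Sa
end

-- part: H149/Sa/Tab3
section
/-!
# Certificates, part 3 (task 1527)
-/

set_option autoImplicit false
set_option maxRecDepth 20000

namespace Cfsg.Agent.H149.Sa

open Cfsg.Agent.H414.RelB

/-- certificates -/
noncomputable def tab3 : List (ℕ × List (RC × RC × ℕ)) :=
  let y0 : List (ℕ × List (RC × RC × ℕ)) := (by
  refine (?fq9014 : (pk61l (fun i0 => (_root_.Prod.mk (pk61d (nat_lit 10) 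
    (nat_lit 0x22d88e1d82e09) i0) (pk61l (fun i1 => (_root_.Prod.mk (_root_.Cfsg.Agent.H414.RelB.RC.mk (pk61d (nat_lit 12) 
    (nat_lit 0x82142521d79f3e51fd7eb40920979d3df1fd6fd38f1cf) i1) (pk61d (nat_lit 16) 
    (nat_lit 0x58c10c6d08713cf174e1a3b766e3368b204d2da9d2612ea322ed078b0b6f) i1) (pk61d (nat_lit 12) 
    (nat_lit 0x8204240873cf14c07f3f508104179c3de07f37e38e04d) i1) (pk61d (nat_lit 11) 
    (nat_lit 0x82120871860103fbf5006037ce0c60fedf80504d) i1) ((fun g1 : Nat → Nat => pk61l (fun i2 => (_root_.Prod.mk (pk61d (nat_lit 10) 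
    (nat_lit 0x20d4050080500c0d014030087ffd403035e70080b00c021fc9500c020140202c07) i2) (_root_.Prod.mk (pk61d (nat_lit 3) 
    (nat_lit 0x149459251249451249249) i2) (pk61d (nat_lit 3) 
    (nat_lit 0x149459451249451249249) i2)))) (g1 i1) (g1 (Nat.succ i1)) List.nil) fun j => (pk61d (nat_lit 5) 
    (nat_lit 0xdeaf59460f7356839040) j)) (pk61d (nat_lit 3) 
    (nat_lit 0x150080011048) i1) (pk61d (nat_lit 2) 
    (nat_lit 0x3404210) i1)) (_root_.Prod.mk (_root_.Cfsg.Agent.H414.RelB.RC.mk (pk61d (nat_lit 12) 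
    (nat_lit 0x84142d2237b53f521d7ed40f20b79f3f52097133971eb) i1) (pk61d (nat_lit 16) 
    (nat_lit 0x29a10f4d07d374e10e71dde9368b0d850e7d16db07d3044545610e59078b) i1) (pk61d (nat_lit 11) 
    (nat_lit 0x840b205bf68fd0121fb15a829e78fd208e24e59ea) i1) (pk61d (nat_lit 9) 
    (nat_lit 0xc2c85b020b04803568481e0b1a017960a) i1) ((fun g1 : Nat → Nat => pk61l (fun i2 => (_root_.Prod.mk (pk61d (nat_lit 8) 
    (nat_lit 0x30259020d07020b02030203ad030205030b0d020511030502) i2) (_root_.Prod.mk (pk61d (nat_lit 3) 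
    (nat_lit 0x185128a4894492512c9) i2) (pk61d (nat_lit 3) 
    (nat_lit 0x185128a4894512512c9) i2)))) (g1 i1) (g1 (Nat.succ i1)) List.nil) fun j => (pk61d (nat_lit 5) 
    (nat_lit 0xcdeb3941cd6290729040) j)) (pk61d (nat_lit 3) 
    (nat_lit 0x110490040401) i1) (pk61d (nat_lit 2) 
    (nat_lit 0x1009240c) i1)) (pk61d (nat_lit 13) 
    (nat_lit 0x410909443a79f1f287f4fd64091049e747be1fd37e8e3c39e) i1)))) (Nat.mul (nat_lit 3) i0) (Nat.mul (nat_lit 3) (Nat.succ i0)) List.nil))) (nat_lit 0) (nat_lit 5) List.nil : List (ℕ × List (RC × RC × ℕ)))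
    = ?xq9014 → (List (ℕ × List (RC × RC × ℕ)))) ?hq9014; (case hq9014 => (set_option maxRecDepth 1000000 in conv => lhs; reduce)); intro _; exact ?xq9014 : List (ℕ × List (RC × RC × ℕ)))
  let y1 : List (ℕ × List (RC × RC × ℕ)) := (by
  refine (?fq9015 : (fun tl : List (ℕ × List (RC × RC × ℕ)) => pk61l (fun i0 => (_root_.Prod.mk (pk61d (nat_lit 9) 
    (nat_lit 0x1fdfbfcfd7e7eff4f9fcd) i0) (pk61l (fun i1 => (_root_.Prod.mk (_root_.Cfsg.Agent.H414.RelB.RC.mk (pk61d (nat_lit 11) 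
    (nat_lit 0x1db5e39ebde2e3cefefb72e77f66b6d377c25c79cfdfae2ce7ecd71e7372db3b36f96da39b7) i1) (pk61d (nat_lit 16) 
    (nat_lit 0x1ab965e312df254b385fe1ef0f250e7d3f7d585d23ef038f7e9108bd0df314e32a9714e322750aab047f0eb90d211acf0cb5d181036d) i1) (pk61d (nat_lit 11) 
    (nat_lit 0x1db1e31ea1bc71c77b7d0cc3bf660921ba709c71ce37ee2873ecc38e1cd96b3a124cb5a30db) i1) (pk61d (nat_lit 11) 
    (nat_lit 0x5f1e30461bc1047781300c3bf6609201a0480d02a0060180180c38e05c0180e124cb5a30db) i1) ((fun g1 : Nat → Nat => pk61l (fun i2 => (_root_.Prod.mk (pk61d (nat_lit 9) 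
    (nat_lit 0x4c0a020b81c0602038140425018081a057784c0602778740a0301124040d018081a020380c0403018080603010340e050b80c0e022480a1e03d18089203) i2) (_root_.Prod.mk (pk61d (nat_lit 2) 
    (nat_lit 0x1655555555559595555595555555) i2) (pk61d (nat_lit 2) 
    (nat_lit 0x1a55955555559595555595555555) i2)))) (g1 i1) (g1 (Nat.succ i1)) List.nil) fun j => (pk61d (nat_lit 6) 
    (nat_lit 0xdf4c2daa89e69237dd71a61551244f30b288184080) j)) (pk61d (nat_lit 2) 
    (nat_lit 0x25404915120144) i1) (pk61d (nat_lit 2) 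
    (nat_lit 0x4404421550411) i1)) (_root_.Prod.mk (_root_.Cfsg.Agent.H414.RelB.RC.mk (pk61d (nat_lit 11) 
    (nat_lit 0x1e35e89f3dfaee4f3f137727af69b7339fc4dcb9dfe12e3ce9efd72e73f32b47383a0daa9c1) i1) (pk61d (nat_lit 16) 
    (nat_lit 0x65e30b1106df22ed09f57f3315371ce10683bef9198143cf1db3085f0d13232909f51b4f22ed84af2cef0ffb16eb0c610df326d50c41) i1) (pk61d (nat_lit 11) 
    (nat_lit 0xf19e81f2df877079f121107ab6909339ce244c8efe10e387489572c39d993461c1a088e1c0) i1) (pk61d (nat_lit 11) 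
    (nat_lit 0xf1808006df807079f1201018b690030842d44c8ef0902d87489572c00d993460403b88e1c0) i1) ((fun g1 : Nat → Nat => pk61l (fun i2 => (_root_.Prod.mk (pk61d (nat_lit 9) 
    (nat_lit 0x170380c0402018092a030101c04035a814040203808c2030100c1603012d422037780c040d03809d2950880c0403cc80b4602010440e02238080e02) i2) (_root_.Prod.mk (pk61d (nat_lit 3) 
    (nat_lit 0x124c24945524b44a24924a2992492c9249a4928e) i2) (pk61d (nat_lit 3) 
    (nat_lit 0x124c24945524b44a24924a2992492c9249a5128e) i2)))) (g1 i1) (g1 (Nat.succ i1)) List.nil) fun j => (pk61d (nat_lit 6) 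
    (nat_lit 0xd71c2eae9a259227de6da61755245034c2881c4080) j)) (pk61d (nat_lit 3) 
    (nat_lit 0x61481648200640209a56) i1) (pk61d (nat_lit 3) 
    (nat_lit 0x41228011210400640000) i1)) (pk61d (nat_lit 12) 
    (nat_lit 0xeda78e3d6de271e3bedf672e3bed9a6da376e1271e39edfa71639ed9a71e39acb667636ecb568e36d) i1)))) (Nat.mul (nat_lit 3) i0) (Nat.mul (nat_lit 3) (Nat.succ i0)) List.nil))) (nat_lit 0) (nat_lit 9) tl)
    = ?xq9015 → (List (ℕ × List (RC × RC × ℕ)))) ?hq9015; (case hq9015 => (set_option maxRecDepth 1000000 in conv => lhs; reduce)); intro _; exact ?xq9015 y0 : List (ℕ × List (RC × RC × ℕ)))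
  let y2 : List (ℕ × List (RC × RC × ℕ)) := (by
  refine (?fq9016 : (fun tl : List (ℕ × List (RC × RC × ℕ)) => pk61l (fun i0 => (_root_.Prod.mk (pk61d (nat_lit 9) 
    (nat_lit 0x1c9e0eef6fb1d7e974799) i0) ((fun g0 : Nat → Nat => pk61l (fun i1 => (_root_.Prod.mk (_root_.Cfsg.Agent.H414.RelB.RC.mk (pk61d (nat_lit 12) 
    (nat_lit 0x67f35b1b768335b1b765b3371a365b33b1a364d33b1a3b6f5c92e719961f31319960d313191b6f5db2f918d) i1) (pk61d (nat_lit 16) 
    (nat_lit 0x26ef26ef82091b2f082308230cb5235326ad0cb5135d0f4d127d14591e9534ff11598b2107093f37e75503fd71599a8b085d17f517f50eb90b9b) i1) (pk61d (nat_lit 11) 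
    (nat_lit 0x33f04e125a09ad1b643d9b1a221e67468e4c33a68842dc82e66610518919860c83064b6ebb57c063) i1) (pk61d (nat_lit 11) 
    (nat_lit 0x30061241880300643d9b01621e6740583400e09842dc82e6061050031980248300400e01c04063) i1) ((fun g1 : Nat → Nat => pk61l (fun i2 => (_root_.Prod.mk (pk61d (nat_lit 9) 
    (nat_lit 0x6032481c060387a2406020580a1e3b0382c1a020384c0413038940a021a81c06020e80c04030880c0403418080407038081603) i2) (_root_.Prod.mk (pk61d (nat_lit 2) 
    (nat_lit 0x565555556555757655a5976) i2) (pk61d (nat_lit 2) 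
    (nat_lit 0x565555556555757655a5976) i2)))) (g1 i1) (g1 (Nat.succ i1)) List.nil) fun j => (pk61d (nat_lit 6) 
    (nat_lit 0xbadb2baa9a2792285f79c6d95d449034c248185103080) j)) (pk61d (nat_lit 2) 
    (nat_lit 0x5021334860c) i1) (pk61d (nat_lit 2) 
    (nat_lit 0x141440000196002) i1)) (_root_.Prod.mk (_root_.Cfsg.Agent.H414.RelB.RC.mk (pk61d (nat_lit 12) 
    (nat_lit 0x68336d1c16ad36d1bb66533b1a566533d1a565b33d1a5b7b5cb32b1a562332b1a361731d199b7b5e7313191) i1) (pk61d (nat_lit 16) 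
    (nat_lit 0x1c8d1051048153837e9d13ed0ffb08c33ffd0ffb1369189d0cb54f3f383589b922bdeac7094d40b11b379df1582d085d3a1589b9230b21c70eb9) i1) (pk61d (nat_lit 12) 
    (nat_lit 0x6821240e035636c1ba19919d1a433233c1a432d0cf01eb7a5ca32a08c3111951a230b31c0ccb7a2f33120c8) i1) (pk61d (nat_lit 12) 
    (nat_lit 0xe00402000e36c02219903b1a433233c1a432d0cf006b7a5ca0a208c00505102601300400cb7a005312008) i1) ((fun g1 : Nat → Nat => pk61l (fun i2 => (_root_.Prod.mk (pk61d (nat_lit 9) 
    (nat_lit 0x380804020380892030104405991d81c0a03016640417018080e050180a1e030b80c06023883404130680c04030101c0a020280c26020980806023883404054180c0402) i2) (_root_.Prod.mk (pk61d (nat_lit 3) 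
    (nat_lit 0x25524944924944948928928924924c24a30928a24924b) i2) (pk61d (nat_lit 3) 
    (nat_lit 0x45524944924944948928928924924c24a30928a24924b) i2)))) (g1 i1) (g1 (Nat.succ i1)) List.nil) fun j => (pk61d (nat_lit 6) 
    (nat_lit 0xf3ae78db3c70beba668a079c6554d03ce30b288144040) j)) (pk61d (nat_lit 3) 
    (nat_lit 0x154a20229004928021220b) i1) (pk61d (nat_lit 3) 
    (nat_lit 0x1001089441804001008) i1)) (pk61d (nat_lit 13) 
    (nat_lit 0xcfe35b0db9a0c6b61b732d4cdc34665a99d868cc9a33b0d1adbcb922e70cc987c6261993068c4c322b6f2ed8be431a) i1)))) (g0 i0) (g0 (Nat.succ i0)) List.nil) fun j => (pk61d (nat_lit 5) 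
    (nat_lit 0x3babd22e51c80) j)))) (nat_lit 0) (nat_lit 9) tl)
    = ?xq9016 → (List (ℕ × List (RC × RC × ℕ)))) ?hq9016; (case hq9016 => (set_option maxRecDepth 1000000 in conv => lhs; reduce)); intro _; exact ?xq9016 y1 : List (ℕ × List (RC × RC × ℕ)))
  let y3 : List (ℕ × List (RC × RC × ℕ)) := (by
  refine (?fq9017 : (fun tl : List (ℕ × List (RC × RC × ℕ)) => pk61l (fun i0 => (_root_.Prod.mk (pk61d (nat_lit 9) 
    (nat_lit 0x6471b85bfdeeeb6f) i0) (pk61l (fun i1 => (_root_.Prod.mk (_root_.Cfsg.Agent.H414.RelB.RC.mk (pk61d (nat_lit 12) 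
    (nat_lit 0xb295992dd17bb295ab2d7175b475ab2d716fb475ab2dd1759f75152a515da1f5292a515ba3952729515d) i1) (pk61d (nat_lit 16) 
    (nat_lit 0x59f5d93907270511501d0cb306a3501d54a943c7187fc487385f1dc51b371b3716f90cb307ed1df53ffd14a13659040f147152610be90be9) i1) (pk61d (nat_lit 12) 
    (nat_lit 0x3359816e0bd5942d516b1745a35aa04216e3c22d516e0ba9f628a2a415ca1e52803415aa3829329415c) i1) (pk61d (nat_lit 12) 
    (nat_lit 0x300816e01b00c01900300c0030320420063c200500600601e28a2a400c04652800415aa3829300c00c) i1) ((fun g1 : Nat → Nat => pk61l (fun i2 => (_root_.Prod.mk (pk61d (nat_lit 10) 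
    (nat_lit 0xc020f4030080300c020140300c0200c050080b00c0200c020940d0080500c0200c02014030080d014020340200c0201c050080b01403008022b4021b40300a9300c0200c02) i2) (_root_.Prod.mk (pk61d (nat_lit 2) 
    (nat_lit 0x75769665555555559a6555e55d66) i2) (pk61d (nat_lit 2) 
    (nat_lit 0x75769665555655959a6555e55d66) i2)))) (g1 i1) (g1 (Nat.succ i1)) List.nil) fun j => (pk61d (nat_lit 6) 
    (nat_lit 0x38df6cf2c2fbacae99a486079c6565123cb288144080) j)) (pk61d (nat_lit 2) 
    (nat_lit 0x348215455a79ca) i1) (pk61d (nat_lit 2) 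
    (nat_lit 0x47454505411045) i1)) (_root_.Prod.mk (_root_.Cfsg.Agent.H414.RelB.RC.mk (pk61d (nat_lit 12) 
    (nat_lit 0xb2d5ab2ef18db2d5ad2dd185b515ad2dd175b515b32e317b9fd5292ab175a4952f2b3167a3d5292a5167) i1) (pk61d (nat_lit 16) 
    (nat_lit 0x19b5549d59f50d69ca37501d501d3d9121f10d69c48754a932e90fd34159e0719805b0416cfd1df53659114510a50599648d0be907ed0599) i1) (pk61d (nat_lit 12) 
    (nat_lit 0x1045aa1770165965ac2dc184b505ac16e05d5a80510290bd9fc5282aa1745240dd15916651e0842a40b3) i1) (pk61d (nat_lit 12) 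
    (nat_lit 0x1400a00301611e00c00c004b5000c0060035a80510290bd02407803e00c0040dd00f16600a00c2a40b3) i1) ((fun g1 : Nat → Nat => pk61l (fun i2 => (_root_.Prod.mk (pk61d (nat_lit 8) 
    (nat_lit 0x5020502030b020d0b020302030202b5020302030203b5020329070303020503021f02030202110d0503b302050203020d02b3) i2) (_root_.Prod.mk (pk61d (nat_lit 3) 
    (nat_lit 0x5124924945230a2497096912c9291249249491) i2) (pk61d (nat_lit 3) 
    (nat_lit 0x5224924945230a2497096912c9291249249491) i2)))) (g1 i1) (g1 (Nat.succ i1)) List.nil) fun j => (pk61d (nat_lit 6) 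
    (nat_lit 0x33c6fbaca679648a079d6da65755240e34b247143040) j)) (pk61d (nat_lit 3) 
    (nat_lit 0x4412928886004ca401290) i1) (pk61d (nat_lit 3) 
    (nat_lit 0x8048049103441008040) i1)) (pk61d (nat_lit 13) 
    (nat_lit 0xb292cc8b742f6b292d58b5c2eab472d58b5c2deb472d58b742ea9f728a8a942baa1f2948a942b6a38a938a542ba) i1)))) (Nat.mul (nat_lit 4) i0) (Nat.mul (nat_lit 4) (Nat.succ i0)) List.nil))) (nat_lit 0) (nat_lit 7) tl)
    = ?xq9017 → (List (ℕ × List (RC × RC × ℕ)))) ?hq9017; (case hq9017 => (set_option maxRecDepth 1000000 in conv => lhs; reduce)); intro _; exact ?xq9017 y2 : List (ℕ × List (RC × RC × ℕ)))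
  (by
  refine (?fq9018 : (fun tl : List (ℕ × List (RC × RC × ℕ)) => pk61l (fun i0 => (_root_.Prod.mk (pk61d (nat_lit 9) 
    (nat_lit 0x59ec35dadd46973d) i0) (pk61l (fun i1 => (_root_.Prod.mk (_root_.Cfsg.Agent.H414.RelB.RC.mk (pk61d (nat_lit 12) 
    (nat_lit 0xa3952f2ab15d9f751529314b9ef51529314b9fd51529314b8e148124b13392b49d25f13792349325f133) i1) (pk61d (nat_lit 16) 
    (nat_lit 0x2b69a75914d5135d2bf31069172306f7c55132c917230c7713f90d011433052f2e010d810dbd1a4d16750dd51675045d12b54db30e3502e3) i1) (pk61d (nat_lit 12) 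
    (nat_lit 0x3680662aa0743521451490374f728a29206e9fc51414900f47008024a13292a49c25e01f92249225e099) i1) (pk61d (nat_lit 12) 
    (nat_lit 0x800603e00403200514900b02908229206e9fc03402f00301008024a13200649c00601f00e05a25e009) i1) ((fun g1 : Nat → Nat => pk61l (fun i2 => (_root_.Prod.mk (pk61d (nat_lit 9) 
    (nat_lit 0x2018083e020101404051781c162906814042f0380816050111c0602068085e030100a4a020880c0403010ec0a02018083e070101406023280c0403) i2) (_root_.Prod.mk (pk61d (nat_lit 3) 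
    (nat_lit 0x32494892492492492522899c928924a24925124a) i2) (pk61d (nat_lit 3) 
    (nat_lit 0x324948a2492892492522899c928924a24925124a) i2)))) (g1 i1) (g1 (Nat.succ i1)) List.nil) fun j => (pk61d (nat_lit 6) 
    (nat_lit 0x35d32c2fb6caa9a2589f71a6585d65113cc2891c4040) j)) (pk61d (nat_lit 3) 
    (nat_lit 0x64a2000494809c9288248) i1) (pk61d (nat_lit 2) 
    (nat_lit 0x10000081024426) i1)) (_root_.Prod.mk (_root_.Cfsg.Agent.H414.RelB.RC.mk (pk61d (nat_lit 12) 
    (nat_lit 0xa495512b3161a135172951519f5517295151a1f5172951518f949325114b92f4a926b13d92549d265139) i1) (pk61d (nat_lit 16) 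
    (nat_lit 0x20513c11580d030128490eef07090eefaa390f430f0b0b29b6ef139f2acd05d1e7e92db507cf037393e545d9147107613775f3d708ad826f) i1) (pk61d (nat_lit 12) 
    (nat_lit 0x524550073020a1228b03c0154fa28b0370a850f28b2941508f849204a0a54974a813513c30c1270cc04e) i1) (pk61d (nat_lit 12) 
    (nat_lit 0xbc010017020a1201503c01501a28b0370a802305d08403014849204a0030054a800300409c03b00c006) i1) ((fun g1 : Nat → Nat => pk61l (fun i2 => (_root_.Prod.mk (pk61d (nat_lit 11) 
    (nat_lit 0xbc0100202e00a8480200e00c0280300401c0180d00407c038030160140380300401c0281f00602c018020060081480201a0140180204a0080180512a0080180201a00c0103b00600801802) i2) (_root_.Prod.mk (pk61d (nat_lit 3) 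
    (nat_lit 0x5434924944924924964924a30b2512492ca251289) i2) (pk61d (nat_lit 3) 
    (nat_lit 0x5434924944924924964924a30b25124a2ca251289) i2)))) (g1 i1) (g1 (Nat.succ i1)) List.nil) fun j => (pk61d (nat_lit 6) 
    (nat_lit 0x37d74cf2c2eae99e489f75b61651038d30a248144080) j)) (pk61d (nat_lit 3) 
    (nat_lit 0x5052102030146480c2411) i1) (pk61d (nat_lit 2) 
    (nat_lit 0x151115210445) i1)) (pk61d (nat_lit 13) 
    (nat_lit 0xa392978aac2ba9f728a8a4c2969ef28a8a4c2969fca8a8a4c2968e1240892c26692b24e897c26e923249897c266) i1)))) (Nat.mul (nat_lit 4) i0) (Nat.mul (nat_lit 4) (Nat.succ i0)) List.nil))) (nat_lit 0) (nat_lit 7) tl)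
    = ?xq9018 → (List (ℕ × List (RC × RC × ℕ)))) ?hq9018; (case hq9018 => (set_option maxRecDepth 1000000 in conv => lhs; reduce)); intro _; exact ?xq9018 y3 : List (ℕ × List (RC × RC × ℕ)))

theorem tab3_ok : tabB tab3 = true := by decide +kernel

end Cfsg.Agent.H149.Sa
end

-- part: H149/Sa/Tab4
section
/-!
# Certificates, part 4 (task 1527)
-/

set_option autoImplicit false
set_option maxRecDepth 20000

namespace Cfsg.Agent.H149.Sa

open Cfsg.Agent.H414.RelB

/-- certificates -/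
noncomputable def tab4 : List (ℕ × List (RC × RC × ℕ)) :=
  let y0 : List (ℕ × List (RC × RC × ℕ)) := (by
  refine (?fq9019 : (pk61l (fun i0 => (_root_.Prod.mk (pk61d (nat_lit 10) 
    (nat_lit 0x33dcef37) i0) ((fun g0 : Nat → Nat => pk61l (fun i1 => (_root_.Prod.mk (_root_.Cfsg.Agent.H414.RelB.RC.mk (pk61d (nat_lit 12) 
    (nat_lit 0x64d33763d329b7b5cf301) i1) (pk61d (nat_lit 16) 
    (nat_lit 0x14d5201d0f25ca0120aba2891981) i1) (pk61d (nat_lit 12) 
    (nat_lit 0x19333663c0cab7a5ce180) i1) (pk61d (nat_lit 11) 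
    (nat_lit 0x7d9b0e419438ae7180) i1) ((fun g1 : Nat → Nat => pk61l (fun i2 => (_root_.Prod.mk (pk61d (nat_lit 10) 
    (nat_lit 0x1f224030081300c02194021c402b9c0200c02) i2) (_root_.Prod.mk (pk61d (nat_lit 3) 
    (nat_lit 0x4924a24924f) i2) (pk61d (nat_lit 3) 
    (nat_lit 0x4924a24924f) i2)))) (g1 i1) (g1 (Nat.succ i1)) List.nil) fun j => (pk61d (nat_lit 4) 
    (nat_lit 0xfeb86420) j)) (pk61d (nat_lit 3) 
    (nat_lit 0xa24f) i1) (pk61d (nat_lit 1) 
    (nat_lit 0x31) i1)) (_root_.Prod.mk (_root_.Cfsg.Agent.H414.RelB.RC.mk (pk61d (nat_lit 12) 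
    (nat_lit 0x65533b649335b995fb329) i1) (pk61d (nat_lit 16) 
    (nat_lit 0x12fd06adf1d508f9685923ddca01) i1) (pk61d (nat_lit 12) 
    (nat_lit 0x65433a19219ab982fd194) i1) (pk61d (nat_lit 12) 
    (nat_lit 0x65400e192052b98009194) i1) ((fun g1 : Nat → Nat => pk61l (fun i2 => (_root_.Prod.mk (pk61d (nat_lit 7) 
    (nat_lit 0xa0c107050c1825209a87040f282) i2) (_root_.Prod.mk (pk61d (nat_lit 3) 
    (nat_lit 0x31124924968a) i2) (pk61d (nat_lit 3) 
    (nat_lit 0x31124924968a) i2)))) (g1 i1) (g1 (Nat.succ i1)) List.nil) fun j => (pk61d (nat_lit 5) 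
    (nat_lit 0x8356830c40) j)) (pk61d (nat_lit 2) 
    (nat_lit 0x2572) i1) (pk61d (nat_lit 3) 
    (nat_lit 0x101010) i1)) (pk61d (nat_lit 13) 
    (nat_lit 0x3268cdcc7a3295bd973c602) i1)))) (g0 i0) (g0 (Nat.succ i0)) List.nil) fun j => (pk61d (nat_lit 3) 
    (nat_lit 0xf58) j)))) (nat_lit 0) (nat_lit 3) List.nil : List (ℕ × List (RC × RC × ℕ)))
    = ?xq9019 → (List (ℕ × List (RC × RC × ℕ)))) ?hq9019; (case hq9019 => (set_option maxRecDepth 1000000 in conv => lhs; reduce)); intro _; exact ?xq9019 : List (ℕ × List (RC × RC × ℕ)))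
  let y1 : List (ℕ × List (RC × RC × ℕ)) := (by
  refine (?fq9020 : (fun tl : List (ℕ × List (RC × RC × ℕ)) => pk61l (fun i0 => (_root_.Prod.mk (pk61d (nat_lit 10) 
    (nat_lit 0xcd72bca71dc4f05c06f9bd6ef) i0) ((fun g0 : Nat → Nat => pk61l (fun i1 => (_root_.Prod.mk (_root_.Cfsg.Agent.H414.RelB.RC.mk (pk61d (nat_lit 12) 
    (nat_lit 0xb235ad2e3b655c92f5b3f5c93055e7301b2d5a72ddb295ab2ddb995d12efb475ab2ddb235ab2dda1f5292bd) i1) (pk61d (nat_lit 16) 
    (nat_lit 0x5e579b350e6b922f10691d8986e96341169f0bb94801218510f3c8291d410c773d7b296918df18df6b951aff1d413979157d06d9148d12c1b7c1) i1) (pk61d (nat_lit 12) 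
    (nat_lit 0xb225ac2e20f35c82f459f1280c15e6300b2c5a60f43b82d507ab9805d177b465aa2dc5912d52dc1725282bc) i1) (pk61d (nat_lit 11) 
    (nat_lit 0x1e108b88798280d967c040c1014c011e5a61e80204887a35000c01806014030018190180283c08c) i1) ((fun g1 : Nat → Nat => pk61l (fun i2 => (_root_.Prod.mk (pk61d (nat_lit 11) 
    (nat_lit 0xa00c0100b0060081480300400c0280200600acf80218201401003004034058021e200c0103d0040080e80507a0081a80200600c0180200a008018020060140180200a0080280300401c02802) i2) (_root_.Prod.mk (pk61d (nat_lit 4) 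
    (nat_lit 0x11111212151332131111811211112311111311111112121211113112) i2) (pk61d (nat_lit 4) 
    (nat_lit 0x21121212151332131111811211112312111311112112121211113122) i2)))) (g1 i1) (g1 (Nat.succ i1)) List.nil) fun j => (pk61d (nat_lit 6) 
    (nat_lit 0xe35cafbacaa9a2796381d6da61651349038c2ca2060c0) j)) (pk61d (nat_lit 4) 
    (nat_lit 0x12103203018212301300112002132) i1) (pk61d (nat_lit 3) 
    (nat_lit 0x12a8600041000049048208) i1)) (_root_.Prod.mk (_root_.Cfsg.Agent.H414.RelB.RC.mk (pk61d (nat_lit 12) 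
    (nat_lit 0xb295bf2e7b6f5cf2f9b655cb3135fb313b475ab2f5b2d5ad2f9b9b5db2f9b515ad2e3b475ad2efa3d52f2e7) i1) (pk61d (nat_lit 16) 
    (nat_lit 0x463922750b991f49a289063da52b199907cf11ef0f5b58f914330b9b264b11051d41d2f10f0d43f1d32111050b89e6ad11050af1b3ed8d0d3cdf) i1) (pk61d (nat_lit 12) 
    (nat_lit 0xb282df2e6b6e5ce17c2d95ca3125fa1890275aa01b08216b2f8b9a5da17cb505ac2e2b4616b0fa28f52e173) i1) (pk61d (nat_lit 11) 
    (nat_lit 0x185beb98075ce098b6427006bf46241380a036068b580821c35802010b58b886f02106401433173) i1) ((fun g1 : Nat → Nat => pk61l (fun i2 => (_root_.Prod.mk (pk61d (nat_lit 10) 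
    (nat_lit 0xc0201c0500c3501c0201c02b9c0204c0200c0d00c0200c020440500c0220c03034030140200c0d0080b00c02014030086b008020080b00c020a4030082500c0202c03014020141100c020d407) i2) (_root_.Prod.mk (pk61d (nat_lit 3) 
    (nat_lit 0xb44924924ac4924944924964a2cb24a88a289249449249) i2) (pk61d (nat_lit 3) 
    (nat_lit 0xb44924924ac4924944925164a2cb24a88a289251649249) i2)))) (g1 i1) (g1 (Nat.succ i1)) List.nil) fun j => (pk61d (nat_lit 6) 
    (nat_lit 0xfbce76d32c2fb2a9a48a07dd6da5d551340d288185080) j)) (pk61d (nat_lit 3) 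
    (nat_lit 0x3049409201043254448208) i1) (pk61d (nat_lit 3) 
    (nat_lit 0x1200189448608600289008) i1)) (pk61d (nat_lit 13) 
    (nat_lit 0x16465ad171ad94b922f559f972460a5dc980acb4b4e2dd59496ac5bab992e88bbd68e5ab16eac8cb562dd50f94a457a) i1)))) (g0 i0) (g0 (Nat.succ i0)) List.nil) fun j => (pk61d (nat_lit 5) 
    (nat_lit 0x7757a49ec49860) j)))) (nat_lit 0) (nat_lit 10) tl)
    = ?xq9020 → (List (ℕ × List (RC × RC × ℕ)))) ?hq9020; (case hq9020 => (set_option maxRecDepth 1000000 in conv => lhs; reduce)); intro _; exact ?xq9020 y0 : List (ℕ × List (RC × RC × ℕ)))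
  let y2 : List (ℕ × List (RC × RC × ℕ)) := (by
  refine (?fq9021 : (fun tl : List (ℕ × List (RC × RC × ℕ)) => pk61l (fun i0 => (_root_.Prod.mk (pk61d (nat_lit 10) 
    (nat_lit 0xb9ee3b76d7b3ec5af6b3aaea5) i0) (pk61l (fun i1 => (_root_.Prod.mk (_root_.Cfsg.Agent.H414.RelB.RC.mk (pk61d (nat_lit 12) 
    (nat_lit 0xaf158f2cfa1f5292aba3952f2bdaab55d2c5aab5652bda935512b39d951b2a59f551b2a19f75152a19ad4eb287) i1) (pk61d (nat_lit 16) 
    (nat_lit 0x47e11a053db527371cf94faf998524df102525130c250c25189d298306ad5da342f108cb1c8d0f4f279d19b5b7a907e1c7070b2de2c1b30922670617) i1) (pk61d (nat_lit 12) 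
    (nat_lit 0xaf058e16750f05815551c29708c1c755c0ec5552b22bc5492a82b24ec28d1529f451a0703525140e09ac275286) i1) (pk61d (nat_lit 11) 
    (nat_lit 0xc80122ce01c0401f01800c020410080103488a03800c440061f8a34a901ca34040190340400113a826) i1) ((fun g1 : Nat → Nat => pk61l (fun i2 => (_root_.Prod.mk (pk61d (nat_lit 10) 
    (nat_lit 0x140200c0259c070081f00c0200c02034050080201c0500c1700c0201c0200c11008030080700c02a340d0080700a8d008020140203402008020941104c02) i2) (_root_.Prod.mk (pk61d (nat_lit 3) 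
    (nat_lit 0x1444964a28948924928964948a2513112aa249) i2) (pk61d (nat_lit 3) 
    (nat_lit 0x1444964a28948924928964948a2913112aa249) i2)))) (g1 i1) (g1 (Nat.succ i1)) List.nil) fun j => (pk61d (nat_lit 6) 
    (nat_lit 0x32c2eb6caeaa279a48e27dc6995d54913cd2ca206144080) j)) (pk61d (nat_lit 3) 
    (nat_lit 0x2101841048141940a30aa81) i1) (pk61d (nat_lit 2) 
    (nat_lit 0x200500511800000) i1)) (_root_.Prod.mk (_root_.Cfsg.Agent.H414.RelB.RC.mk (pk61d (nat_lit 12) 
    (nat_lit 0xb1b5952d7a3952f2bda3d5652c5ab55652cfab55772c5a9955d2bd9f752f2aba1f5272a5a135292a59c7503295) i1) (pk61d (nat_lit 16) 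
    (nat_lit 0x4c210b290dab1b4165b90c95b8399985998557c50c2556f34aed0aed070918b9188f0af1b54b1145091d2ccf3dc9d493467f0e7107ed27190f072773) i1) (pk61d (nat_lit 12) 
    (nat_lit 0xcb5940790da2972bca3c5642c4ab41cc167ab42bb2c43882ae2bc0ff1ba2aa50f2930a9a1214a0a99c62810a5) i1) (pk61d (nat_lit 12) 
    (nat_lit 0xcb59400b0da00308ca3c00c00c224004167ab42bb00c38800e2bc0ff1ba0160b92930a9a120420a99c6281021) i1) ((fun g1 : Nat → Nat => pk61l (fun i2 => (_root_.Prod.mk (pk61d (nat_lit 11) 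
    (nat_lit 0xe80702201c018020161b40100300e0140108300a008018020060084480200459c448050043a4018030041c40100700401c028020220140181101a0080580204a0154980da120080580300403445803004a0405803) i2) (_root_.Prod.mk (pk61d (nat_lit 2) 
    (nat_lit 0x5565559666695959d5a555556556655) i2) (pk61d (nat_lit 2) 
    (nat_lit 0x5569569666695959f5a555556556655) i2)))) (g1 i1) (g1 (Nat.succ i1)) List.nil) fun j => (pk61d (nat_lit 6) 
    (nat_lit 0x3ef38df5d31bacaa89e68e17dd6d855240e34c287183080) j)) (pk61d (nat_lit 2) 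
    (nat_lit 0x212aa88b6140510) i1) (pk61d (nat_lit 2) 
    (nat_lit 0x104140140400121) i1)) (pk61d (nat_lit 13) 
    (nat_lit 0x2bc4b1e2cf50f94a4556a392978af555655d162aaacaca2bd54995445669d928d8a953ea51b150a7dca2a2a14d693ac50e) i1)))) (Nat.mul (nat_lit 3) i0) (Nat.mul (nat_lit 3) (Nat.succ i0)) List.nil))) (nat_lit 0) (nat_lit 10) tl)
    = ?xq9021 → (List (ℕ × List (RC × RC × ℕ)))) ?hq9021; (case hq9021 => (set_option maxRecDepth 1000000 in conv => lhs; reduce)); intro _; exact ?xq9021 y1 : List (ℕ × List (RC × RC × ℕ)))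
  let y3 : List (ℕ × List (RC × RC × ℕ)) := (by
  refine (?fq9022 : (fun tl : List (ℕ × List (RC × RC × ℕ)) => pk61l (fun i0 => (_root_.Prod.mk (pk61d (nat_lit 10) 
    (nat_lit 0xa8695a4e8da1e83a06779ae69) i0) (pk61l (fun i1 => (_root_.Prod.mk (_root_.Cfsg.Agent.H414.RelB.RC.mk (pk61d (nat_lit 12) 
    (nat_lit 0x9f75092879f54fd2878f549326b9f54fd28398f4cf2819594cd26b95f4c726b9714bd26594f4c126592f49d259) i1) (pk61d (nat_lit 16) 
    (nat_lit 0x2dd3e8190f251b0514752ddf82b10b7b62fb1ec7a69128217c3718fd25811c091cc99749d369131909a98d910e350bf518d1286117e913d94df90fa1) i1) (pk61d (nat_lit 12) 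
    (nat_lit 0x3525081439f427e14323d04126a0b64fc06b98e0cd2804ac4cc06795e2631359704bc26431a26026492e49c019) i1) (pk61d (nat_lit 12) 
    (nat_lit 0xaa00814316c01601300300d26a01a00406b98e0292804ac4cc0670162631359704bc26431a26026400a014019) i1) ((fun g1 : Nat → Nat => pk61l (fun i2 => (_root_.Prod.mk (pk61d (nat_lit 11) 
    (nat_lit 0x88050040080981101a01c0100b00404c0180d0ce00c0100d00400835cc70040a40280202e0340113300419c0580205e0343380312e008328030040440180231a0080980202200c0100500401401005) i2) (_root_.Prod.mk (pk61d (nat_lit 3) 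
    (nat_lit 0x92c925124924928924f25144924930945224d291252) i2) (pk61d (nat_lit 3) 
    (nat_lit 0xa2c929124924928924f25144924930945224d292252) i2)))) (g1 i1) (g1 (Nat.succ i1)) List.nil) fun j => (pk61d (nat_lit 6) 
    (nat_lit 0x3adf6d31beeb6ca679a58e281d6da6165123cc288143040) j)) (pk61d (nat_lit 3) 
    (nat_lit 0xb088009408e9020448d450) i1) (pk61d (nat_lit 2) 
    (nat_lit 0x440000046080) i1)) (_root_.Prod.mk (_root_.Cfsg.Agent.H414.RelB.RC.mk (pk61d (nat_lit 12) 
    (nat_lit 0x9fd50b28d9f74ff29390749d2879f74ff28799b4e128395f4cf27796b4cf2779774c12699714c72699354a9265) i1) (pk61d (nat_lit 16) 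
    (nat_lit 0x1df59b35b0ed6d93385309eb82b10dd5059532350b890a8b900713811eef26535b4b1d892b4f0ffbd12f38c52f8134f166011d4167791e4927954a1d) i1) (pk61d (nat_lit 12) 
    (nat_lit 0x9fc28528c1a927f2924831271433524fe1434cd27006b4af26727696a0cd13b4bb4c01344b84c609a934254132) i1) (pk61d (nat_lit 12) 
    (nat_lit 0x9fc0810041a900905e0031270110220120134cd03006b06d2672761e200513b4bb4c001c00801a09a04c254132) i1) ((fun g1 : Nat → Nat => pk61l (fun i2 => (_root_.Prod.mk (pk61d (nat_lit 11) 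
    (nat_lit 0x47006008158030040440280305e0080183b00a0440880200600809ccd0060083586d0520140180700a00c010f1004014038050062b40381300401c0100201a0080580700404c0109500404401802) i2) (_root_.Prod.mk (pk61d (nat_lit 3) 
    (nat_lit 0x1489452249249449309249289249449c53249251451) i2) (pk61d (nat_lit 3) 
    (nat_lit 0x1489452249249449309249289249449c53249251451) i2)))) (g1 i1) (g1 (Nat.succ i1)) List.nil) fun j => (pk61d (nat_lit 6) 
    (nat_lit 0x39db4cf1c2eb6baa89a59228607595d64d13cd30a1c50c0) j)) (pk61d (nat_lit 3) 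
    (nat_lit 0x10401001204001200c99291) i1) (pk61d (nat_lit 2) 
    (nat_lit 0x908408106080002) i1)) (pk61d (nat_lit 13) 
    (nat_lit 0x27dca122874fa93f450e8f524989ad3ea4fd141a63c99e2814ac93344d695f26389ad2e24bd132a53c98226549792744b2) i1)))) (Nat.mul (nat_lit 3) i0) (Nat.mul (nat_lit 3) (Nat.succ i0)) List.nil))) (nat_lit 0) (nat_lit 10) tl)
    = ?xq9022 → (List (ℕ × List (RC × RC × ℕ)))) ?hq9022; (case hq9022 => (set_option maxRecDepth 1000000 in conv => lhs; reduce)); intro _; exact ?xq9022 y2 : List (ℕ × List (RC × RC × ℕ)))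
  (by
  refine (?fq9023 : (fun tl : List (ℕ × List (RC × RC × ℕ)) => pk61l (fun i0 => (_root_.Prod.mk (pk61d (nat_lit 10) 
    (nat_lit 0x9965f966579464b9063b8e633) i0) (pk61l (fun i1 => (_root_.Prod.mk (_root_.Cfsg.Agent.H414.RelB.RC.mk (pk61d (nat_lit 12) 
    (nat_lit 0x9074932578e94812578ef48124b85f44f2398c346924188345d23383f42d22382742722385f44322382741b21d) i1) (pk61d (nat_lit 16) 
    (nat_lit 0x4ec1460305651d53828113f3a0bd4ec106df2f413ec3103923096d3915cd220975b583b939b3dbb971f522ed8d0d11fb205f095f205f8261280328ed) i1) (pk61d (nat_lit 12) 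
    (nat_lit 0x1810c325623a48012b47724024a42f22723846117802444122e23283e16401a82616205b2ca442222826069087) i1) (pk61d (nat_lit 12) 
    (nat_lit 0x500302e00648001747724024a03f01d00846100802444122e23283e16401a12a16200d0060da00682600301b) i1) ((fun g1 : Nat → Nat => pk61l (fun i2 => (_root_.Prod.mk (pk61d (nat_lit 9) 
    (nat_lit 0x1406170100c04030105cfe030180a4a020380c3a021d84c04030102c061f0180a3202698140459010340495010ec06020680c046d0100c0495038080603) i2) (_root_.Prod.mk (pk61d (nat_lit 3) 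
    (nat_lit 0x4924ae4a58928b25a49144924944924924924924b) i2) (pk61d (nat_lit 3) 
    (nat_lit 0x4924ae4a58928b25a49144924944924924924924b) i2)))) (g1 i1) (g1 (Nat.succ i1)) List.nil) fun j => (pk61d (nat_lit 6) 
    (nat_lit 0x37db5cf1beeb2aa269648a17dd69855344f30b247142040) j)) (pk61d (nat_lit 3) 
    (nat_lit 0x2781880c3409289209240) i1) (pk61d (nat_lit 2) 
    (nat_lit 0x118a200a8004447) i1)) (_root_.Prod.mk (_root_.Cfsg.Agent.H414.RelB.RC.mk (pk61d (nat_lit 12) 
    (nat_lit 0x92549d2598f54932598f54932578714632518cb47f24b8ad46323985344323984143f233883445233829427223) i1) (pk61d (nat_lit 16) 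
    (nat_lit 0x3b9f733d46035539210d12c14a231951052f5461c88f04e11fa56839de0bc6973bd130d116db0ae7e7dd8b9115373d7921e5205f13c31c8d0c732803) i1) (pk61d (nat_lit 12) 
    (nat_lit 0x4149c04b8f424904b47a08212b2d003325004b07324a45623104742944211c0b021f232882222232414213111) i1) (pk61d (nat_lit 11) 
    (nat_lit 0x6c9c0060301684b00c02806ad000604025873494378108470060288e0b043e8c80900646505109803) i1) ((fun g1 : Nat → Nat => pk61l (fun i2 => (_root_.Prod.mk (pk61d (nat_lit 9) 
    (nat_lit 0x68ec0a020180c040501814060301014040d0280c040301014061702c9404250180816032380c0a022380816025a80e32020180806028c8083a03010ec0603) i2) (_root_.Prod.mk (pk61d (nat_lit 3) 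
    (nat_lit 0x24a2514892492a188924924924928c24944924a451) i2) (pk61d (nat_lit 3) 
    (nat_lit 0x24a2514892492a188924924924928c24944924a451) i2)))) (g1 i1) (g1 (Nat.succ i1)) List.nil) fun j => (pk61d (nat_lit 6) 
    (nat_lit 0x38df4cf1bedae9a2592385f75a61759449038c288183040) j)) (pk61d (nat_lit 3) 
    (nat_lit 0x2080244100240054049280) i1) (pk61d (nat_lit 2) 
    (nat_lit 0x59424414404929) i1)) (pk61d (nat_lit 13) 
    (nat_lit 0x241c92625747492044ae8ef240892d0be44f11ca30c8d2241441917446683f216888d04e427111a17c886223413906c43a) i1)))) (Nat.mul (nat_lit 3) i0) (Nat.mul (nat_lit 3) (Nat.succ i0)) List.nil))) (nat_lit 0) (nat_lit 10) tl)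
    = ?xq9023 → (List (ℕ × List (RC × RC × ℕ)))) ?hq9023; (case hq9023 => (set_option maxRecDepth 1000000 in conv => lhs; reduce)); intro _; exact ?xq9023 y3 : List (ℕ × List (RC × RC × ℕ)))

theorem tab4_ok : tabB tab4 = true := by decide +kernel

end Cfsg.Agent.H149.Sa
end

-- part: H149/Sa/Tab5
section
/-!
# Certificates, part 5 (task 1527)
-/

set_option autoImplicit false
set_option maxRecDepth 20000

namespace Cfsg.Agent.H149.Sa

open Cfsg.Agent.H414.RelB

/-- certificates -/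
noncomputable def tab5 : List (ℕ × List (RC × RC × ℕ)) :=
  let y0 : List (ℕ × List (RC × RC × ℕ)) := (by
  refine (?fq9024 : (pk61l (fun i0 => (_root_.Prod.mk (pk61d (nat_lit 11) 
    (nat_lit 0x284d039ff3f675ce19ab33e66cc7) i0) (pk61l (fun i1 => (_root_.Prod.mk (_root_.Cfsg.Agent.H414.RelB.RC.mk (pk61d (nat_lit 12) 
    (nat_lit 0x9eb4fd9a34eb9494e19774cd9854c79854cd9854c79774c794d4c192f49d) i1) (pk61d (nat_lit 16) 
    (nat_lit 0x4b8557b57d3b11ef1bd90e7586cf219527d12d89300d1cc957af131938c53e0f1d39214113d51e6d) i1) (pk61d (nat_lit 12) 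
    (nat_lit 0x4f50744d14ea9480349764cc32c2639841334c226397626394c4c049749c) i1) (pk61d (nat_lit 12) 
    (nat_lit 0x1b0044d102294800400e4cc01c02f00c1330ae2639762631544c002f0ec) i1) ((fun g1 : Nat → Nat => pk61l (fun i2 => (_root_.Prod.mk (pk61d (nat_lit 9) 
    (nat_lit 0x6024480c22020580c04020380a6602038085e03014cc3a03010bc1aad038085e0d088140413010bc7602) i2) (_root_.Prod.mk (pk61d (nat_lit 3) 
    (nat_lit 0x1a2892da24a289449249249251c4a) i2) (pk61d (nat_lit 3) 
    (nat_lit 0x1a2892da24a289449249249251c4a) i2)))) (g1 i1) (g1 (Nat.succ i1)) List.nil) fun j => (pk61d (nat_lit 6) 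
    (nat_lit 0x269648a075c6985954d23cd288143080) j)) (pk61d (nat_lit 3) 
    (nat_lit 0x8168a410208582) i1) (pk61d (nat_lit 2) 
    (nat_lit 0xc8c0044000) i1)) (_root_.Prod.mk (_root_.Cfsg.Agent.H414.RelB.RC.mk (pk61d (nat_lit 12) 
    (nat_lit 0x9f54ff9c74fd94d4fd9854d59894cf9894cf9894cd9894cd96b4c79354c1) i1) (pk61d (nat_lit 16) 
    (nat_lit 0x2ccb159714cb0c7714750e7586cf2ddf6ac1ef6b6839d4b12329232930852195166d1ca556394c01) i1) (pk61d (nat_lit 12) 
    (nat_lit 0x27d27f34227e2534fc1961354c42679880cd4c44cc4c44cc4b526324d4c0) i1) (pk61d (nat_lit 11) 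
    (nat_lit 0x4fa0240327e0ee0100713500803c14029008010024cc00a98c0fcc0) i1) ((fun g1 : Nat → Nat => pk61l (fun i2 => (_root_.Prod.mk (pk61d (nat_lit 9) 
    (nat_lit 0x681c06030107416020881c04070119c06020280c0a02148080402998080a2f0687c2602) i2) (_root_.Prod.mk (pk61d (nat_lit 3) 
    (nat_lit 0x29124925124a24b29228924e) i2) (pk61d (nat_lit 3) 
    (nat_lit 0x29124925124a24b29228924e) i2)))) (g1 i1) (g1 (Nat.succ i1)) List.nil) fun j => (pk61d (nat_lit 6) 
    (nat_lit 0x2079d6d85954d140e30b289206143080) j)) (pk61d (nat_lit 3) 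
    (nat_lit 0x9088418492006) i1) (pk61d (nat_lit 2) 
    (nat_lit 0x2401100000) i1)) (pk61d (nat_lit 13) 
    (nat_lit 0x9eb27ea68c9d6949270a5dc99a985263a61499a985263a5dc98e94d260a4bc93a) i1)))) (Nat.mul (nat_lit 2) i0) (Nat.mul (nat_lit 2) (Nat.succ i0)) List.nil))) (nat_lit 0) (nat_lit 10) List.nil : List (ℕ × List (RC × RC × ℕ)))
    = ?xq9024 → (List (ℕ × List (RC × RC × ℕ)))) ?hq9024; (case hq9024 => (set_option maxRecDepth 1000000 in conv => lhs; reduce)); intro _; exact ?xq9024 : List (ℕ × List (RC × RC × ℕ)))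
  let y1 : List (ℕ × List (RC × RC × ℕ)) := (by
  refine (?fq9025 : (fun tl : List (ℕ × List (RC × RC × ℕ)) => pk61l (fun i0 => (_root_.Prod.mk (pk61d (nat_lit 11) 
    (nat_lit 0x4c197b2c654ca393b24e45c818ff1a631c5d) i0) (pk61l (fun i1 => (_root_.Prod.mk (_root_.Cfsg.Agent.H414.RelB.RC.mk (pk61d (nat_lit 12) 
    (nat_lit 0x92f4a39494a98f548b91d4938f948b8f948b88345d8ad4698c34698a545d869445853445871445) i1) (pk61d (nat_lit 16) 
    (nat_lit 0x1ca58f9f69e51e017d592113163d313925cd7f198fe1e77f220915cd263511a11e4911a118490ae72c230a4954df0cf1cd512e0d) i1) (pk61d (nat_lit 12) 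
    (nat_lit 0x92e2514a44a88f424591c24923e48a8f848a44145c8ac1788c208d45205d10d0b68521112d016c) i1) (pk61d (nat_lit 12) 
    (nat_lit 0x5e25106c0088f405300402d0520a600848a44145c03c17802608d00e05d10d00e1aa0032d001c) i1) ((fun g1 : Nat → Nat => pk61l (fun i2 => (_root_.Prod.mk (pk61d (nat_lit 10) 
    (nat_lit 0x2f00a5100c02008bf00c0214c02014030a40214c020085301c0202c0307c030080500c020bc0204c020bc0301c0207c03434070084700c0200c0500c0201c02) i2) (_root_.Prod.mk (pk61d (nat_lit 3) 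
    (nat_lit 0x4969928a28925925229128b24924924924950a) i2) (pk61d (nat_lit 3) 
    (nat_lit 0x4969928a28925925229128b24924924924950a) i2)))) (g1 i1) (g1 (Nat.succ i1)) List.nil) fun j => (pk61d (nat_lit 6) 
    (nat_lit 0x33c70badaa9a2692285e71959449038c2c9185080) j)) (pk61d (nat_lit 3) 
    (nat_lit 0x84d04096424c8201222) i1) (pk61d (nat_lit 2) 
    (nat_lit 0xc4200a411058) i1)) (_root_.Prod.mk (_root_.Cfsg.Agent.H414.RelB.RC.mk (pk61d (nat_lit 12) 
    (nat_lit 0x9354b194d4b18f94a992549d9074939074938a54698bd47f8cb47f8ad46388345d85f44f88344f) i1) (pk61d (nat_lit 15) 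
    (nat_lit 0xdcef49b3c93b3f4a92a9e9c91a3754906e81148322497be28c312bae2c8cae6920d340a3965104ce79408ea06ca718ceb) i1) (pk61d (nat_lit 12) 
    (nat_lit 0x49a04b94c06447c12a92449c3022499064928a423422f23f8ca23f8ac23144122e13244e44144e) i1) (pk61d (nat_lit 12) 
    (nat_lit 0x49a04b0440140a412a9240ec30202d90649201c00c02b01905a0051bc00344122e13203a06344e) i1) ((fun g1 : Nat → Nat => pk61l (fun i2 => (_root_.Prod.mk (pk61d (nat_lit 8) 
    (nat_lit 0x1f1302050311020502290295020d0503023b020b07050205030b070503020d050302070203022b0505030205250302030b031f03021103021d020b031d1302) i2) (_root_.Prod.mk (pk61d (nat_lit 2) 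
    (nat_lit 0x15966655a65565556599995669965595) i2) (pk61d (nat_lit 2) 
    (nat_lit 0x1596a655a65565556599b99669965695) i2)))) (g1 i1) (g1 (Nat.succ i1)) List.nil) fun j => (pk61d (nat_lit 6) 
    (nat_lit 0x3ff3ae36d32baca2685d6d961751340f34a1c50c0) j)) (pk61d (nat_lit 2) 
    (nat_lit 0x4a9a45a048151) i1) (pk61d (nat_lit 2) 
    (nat_lit 0x1008261085a88) i1)) (pk61d (nat_lit 13) 
    (nat_lit 0x24bc946949254a3d491691d249a3e49168f9245a20c8ba8ad234a30c8d28a522ea1a488a853222a1c488a) i1)))) (Nat.mul (nat_lit 2) i0) (Nat.mul (nat_lit 2) (Nat.succ i0)) List.nil))) (nat_lit 0) (nat_lit 13) tl)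
    = ?xq9025 → (List (ℕ × List (RC × RC × ℕ)))) ?hq9025; (case hq9025 => (set_option maxRecDepth 1000000 in conv => lhs; reduce)); intro _; exact ?xq9025 y0 : List (ℕ × List (RC × RC × ℕ)))
  let y2 : List (ℕ × List (RC × RC × ℕ)) := (by
  refine (?fq9026 : (fun tl : List (ℕ × List (RC × RC × ℕ)) => pk61l (fun i0 => (_root_.Prod.mk (pk61d (nat_lit 11) 
    (nat_lit 0x45589f12622c4387f0b613c2583706607c09) i0) (pk61l (fun i1 => (_root_.Prod.mk (_root_.Cfsg.Agent.H414.RelB.RC.mk (pk61d (nat_lit 12) 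
    (nat_lit 0x82142d86944385f43f85142d85142d80542783342582341b8214197db3fb7d33fd7eb3fd7cd3f5) i1) (pk61d (nat_lit 16) 
    (nat_lit 0x924108dd541199491ff31ff31c8110b116e11d3580410c7383214f811867092b109124d9483d0fe950031d712f7d5cf918850fd1) i1) (pk61d (nat_lit 12) 
    (nat_lit 0x82042c8682212ca43e85042c42821680442641942482241a4104180c93fa08f1547ea1547cc3f4) i1) (pk61d (nat_lit 12) 
    (nat_lit 0x82000c86822100600613042c0082168040124190d48220060104180c93fa00b0047ea1540043f4) i1) ((fun g1 : Nat → Nat => pk61l (fun i2 => (_root_.Prod.mk (pk61d (nat_lit 11) 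
    (nat_lit 0xd00a0080180221a00836805006008018020260082c8030040082c80300404c0180200600a0c83500456c018020060080108300410c019fd00402c013f50040440280200405c05802) i2) (_root_.Prod.mk (pk61d (nat_lit 3) 
    (nat_lit 0x134a2c92493094c925a44944926164925124a44a) i2) (pk61d (nat_lit 3) 
    (nat_lit 0x134a2c92493094c925a44944926164925124a44a) i2)))) (g1 i1) (g1 (Nat.succ i1)) List.nil) fun j => (pk61d (nat_lit 6) 
    (nat_lit 0x35cb0bacaa89a389f71a65751244f34b2891c40c0) j)) (pk61d (nat_lit 3) 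
    (nat_lit 0x2a609899442263042292) i1) (pk61d (nat_lit 2) 
    (nat_lit 0x10511e0504000) i1)) (_root_.Prod.mk (_root_.Cfsg.Agent.H414.RelB.RC.mk (pk61d (nat_lit 12) 
    (nat_lit 0x83f44988344587144385944385943f82742d83f42782742582941b7ed4077db4077ed4077d33fd) i1) (pk61d (nat_lit 16) 
    (nat_lit 0x526dcd8144d7094f52450cc71d3526531ab91db3eea3642199533a15358d0c6d2e392b7b230b4c736f9b283d474d09a911451b3b) i1) (pk61d (nat_lit 12) 
    (nat_lit 0x41f44816b11105a44242c44285821f09542c41f4268264242b841a3f620329e2037ec2033e9055) i1) (pk61d (nat_lit 11) 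
    (nat_lit 0x20fc4804200c2d4428591080c21f12b0b002c262543515c0d209c80c05203fd819c06855) i1) ((fun g1 : Nat → Nat => pk61l (fun i2 => (_root_.Prod.mk (pk61d (nat_lit 8) 
    (nat_lit 0xd30589020b03030503026d05025903026d05020302b50395590302053b0302950235021d0302070503020d03026705050267050d0302670d1105) i2) (_root_.Prod.mk (pk61d (nat_lit 2) 
    (nat_lit 0x5755955655d559655975555556655) i2) (pk61d (nat_lit 2) 
    (nat_lit 0x5795955655d559655976595556655) i2)))) (g1 i1) (g1 (Nat.succ i1)) List.nil) fun j => (pk61d (nat_lit 6) 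
    (nat_lit 0x3ae36d33c2daa796389f79b65751034b247103080) j)) (pk61d (nat_lit 2) 
    (nat_lit 0x3059c216d4480) i1) (pk61d (nat_lit 2) 
    (nat_lit 0x584512054040) i1)) (pk61d (nat_lit 13) 
    (nat_lit 0x208485a869221a17c87e851216a14485a805213a0cc84a82320da0848327db1fd9f4c7fa7eb1fe9f347ea) i1)))) (Nat.mul (nat_lit 2) i0) (Nat.mul (nat_lit 2) (Nat.succ i0)) List.nil))) (nat_lit 0) (nat_lit 13) tl)
    = ?xq9026 → (List (ℕ × List (RC × RC × ℕ)))) ?hq9026; (case hq9026 => (set_option maxRecDepth 1000000 in conv => lhs; reduce)); intro _; exact ?xq9026 y1 : List (ℕ × List (RC × RC × ℕ)))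
  let y3 : List (ℕ × List (RC × RC × ℕ)) := (by
  refine (?fq9027 : (fun tl : List (ℕ × List (RC × RC × ℕ)) => pk61l (fun i0 => (_root_.Prod.mk (pk61d (nat_lit 11) 
    (nat_lit 0x203bfd7f6fd5f8be57bef5de8bcb78eee5d9bad) i0) (pk61l (fun i1 => (_root_.Prod.mk (_root_.Cfsg.Agent.H414.RelB.RC.mk (pk61d (nat_lit 11) 
    (nat_lit 0xf92fc7e1bf1f9efc7dabdff6af7fc6bd1ec2ee7bcbcbf16f1faabb3e9eeb789b97df6e877bb8f) i1) (pk61d (nat_lit 16) 
    (nat_lit 0x17b93b1114b107e1aa71999150e30c61149f1e3d7bfdd1b179b107797ba151171541348130290dab481d481d16bd139f13d508210f310e87) i1) (pk61d (nat_lit 11) 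
    (nat_lit 0xf90fc0a59f8f9c3f1ed3de074027c63d0760ee3bc1e5f1450baa3b2154759c48336fa0205100d) i1) (pk61d (nat_lit 10) 
    (nat_lit 0x63f052c480d8fcf68c60e809453d0ec008020610280e430160280a014030bc082880d) i1) ((fun g1 : Nat → Nat => pk61l (fun i2 => (_root_.Prod.mk (pk61d (nat_lit 9) 
    (nat_lit 0xc04070180a96030100c0407018083a110102c06020e8080617018087a021d80804023081404070110c040b01014040501014062f0100c040d) i2) (_root_.Prod.mk (pk61d (nat_lit 3) 
    (nat_lit 0x5950a6c948925125128c31b249251249249709) i2) (pk61d (nat_lit 3) 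
    (nat_lit 0x5950a6c948925125128c31b249251249249709) i2)))) (g1 i1) (g1 (Nat.succ i1)) List.nil) fun j => (pk61d (nat_lit 6) 
    (nat_lit 0x33c6eb6ba668e079d69859551344f34b247185103040) j)) (pk61d (nat_lit 3) 
    (nat_lit 0x7032892148d82512400c8) i1) (pk61d (nat_lit 3) 
    (nat_lit 0x282682088000000001020) i1)) (_root_.Prod.mk (_root_.Cfsg.Agent.H414.RelB.RC.mk (pk61d (nat_lit 11) 
    (nat_lit 0xfc2fefe9bf5fa6fd7ddbe5f76f97cfbdfedaf1fc6bd1f1af2fb0bb9eaaee793ba9e4eeb77dba9) i1) (pk61d (nat_lit 16) 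
    (nat_lit 0x14a10fe92b6d08bd17771525152b30a312dfabd7106912fd3a310c95187157d143ed1541394110791c191c19c1031e070f2913d512b508cb) i1) (pk61d (nat_lit 11) 
    (nat_lit 0x5407f7e905cfa43f7dd053f7414c193de2f8508173d0f18f2bb0077ea8773930754c43af7d075) i1) (pk61d (nat_lit 11) 
    (nat_lit 0xc07f407004fa402c2b05305c14c19012098508170100a802810011008013930090140bc13009) i1) ((fun g1 : Nat → Nat => pk61l (fun i2 => (_root_.Prod.mk (pk61d (nat_lit 9) 
    (nat_lit 0x3017f40e020103416070102c56022985c0453028080602098082e070105c04020380c0405010082202010f40a030100c0a021784c0403) i2) (_root_.Prod.mk (pk61d (nat_lit 3) 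
    (nat_lit 0x1a4944924924945128924c25134a44928924a) i2) (pk61d (nat_lit 3) 
    (nat_lit 0x1a4944924924945128924c25134a44928924a) i2)))) (g1 i1) (g1 (Nat.succ i1)) List.nil) fun j => (pk61d (nat_lit 6) 
    (nat_lit 0x31beeb2b9e692386079c69755444f38d30b1c6103040) j)) (pk61d (nat_lit 3) 
    (nat_lit 0xa0a20820944c468488208) i1) (pk61d (nat_lit 2) 
    (nat_lit 0x40000200400602) i1)) (pk61d (nat_lit 12) 
    (nat_lit 0xf927e2f867e1f9e7e2f6a7bef6a7bef1a7a2ec2772ef2796f1678eeaa766e9e75ae2672edf6742dee71e) i1)))) (Nat.mul (nat_lit 2) i0) (Nat.mul (nat_lit 2) (Nat.succ i0)) List.nil))) (nat_lit 0) (nat_lit 14) tl)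
    = ?xq9027 → (List (ℕ × List (RC × RC × ℕ)))) ?hq9027; (case hq9027 => (set_option maxRecDepth 1000000 in conv => lhs; reduce)); intro _; exact ?xq9027 y2 : List (ℕ × List (RC × RC × ℕ)))
  (by
  refine (?fq9028 : (fun tl : List (ℕ × List (RC × RC × ℕ)) => pk61l (fun i0 => (_root_.Prod.mk (pk61d (nat_lit 10) 
    (nat_lit 0xea7a1e5f8fe2f77dcf71db75fd6f59d5747) i0) (pk61l (fun i1 => (_root_.Prod.mk (_root_.Cfsg.Agent.H414.RelB.RC.mk (pk61d (nat_lit 11) 
    (nat_lit 0xe26e5f84b8fd46ddf5db73da6dcf6cb71d42db73fb5bd06d6f50b59d06d5720b3bcb6cef23b37) i1) (pk61d (nat_lit 16) 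
    (nat_lit 0x34451a4d12c1850d42552cff123708dd4b070a57291147b12921bfa120779fc114750d698b2132f90f430b11118133a10cbb0a572beb100f) i1) (pk61d (nat_lit 11) 
    (nat_lit 0xe242652c0416a26ec15372da46e76c370d404919f9ad022d6b503580c4d532019dcb46772319b) i1) (pk61d (nat_lit 11) 
    (nat_lit 0x142652c0416a26ec1507eda46e76c0100404919f80302213b5000801c030a019d00c01f2319b) i1) ((fun g1 : Nat → Nat => pk61l (fun i2 => (_root_.Prod.mk (pk61d (nat_lit 9) 
    (nat_lit 0x280822030280c040d02c6c07bb0380c040701808c2030101c06490180804022480a2a03018441a03010d40402038080602028087607018080e49058091203) i2) (_root_.Prod.mk (pk61d (nat_lit 3) 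
    (nat_lit 0x24a45924924944a2912e528924926b24a389249249) i2) (pk61d (nat_lit 3) 
    (nat_lit 0x24a45924924a44a2912e528924926b44a589249249) i2)))) (g1 i1) (g1 (Nat.succ i1)) List.nil) fun j => (pk61d (nat_lit 6) 
    (nat_lit 0x38db4c6fb6ca668e179d71a61759345038c288185080) j)) (pk61d (nat_lit 3) 
    (nat_lit 0x21800921ca8006b2b0208) i1) (pk61d (nat_lit 2) 
    (nat_lit 0x2446a405101041) i1)) (_root_.Prod.mk (_root_.Cfsg.Agent.H414.RelB.RC.mk (pk61d (nat_lit 11) 
    (nat_lit 0xe4ee8789b97d72e3f69b77db2ddf6fb73d5adc742b6dd5ad7f56b5bd0ad6732b3dccad1f2ab3b) i1) (pk61d (nat_lit 16) 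
    (nat_lit 0x16e11d712a6d0c734ce10f0b0e8f2cff30a92cff922f12b5121d0ce53cd10bfb61390d7977e13b711c3d0a8536533d750ffb16eb1d751a6b) i1) (pk61d (nat_lit 11) 
    (nat_lit 0xe4c741c49cbd7016db49bb6d8ddb6f1b9d580dc459b6d58d7b561ad4586b0ccb3c33268c0a19d) i1) (pk61d (nat_lit 10) 
    (nat_lit 0x5b810e241b0a007025bb033760183f3d03722db63d35e070038b0046673c665a305007) i1) ((fun g1 : Nat → Nat => pk61l (fun i2 => (_root_.Prod.mk (pk61d (nat_lit 9) 
    (nat_lit 0xf40602012d40a03028080e03dd80c05bb0100c0407018f4040b02a2c9203010f405af0101c04034580805990b80c0599d18140407) i2) (_root_.Prod.mk (pk61d (nat_lit 3) 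
    (nat_lit 0x4984b2ca251249451249251251291291251) i2) (pk61d (nat_lit 3) 
    (nat_lit 0x4984b2ca25124a451249251251291291251) i2)))) (g1 i1) (g1 (Nat.succ i1)) List.nil) fun j => (pk61d (nat_lit 6) 
    (nat_lit 0x2fb2ba689a592385f75b65759344f34c289205103040) j)) (pk61d (nat_lit 3) 
    (nat_lit 0x300600448401450482010) i1) (pk61d (nat_lit 2) 
    (nat_lit 0x43084601010200) i1)) (pk61d (nat_lit 12) 
    (nat_lit 0xe2672ee1271ed466eed766e6da66e6db26e2d426dacfe6b6d066b6d426b2d066aac82676cb6676c8e66e) i1)))) (Nat.mul (nat_lit 2) i0) (Nat.mul (nat_lit 2) (Nat.succ i0)) List.nil))) (nat_lit 0) (nat_lit 14) tl)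
    = ?xq9028 → (List (ℕ × List (RC × RC × ℕ)))) ?hq9028; (case hq9028 => (set_option maxRecDepth 1000000 in conv => lhs; reduce)); intro _; exact ?xq9028 y3 : List (ℕ × List (RC × RC × ℕ)))

theorem tab5_ok : tabB tab5 = true := by decide +kernel

end Cfsg.Agent.H149.Sa
end

-- part: H149/Sa/Tab6
section
/-!
# Certificates, part 6 (task 1527)
-/

set_option autoImplicit false
set_option maxRecDepth 20000

namespace Cfsg.Agent.H149.Sa

open Cfsg.Agent.H414.RelB

/-- certificates -/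
noncomputable def tab6 : List (ℕ × List (RC × RC × ℕ)) :=
  let y0 : List (ℕ × List (RC × RC × ℕ)) := (by
  refine (?fq9029 : (pk61l (fun i0 => (_root_.Prod.mk (pk61d (nat_lit 11) 
    (nat_lit 0xf9bf27e1fbbf6be7fcef8df17de7b9f6dec3d5faaf51e9fd2fa2f37) i0) (pk61l (fun i1 => (_root_.Prod.mk (_root_.Cfsg.Agent.H414.RelB.RC.mk (pk61d (nat_lit 11) 
    (nat_lit 0xef3eefbcf9dee7d87bcf79eafd87abf55e9fd47a5f45e13cdf93f13) i1) (pk61d (nat_lit 16) 
    (nat_lit 0x7781d09f4ab1efb32cadada116692e3924af43e1398b12530f0bb4c7e1bb0ffd110510a5129735bd) i1) (pk61d (nat_lit 11) 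
    (nat_lit 0xef1ee9de1e7773d81de7784e5d81d5baa74e3a9d29d1709cdb93389) i1) (pk61d (nat_lit 11) 
    (nat_lit 0xef1ee9de1e7772081de0084e40800188606e0480185d048238b70b5) i1) ((fun g1 : Nat → Nat => pk61l (fun i2 => (_root_.Prod.mk (pk61d (nat_lit 10) 
    (nat_lit 0x3bc020ac17008ef009e7ee4023bc02009390080200c430080b014030080307c0300c0211c020f403008b5) i2) (_root_.Prod.mk (pk61d (nat_lit 3) 
    (nat_lit 0xb24944d29934924a249489249) i2) (pk61d (nat_lit 3) 
    (nat_lit 0xb24944d29934924a249489249) i2)))) (g1 i1) (g1 (Nat.succ i1)) List.nil) fun j => (pk61d (nat_lit 6) 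
    (nat_lit 0x2281d6da6585954d244f34b288184040) j)) (pk61d (nat_lit 3) 
    (nat_lit 0x650153341040448) i1) (pk61d (nat_lit 2) 
    (nat_lit 0x42584) i1)) (_root_.Prod.mk (_root_.Cfsg.Agent.H414.RelB.RC.mk (pk61d (nat_lit 11) 
    (nat_lit 0xf3bf0fc6f9ff3be77c6f8bedbdb7b6f61eabd57a7f4fe6fd179bf1f) i1) (pk61d (nat_lit 16) 
    (nat_lit 0x77d526cb175d10212da91e7124d7169f1edd1645128f456128d518e518d7134328d57705327beadf) i1) (pk61d (nat_lit 11) 
    (nat_lit 0xf38f842e02779de7050f8a76ddb02ff60ea9d51d3ba7737d11cdb8f) i1) (pk61d (nat_lit 11) 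
    (nat_lit 0x8f842e00379de700bf8a065db0098202180105d85501a031cdb8f) i1) ((fun g1 : Nat → Nat => pk61l (fun i2 => (_root_.Prod.mk (pk61d (nat_lit 10) 
    (nat_lit 0x94b00c170080379c0279c0205cc1014020140204c050081300843008020440b0440503403008470378f) i2) (_root_.Prod.mk (pk61d (nat_lit 3) 
    (nat_lit 0x1125124a24944a469489249449) i2) (pk61d (nat_lit 3) 
    (nat_lit 0x1125124a24944a469489249449) i2)))) (g1 i1) (g1 (Nat.succ i1)) List.nil) fun j => (pk61d (nat_lit 6) 
    (nat_lit 0x2285f75c6985d448f38d2ca206143040) j)) (pk61d (nat_lit 3) 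
    (nat_lit 0x410281285480080) i1) (pk61d (nat_lit 1) 
    (nat_lit 0x50004) i1)) (pk61d (nat_lit 12) 
    (nat_lit 0xef2f76ef2f3aee6ec2ef2ef2eaeec2eaeeaae9eea2e96e8ae12e6ee4ee26) i1)))) (Nat.mul (nat_lit 1) i0) (Nat.mul (nat_lit 1) (Nat.succ i0)) List.nil))) (nat_lit 0) (nat_lit 20) List.nil : List (ℕ × List (RC × RC × ℕ)))
    = ?xq9029 → (List (ℕ × List (RC × RC × ℕ)))) ?hq9029; (case hq9029 => (set_option maxRecDepth 1000000 in conv => lhs; reduce)); intro _; exact ?xq9029 : List (ℕ × List (RC × RC × ℕ)))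
  let y1 : List (ℕ × List (RC × RC × ℕ)) := (by
  refine (?fq9030 : (fun tl : List (ℕ × List (RC × RC × ℕ)) => pk61l (fun i0 => (_root_.Prod.mk (pk61d (nat_lit 11) 
    (nat_lit 0x393f1fe27c277eefbdefbc76fed9da7b3762ebbd73ab751ea1d3ba1741e7fcf39972de55) i0) (pk61l (fun i1 => (_root_.Prod.mk (_root_.Cfsg.Agent.H414.RelB.RC.mk (pk61d (nat_lit 11) 
    (nat_lit 0x384f09dfbbef5decdd5bb4f62e7fd73aef4eeadd0ba1741e83c939ff32e3dc9393724e47) i1) (pk61d (nat_lit 15) 
    (nat_lit 0x938b571d18bbaf507ffa592dc34494a26b3f131b363e5a319da5345bbde49c391ab1922c874996979b6aca51666d9abeb) i1) (pk61d (nat_lit 11) 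
    (nat_lit 0x3216812adf48fecc1e9b4b6267e051ae9a76ac459a1341341c919fb3231e64807cc9646) i1) (pk61d (nat_lit 11) 
    (nat_lit 0xa16812a04c14ecc1e804b6267e0500180901c00803031077c9001b3207264807c03646) i1) ((fun g1 : Nat → Nat => pk61l (fun i2 => (_root_.Prod.mk (pk61d (nat_lit 9) 
    (nat_lit 0x140405018092a13148740a03010f40403016c40515018080a020180806020380804030101c04110390c06020180b32020980c0443018083e03011241602) i2) (_root_.Prod.mk (pk61d (nat_lit 2) 
    (nat_lit 0x19b5559a59575969a55756556555) i2) (pk61d (nat_lit 2) 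
    (nat_lit 0x29b5559a59575969a59756556555) i2)))) (g1 i1) (g1 (Nat.succ i1)) List.nil) fun j => (pk61d (nat_lit 6) 
    (nat_lit 0x37d72c70beba6796281e71a65755340e3091850c0) j)) (pk61d (nat_lit 2) 
    (nat_lit 0xb0299d6a4d985) i1) (pk61d (nat_lit 2) 
    (nat_lit 0x2012118105144) i1)) (_root_.Prod.mk (_root_.Cfsg.Agent.H414.RelB.RC.mk (pk61d (nat_lit 11) 
    (nat_lit 0x389f13e13bf762edfd9bb7f66ebbd9bb175deb9d5ba774ee85cb7a0f3fe47cab96f2ae49) i1) (pk61d (nat_lit 16) 
    (nat_lit 0x317f35b71345425b144d70514e2b0dbd8ebd29052441144d1ec117d51a2d172342190e350cb533cb404514b70fd30cb55245795d) i1) (pk61d (nat_lit 11) 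
    (nat_lit 0x1c4b897086ff626de074dbf666ba489b108f8d7d5869c5e68465ba099fe4665443f2a324) i1) (pk61d (nat_lit 11) 
    (nat_lit 0x5a8050486ff62006074dbf6602a489b101480500869c5e00c65a0380181665443ca200c) i1) ((fun g1 : Nat → Nat => pk61l (fun i2 => (_root_.Prod.mk (pk61d (nat_lit 9) 
    (nat_lit 0x16a05018092a03d880806020e80a4a030e81406020380c041d0280b620214814042f018bc04030143c06070100c16020280c050f018080602) i2) (_root_.Prod.mk (pk61d (nat_lit 3) 
    (nat_lit 0x948928924924a24928a25145144924930988a) i2) (pk61d (nat_lit 3) 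
    (nat_lit 0x948928924924a24928a25145144a24930988a) i2)))) (g1 i1) (g1 (Nat.succ i1)) List.nil) fun j => (pk61d (nat_lit 6) 
    (nat_lit 0x32c70bacaa89a481d6985d655344f34b288144080) j)) (pk61d (nat_lit 2) 
    (nat_lit 0x8949a08a114a) i1) (pk61d (nat_lit 3) 
    (nat_lit 0x441049000081208821) i1)) (pk61d (nat_lit 12) 
    (nat_lit 0xe12e12dfadf6d76d9ad5ada6d8acfed72d76d3ad5ad0ad0ad06d06c91cfeccac7ac92c9ac92c8e) i1)))) (Nat.mul (nat_lit 1) i0) (Nat.mul (nat_lit 1) (Nat.succ i0)) List.nil))) (nat_lit 0) (nat_lit 26) tl)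
    = ?xq9030 → (List (ℕ × List (RC × RC × ℕ)))) ?hq9030; (case hq9030 => (set_option maxRecDepth 1000000 in conv => lhs; reduce)); intro _; exact ?xq9030 y0 : List (ℕ × List (RC × RC × ℕ)))
  let y2 : List (ℕ × List (RC × RC × ℕ)) := (by
  refine (?fq9031 : (fun tl : List (ℕ × List (RC × RC × ℕ)) => pk61l (fun i0 => (_root_.Prod.mk (pk61d (nat_lit 11) 
    (nat_lit 0xca793724e47c838f717e2bc4787f0be11c1b81efddf3bcf76eeadd1) i0) ((fun g0 : Nat → Nat => pk61l (fun i1 => (_root_.Prod.mk (_root_.Cfsg.Agent.H414.RelB.RC.mk (pk61d (nat_lit 12) 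
    (nat_lit 0x61164162f63d623617611617611b6f5db6075e7b895db5f3b6f5bfb8d5dbb995cfb3f5b3b6f5c9b6f5c9) i1) (pk61d (nat_lit 16) 
    (nat_lit 0xd6928c11613107b12fd3cdd21590ceb1231224b0eef78790cfb453116f917c91cb5648d187d881f78854b77652f14e31a2110917c1984af) i1) (pk61d (nat_lit 12) 
    (nat_lit 0x30814031708562261630830b30810a5da3032f3b885da5f2b6e126b8c5da5cc2e759f1e6b6e5c8b6e172) i1) (pk61d (nat_lit 12) 
    (nat_lit 0x804007101300a61630801330802600e303097b8800e5f201600600400e0042e759f1e61a20281a204a) i1) ((fun g1 : Nat → Nat => pk61l (fun i2 => (_root_.Prod.mk (pk61d (nat_lit 11) 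
    (nat_lit 0x10020e204c0280205204c0106100404c308020260080380220200c4b829006008038025f2008058020060080100700400973d9f0060080980b0040140101301600812802) i2) (_root_.Prod.mk (pk61d (nat_lit 3) 
    (nat_lit 0x1e24924964b2492494c9249251289a49259249) i2) (pk61d (nat_lit 3) 
    (nat_lit 0x1e24924964b2492494c9249251289a49259249) i2)))) (g1 i1) (g1 (Nat.succ i1)) List.nil) fun j => (pk61d (nat_lit 6) 
    (nat_lit 0x32c70beeb299e692281e75a61651244f38d30a1c5080) j)) (pk61d (nat_lit 3) 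
    (nat_lit 0x7802586480c92514012c9) i1) (pk61d (nat_lit 3) 
    (nat_lit 0x1080040005000) i1)) (_root_.Prod.mk (_root_.Cfsg.Agent.H414.RelB.RC.mk (pk61d (nat_lit 12) 
    (nat_lit 0x64d64963d64162b61f61f62361fb9961760d5fbb9b5f35fbb7b5dbb9b5e7b9b5d5b515cbb8d5cbb7b5cf) i1) (pk61d (nat_lit 16) 
    (nat_lit 0xdb768d7329f8341564d877f2a9d6221b5d58131248564f911ef3a0323ad11ef20ab0f0d3a0318c762177885b5010d694549187fac27a289) i1) (pk61d (nat_lit 12) 
    (nat_lit 0x3260c910a64020e10530f62230f5cc30b60c5fa5cd2f95fa5bd5da5cd2f35cd5d4b502e5b8c0f7b7a2e7) i1) (pk61d (nat_lit 12) 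
    (nat_lit 0x1a00302664020e00901b62201b0d430b0241325cd2f95fa0710d6129097087004b50027b8c013b7a2e7) i1) ((fun g1 : Nat → Nat => pk61l (fun i2 => (_root_.Prod.mk (pk61d (nat_lit 10) 
    (nat_lit 0x340200c1300805009070080300c9d0140200c350082904c030081100c0202c0500ef90440500c021c46b0080b00c9701403008b50080d00ee3008131c40d00ae7) i2) (_root_.Prod.mk (pk61d (nat_lit 3) 
    (nat_lit 0x2492b129925944a45125925124964b461251249) i2) (pk61d (nat_lit 3) 
    (nat_lit 0x2492b129925944a45125925124964b461251249) i2)))) (g1 i1) (g1 (Nat.succ i1)) List.nil) fun j => (pk61d (nat_lit 6) 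
    (nat_lit 0x34cb1bedaeaa6696385f7196144d13ce30b247144040) j)) (pk61d (nat_lit 3) 
    (nat_lit 0x20e2010822010400a0408) i1) (pk61d (nat_lit 2) 
    (nat_lit 0x102cc2b20cc100) i1)) (pk61d (nat_lit 13) 
    (nat_lit 0x61132098bcc7a62330b9844c2e6115b7976cc0e5e75c4976cbe6b6f2dfae34bb6b992e7acfcb66b6f2e4adbcb92) i1)))) (g0 i0) (g0 (Nat.succ i0)) List.nil) fun j => (pk61d (nat_lit 5) 
    (nat_lit 0x1cdeb38bdab49c60f6b14831040) j)))) (nat_lit 0) (nat_lit 20) tl)
    = ?xq9031 → (List (ℕ × List (RC × RC × ℕ)))) ?hq9031; (case hq9031 => (set_option maxRecDepth 1000000 in conv => lhs; reduce)); intro _; exact ?xq9031 y1 : List (ℕ × List (RC × RC × ℕ)))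
  let y3 : List (ℕ × List (RC × RC × ℕ)) := (by
  refine (?fq9032 : (fun tl : List (ℕ × List (RC × RC × ℕ)) => pk61l (fun i0 => (_root_.Prod.mk (pk61d (nat_lit 11) 
    (nat_lit 0x2e7dcbb936fed9dadb5769ecfd99b2b64ec7d81) i0) (pk61l (fun i1 => (_root_.Prod.mk (_root_.Cfsg.Agent.H414.RelB.RC.mk (pk61d (nat_lit 12) 
    (nat_lit 0xb6f5c9b295abb295adb1b595af158faf35a7b23595b0358fb23595a8b55da9955da9f55daab565ab5565) i1) (pk61d (nat_lit 16) 
    (nat_lit 0x232f39911e491c8d32291a2f1ff30d55ea110db7dae92b4f2ce92ce92c093367189d42f1232f0c9530a9142135171d7b4fd915911e0b0fd9) i1) (pk61d (nat_lit 12) 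
    (nat_lit 0xd15c8b28122b282d658d1dcaf02c7af21e2b222cab0258e5915945452aea980c4a9e2ae38e56455a2b2) i1) (pk61d (nat_lit 12) 
    (nat_lit 0x1300819803a01800601d004070009af21e2006006b0201204b59401300e01801ca9e2ae00e11400a006) i1) ((fun g1 : Nat → Nat => pk61l (fun i2 => (_root_.Prod.mk (pk61d (nat_lit 11) 
    (nat_lit 0x26008088030040740100300400c0101d00401c010033a600c010f100400c01003005604010030040140181100e00c0101300e0080180200e0084b80300401c0100700405c0180200a00801802) i2) (_root_.Prod.mk (pk61d (nat_lit 3) 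
    (nat_lit 0x2c964964946224924924a28925124b28a2c924a249) i2) (pk61d (nat_lit 3) 
    (nat_lit 0x2c964964946224924924a28925164b48a2c924a249) i2)))) (g1 i1) (g1 (Nat.succ i1)) List.nil) fun j => (pk61d (nat_lit 6) 
    (nat_lit 0x38df6cf1bedb2ba6896385f75b65551240e2c91c4080) j)) (pk61d (nat_lit 3) 
    (nat_lit 0xd9642809249081689289) i1) (pk61d (nat_lit 2) 
    (nat_lit 0x4502452504811) i1)) (_root_.Prod.mk (_root_.Cfsg.Agent.H414.RelB.RC.mk (pk61d (nat_lit 12) 
    (nat_lit 0xb895cbb475adb475bfb295abb1b593b235abb29599b1b595b29599ab5577ab5577aa958fac1581ac1577) i1) (pk61d (nat_lit 16) 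
    (nat_lit 0x6c912c2f43a52d611a2f0df34c217b711b2f0e8f61870c7719811855214f42f120470e09201d5cd7235393734e7931ff3e413e412ec13127) i1) (pk61d (nat_lit 12) 
    (nat_lit 0xb882e55a32d6b462dfb28019b1a59223a5aab282ccb1a044077598ab41d22ad5762aa0edac02c0ac02bb) i1) (pk61d (nat_lit 12) 
    (nat_lit 0x480275a32d600606901801906202e072122198004062044011008ab41d208957603e0ed0400400402bb) i1) ((fun g1 : Nat → Nat => pk61l (fun i2 => (_root_.Prod.mk (pk61d (nat_lit 8) 
    (nat_lit 0x3020d03250d030b03020302070503030205070217021303021d050211030202070211021102890502e90289e903021f024f03020202e903) i2) (_root_.Prod.mk (pk61d (nat_lit 3) 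
    (nat_lit 0x4c924a24924969124924925a44a2c944924924ed89) i2) (pk61d (nat_lit 3) 
    (nat_lit 0x4c924a24944969124925125a44a2c944924924ed89) i2)))) (g1 i1) (g1 (Nat.succ i1)) List.nil) fun j => (pk61d (nat_lit 6) 
    (nat_lit 0x38db4c6eb299e69227dc6585944d23cd3091c5103080) j)) (pk61d (nat_lit 3) 
    (nat_lit 0x60121824968a0d1048db0) i1) (pk61d (nat_lit 2) 
    (nat_lit 0x95540440001101) i1)) (pk61d (nat_lit 13) 
    (nat_lit 0xb6f2e4aca4b56b292d6ac6cb2aaf12c7abccb4eb232caac0cb1eb232caaa2cabaa992aeaa7cabaaab2b2aad4aca) i1)))) (Nat.mul (nat_lit 2) i0) (Nat.mul (nat_lit 2) (Nat.succ i0)) List.nil))) (nat_lit 0) (nat_lit 14) tl)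
    = ?xq9032 → (List (ℕ × List (RC × RC × ℕ)))) ?hq9032; (case hq9032 => (set_option maxRecDepth 1000000 in conv => lhs; reduce)); intro _; exact ?xq9032 y2 : List (ℕ × List (RC × RC × ℕ)))
  (by
  refine (?fq9033 : (fun tl : List (ℕ × List (RC × RC × ℕ)) => pk61l (fun i0 => (_root_.Prod.mk (pk61d (nat_lit 11) 
    (nat_lit 0x577acb576abd51a5f4a693d1ba2f45688d0b) i0) (pk61l (fun i1 => (_root_.Prod.mk (_root_.Cfsg.Agent.H414.RelB.RC.mk (pk61d (nat_lit 12) 
    (nat_lit 0xa93551a81551a3952fa3d529a3d5299fd50ba135179fd5159f75159ef50b9eb50b9a34eb9a94eb) i1) (pk61d (nat_lit 16) 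
    (nat_lit 0x69f711d14ec10dd514711cf3850d83691b590e2fe5a515d778d914592da94d816d930cb3158f62e99ea10b1119b1534115bb3cb5) i1) (pk61d (nat_lit 12) 
    (nat_lit 0x3865505400aa36852ea3c1b8a3c14a9fc0d7a1228b3545144fb1459ee50a9ea50a1122751354ea) i1) (pk61d (nat_lit 12) 
    (nat_lit 0x1605054000a36804e20c02801414a9fc0d7a1228b00c0140ff14503e0069ea00611202513504a) i1) ((fun g1 : Nat → Nat => pk61l (fun i2 => (_root_.Prod.mk (pk61d (nat_lit 11) 
    (nat_lit 0x2c0100500401c0180200a0083680201a00c010830040140100500402c0280300411c018020560168480203e01c018030040140101100a00c0680503e0080180205e00c01003004224010250ce00c12802) i2) (_root_.Prod.mk (pk61d (nat_lit 3) 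
    (nat_lit 0x4984e24b24945944925224924945124a2492c9249249) i2) (pk61d (nat_lit 3) 
    (nat_lit 0x4984e24b24945944925224924949144a2492c9249249) i2)))) (g1 i1) (g1 (Nat.succ i1)) List.nil) fun j => (pk61d (nat_lit 6) 
    (nat_lit 0x3be77d32c2dae99e381e7195d549038c247144080) j)) (pk61d (nat_lit 3) 
    (nat_lit 0xcc594d1408480249201) i1) (pk61d (nat_lit 2) 
    (nat_lit 0x410181441d04) i1)) (_root_.Prod.mk (_root_.Cfsg.Agent.H414.RelB.RC.mk (pk61d (nat_lit 12) 
    (nat_lit 0xa99565a9355da3d551a4952fa4952fa13529a1f527a1f5179fd5179f55159f75119c75099c74ff) i1) (pk61d (nat_lit 16) 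
    (nat_lit 0x1a7d15911525db1d47a561e163c11ec7a5c10e5978d9aa9516e51499c12b0f433259d76b204d0b2d68570a2127191a6b1615477d) i1) (pk61d (nat_lit 12) 
    (nat_lit 0x54c05ca9255ca3c550a4852ea48033a12294a1e293a1e28b9fc28b16c5143521444e30a14e31aa) i1) (pk61d (nat_lit 12) 
    (nat_lit 0x54c05ca92004a3c010038006008033a1200c00a29300a05d02400303410400a1444e30a1009006) i1) ((fun g1 : Nat → Nat => pk61l (fun i2 => (_root_.Prod.mk (pk61d (nat_lit 11) 
    (nat_lit 0x1c40180202e0081480b0060080108300a0080100700400c0100202200e84802006008028025260140101f00600c0100301a008068050040140100300422c0181700e00c01802) i2) (_root_.Prod.mk (pk61d (nat_lit 3) 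
    (nat_lit 0x4a2892512a164b24928924929128944c451289) i2) (pk61d (nat_lit 3) 
    (nat_lit 0x4a2892512a164b24928924929128a48c451289) i2)))) (g1 i1) (g1 (Nat.succ i1)) List.nil) fun j => (pk61d (nat_lit 6) 
    (nat_lit 0x33c2eaa99a58e181e71a61755345038b247143080) j)) (pk61d (nat_lit 3) 
    (nat_lit 0x1229465828821048a001) i1) (pk61d (nat_lit 3) 
    (nat_lit 0x8200041040051004411) i1)) (pk61d (nat_lit 13) 
    (nat_lit 0x2a4caa2a812a8a8e2a5ea3d294a8f4a529fd285a84ca2e9fd28aa7dca2a9ef285a7aca169a3275a6a49d6) i1)))) (Nat.mul (nat_lit 2) i0) (Nat.mul (nat_lit 2) (Nat.succ i0)) List.nil))) (nat_lit 0) (nat_lit 13) tl)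
    = ?xq9033 → (List (ℕ × List (RC × RC × ℕ)))) ?hq9033; (case hq9033 => (set_option maxRecDepth 1000000 in conv => lhs; reduce)); intro _; exact ?xq9033 y3 : List (ℕ × List (RC × RC × ℕ)))

theorem tab6_ok : tabB tab6 = true := by decide +kernel

end Cfsg.Agent.H149.Sa
end

-- part: H149/Sa/NoLieSmall
section
/-!
# No group of Lie type for the primes of `(n / 2, n]`, `29 ≤ n < 3000` (task 1527, S3397)
-/

set_option autoImplicit false

namespace Cfsg.Agent.H149.Sa

open Cfsg.Agent.H414.RelB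

/-- all the tables -/
noncomputable def tabs : List (ℕ × List (RC × RC × ℕ)) := tab0 ++ (tab1 ++ (tab2 ++ (tab3 ++ (tab4 ++ (tab5 ++ (tab6 ++ tab7))))))

theorem tabs_ok : tabB tabs = true := by
  have h0 := tab0_ok
  have h1 := tab1_ok
  have h2 := tab2_ok
  have h3 := tab3_ok
  have h4 := tab4_ok
  have h5 := tab5_ok
  have h6 := tab6_ok
  have h7 := tab7_ok
  unfold tabB at *
  unfold tabs
  rw [List.all_append, List.all_append, List.all_append, List.all_append, List.all_append, List.all_append,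
    List.all_append, h0, h1, h2, h3, h4, h5, h6, h7]
  rfl

theorem small_ok : [2, 3, 5, 7, 11, 13, 17, 19, 23, 29, 31, 37, 41, 43, 47, 53].all
    (fun r => (tabs.map Prod.fst).any (Nat.beq r)) = true := by decide +kernel

private theorem _root_.Cfsg.Agent.KOa8caf00.e0.{ku, kv} {α : Type kv} {M : List α → Sort ku} (φ : ∀ l, M l) {z : M List.nil} {s : ∀ a l, M l → M (List.cons a l)} (h0 : φ List.nil = z) (hs : ∀ a l, φ (List.cons a l) = s a l (φ l)) (l : List α) : φ l = @List.rec α M z s l := List.rec h0 (fun a l ih => (hs a l).trans (congrArg (s a l) ih)) l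
private noncomputable def _root_.Cfsg.Agent.KOa8caf00.k1.{ku0} : type_of% @List.all.{ku0} := @(fun x0 x1 x2 => @List.rec.{(ku0+1), ku0} @x0 @(fun x3 => (@x0 → @Bool) → @Bool) @(fun x3 => @Bool.true) @(fun x3 x4 x5 x6 => @Bool.rec.{1} @(fun x7 => @Bool) @Bool.false (@x5 @x6) (@x6 @x3)) @x1 @x2)
private theorem _root_.Cfsg.Agent.KOa8caf00.e1.{ku0} : @List.all.{ku0} = @_root_.Cfsg.Agent.KOa8caf00.k1.{ku0} := by delta _root_.Cfsg.Agent.KOa8caf00.k1; funext a0 a1 a2; refine (congrFun (_root_.Cfsg.Agent.KOa8caf00.e0 (fun a1 a2 => @List.all.{ku0} a0 a1 a2) ?_ (fun c0 c1 => ?_) a1) a2 :) <;> (rfl')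
private theorem _root_.Cfsg.Agent.KOa8caf00.e3.{ku} {M : Nat → Sort ku} (φ : ∀ n, M n) {z : M Nat.zero} {s : ∀ n, M n → M (Nat.succ n)} (h0 : φ Nat.zero = z) (hs : ∀ n, φ (Nat.succ n) = s n (φ n)) (n : Nat) : φ n = @Nat.rec M z s n := Nat.rec h0 (fun n ih => (hs n).trans (congrArg (s n) ih)) n
private noncomputable def _root_.Cfsg.Agent.KOa8caf00.k7.{ku0, ku1} : type_of% @List.map.{ku0, ku1} := @(fun x0 x1 x2 x3 => @List.rec.{(ku1+1), ku0} @x0 @(fun x4 => @List.{ku1} @x1) [] @(fun x4 x5 x6 => (@x2 @x4) :: @x6) @x3)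
private theorem _root_.Cfsg.Agent.KOa8caf00.e7.{ku0, ku1} : @List.map.{ku0, ku1} = @_root_.Cfsg.Agent.KOa8caf00.k7.{ku0, ku1} := by delta _root_.Cfsg.Agent.KOa8caf00.k7; funext a0 a1 a2 a3; refine (_root_.Cfsg.Agent.KOa8caf00.e0 (fun a3 => @List.map.{ku0, ku1} a0 a1 a2 a3) ?_ (fun c0 c1 => ?_) a3 :) <;> (rfl')
private noncomputable def _root_.Cfsg.Agent.KOa8caf00.k16 : type_of% @List.range.loop := @(fun x0 x1 => @Nat.rec.{1} @(fun x2 => (@List.{0} ℕ) → @List.{0} ℕ) @(fun x2 => @x2) @(fun x2 x3 x4 => @x3 (@x2 :: @x4)) @x0 @x1)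
private theorem _root_.Cfsg.Agent.KOa8caf00.e16 : @List.range.loop = @_root_.Cfsg.Agent.KOa8caf00.k16 := by delta _root_.Cfsg.Agent.KOa8caf00.k16; funext a0 a1; refine (congrFun (_root_.Cfsg.Agent.KOa8caf00.e3 (fun a0 a1 => @List.range.loop a0 a1) ?_ (fun c0 => ?_) a0) a1 :) <;> (rfl')
private noncomputable def _root_.Cfsg.Agent.KOa8caf00.k17 : type_of% @List.range := @(fun x0 => @Cfsg.Agent.KOa8caf00.k16 @x0 [])
private theorem _root_.Cfsg.Agent.KOa8caf00.e17 : @List.range = @_root_.Cfsg.Agent.KOa8caf00.k17 := by delta _root_.Cfsg.Agent.KOa8caf00.k17; rewrite [← Cfsg.Agent.KOa8caf00.e16]; rfl'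
private noncomputable def _root_.Cfsg.Agent.KOa8caf00.k18 : type_of% @Bool.or := @(fun x0 x1 => @Bool.rec.{1} @(fun x2 => @Bool) @x1 @Bool.true @x0)
private theorem _root_.Cfsg.Agent.KOa8caf00.e18 : @Bool.or = @_root_.Cfsg.Agent.KOa8caf00.k18 := by delta _root_.Cfsg.Agent.KOa8caf00.k18; rfl'
private noncomputable def _root_.Cfsg.Agent.KOa8caf00.k19 : type_of% @Bool.not := @(fun x0 => @Bool.rec.{1} @(fun x1 => @Bool) @Bool.true @Bool.false @x0)
private theorem _root_.Cfsg.Agent.KOa8caf00.e19 : @Bool.not = @_root_.Cfsg.Agent.KOa8caf00.k19 := by delta _root_.Cfsg.Agent.KOa8caf00.k19; rfl'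
private noncomputable def _root_.Cfsg.Agent.KOa8caf00.k20 : type_of% @Nat.factorial := @(fun x0 => @Nat.rec.{1} @(fun x1 => ℕ) (nat_lit 1) @(fun x1 x2 => @Nat.mul (@Nat.succ @x1) @x2) @x0)
private theorem _root_.Cfsg.Agent.KOa8caf00.e20 : @Nat.factorial = @_root_.Cfsg.Agent.KOa8caf00.k20 := by delta _root_.Cfsg.Agent.KOa8caf00.k20; funext a0; refine (_root_.Cfsg.Agent.KOa8caf00.e3 (fun a0 => @Nat.factorial a0) ?_ (fun c0 => ?_) a0 :) <;> (rfl')
private noncomputable def _root_.Cfsg.Agent.KOa8caf00.k21.{ku0} : type_of% @List.any.{ku0} := @(fun x0 x1 x2 => @List.rec.{(ku0+1), ku0} @x0 @(fun x3 => (@x0 → @Bool) → @Bool) @(fun x3 => @Bool.false) @(fun x3 x4 x5 x6 => @Bool.rec.{1} @(fun x7 => @Bool) (@x5 @x6) @Bool.true (@x6 @x3)) @x1 @x2)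
private theorem _root_.Cfsg.Agent.KOa8caf00.e21.{ku0} : @List.any.{ku0} = @_root_.Cfsg.Agent.KOa8caf00.k21.{ku0} := by delta _root_.Cfsg.Agent.KOa8caf00.k21; funext a0 a1 a2; refine (congrFun (_root_.Cfsg.Agent.KOa8caf00.e0 (fun a1 a2 => @List.any.{ku0} a0 a1 a2) ?_ (fun c0 c1 => ?_) a1) a2 :) <;> (rfl')

theorem large_ok : ((List.range 3000).all fun r => Nat.ble r 53 || !(Nat.beq (Nat.gcd r (Nat.factorial 53)) 1) ||
    (tabs.map Prod.fst).any (Nat.beq r)) = true := by (first | (rewrite [Cfsg.Agent.KOa8caf00.e1.{0}, Cfsg.Agent.KOa8caf00.e17, Cfsg.Agent.KOa8caf00.e18, Cfsg.Agent.KOa8caf00.e19, Cfsg.Agent.KOa8caf00.e20, Cfsg.Agent.KOa8caf00.e21.{0}, Cfsg.Agent.KOa8caf00.e7.{0, 0}]; set_option maxRecDepth 200000 in decide +kernel) | decide +kernel)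

theorem mem_of_any {l : List ℕ} {r : ℕ} (h : l.any (Nat.beq r) = true) : r ∈ l := by
  rw [List.any_eq_true] at h
  obtain ⟨y, hy, hxy⟩ := h
  rw [Nat.beq_eq] at hxy
  rw [hxy]
  exact hy

theorem mem_tabs {r : ℕ} (hr : r.Prime) (hn : r < 3000) : r ∈ tabs.map Prod.fst := by
  rcases Nat.lt_or_ge 53 r with h | h
  · have h1 := large_ok
    rw [List.all_eq_true] at h1
    have h2 := h1 r (List.mem_range.2 hn)
    rw [Bool.or_eq_true, Bool.or_eq_true, Nat.ble_eq] at h2
    rcases h2 with (h2 | h2) | h2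
    · omega
    · exfalso
      have h3 : Nat.gcd r (Nat.factorial 53) = 1 := by
        refine (Nat.Prime.coprime_iff_not_dvd hr).2 ?_
        rw [hr.dvd_factorial]
        omega
      rw [h3] at h2
      exact absurd h2 (by decide)
    · exact mem_of_any h2
  · have h1 := small_ok
    rw [List.all_eq_true] at h1
    apply mem_of_any
    apply h1
    interval_cases r <;> first | (simp; done) | (exfalso; revert hr; decide)

/-- **Task 1527.** -/
theorem no_lie_small {n : ℕ} (h29 : 29 ≤ n) (hn : n < 3000) {c r : ℕ} (hr : r.Prime)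
    (hS : Cfsg.Agent.H414.LieShape.Shape r c) (hsm : ∀ p : ℕ, p.Prime → p ∣ c → p ≤ n) (t₀ : ℕ)
    (hT : ∀ p ∈ Cfsg.Agent.H357.Sp.T n, p ≠ t₀ → p ∣ c) : False := by
  have hrn : r ≤ n := hsm r hr hS.chr
  exact no_lie_of_pair (pair_of_tabB tabs_ok hr h29 hrn hn (mem_tabs hr (by omega))) hr hS hsm t₀ hT

end Cfsg.Agent.H149.Sa
end

-- part: H825/Cov/Gad
section
/-!
# Frobenius groups with a cyclic complement of prime power order in permutation groups (helper825)

`Gad Γ s r q` : `Γ` contains a non-trivial `q`-group `E` and an element `g`, `g ^ s ^ (r + 1) = 1`, normalising `E`, such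
that `g ^ s ^ r` acts fixed point freely on `E`.
-/

set_option autoImplicit false
set_option linter.unusedSectionVars false

namespace Cfsg.Agent.H825.Cov

open Equiv

universe u v w

/-- the gadget -/
def Gad (Γ : Type u) [Group Γ] (s r q : ℕ) : Prop :=
  ∃ (E : Subgroup Γ) (g : Γ), E ≠ ⊥ ∧ IsPGroup q E ∧ g ^ s ^ (r + 1) = 1 ∧ (∀ e ∈ E, g * e * g⁻¹ ∈ E) ∧
    ∀ e ∈ E, g ^ s ^ r * e = e * g ^ s ^ r → e = 1

section basic

variable {Γ : Type u} [Group Γ] {Γ' : Type v} [Group Γ'] {s r q : ℕ}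

theorem Gad.map (h : Gad Γ s r q) (φ : Γ →* Γ') (hφ : Function.Injective φ) : Gad Γ' s r q := by
  obtain ⟨E, g, h1, h2, h3, h4, h5⟩ := h
  refine ⟨E.map φ, φ g, ?_, ?_, ?_, ?_, ?_⟩
  · intro h
    exact h1 ((Subgroup.map_eq_bot_iff_of_injective E hφ).1 h)
  · exact h2.map φ
  · rw [← map_pow, h3, map_one]
  · rintro _ ⟨e, he, rfl⟩
    exact ⟨g * e * g⁻¹, h4 e he, by rw [map_mul, map_mul, map_inv]⟩
  · rintro _ ⟨e, he, rfl⟩ h
    rw [h5 e he (hφ (by rw [map_mul, map_mul, map_pow]; exact h)), map_one]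

theorem conj_pow_mem {E : Subgroup Γ} {g : Γ} (h : ∀ e ∈ E, g * e * g⁻¹ ∈ E) (n : ℕ) {e : Γ} (he : e ∈ E) :
    g ^ n * e * (g ^ n)⁻¹ ∈ E := by
  induction n with
  | zero => simpa using he
  | succ n ih =>
    have : g ^ (n + 1) * e * (g ^ (n + 1))⁻¹ = g * (g ^ n * e * (g ^ n)⁻¹) * g⁻¹ := by
      rw [pow_succ', mul_inv_rev]; group
    rw [this]
    exact h _ ih

/-- every element of `E` is a commutator -/
theorem exists_comm [Finite Γ] {E : Subgroup Γ} {z : Γ} (h4 : ∀ e ∈ E, z * e * z⁻¹ ∈ E)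
    (h5 : ∀ e ∈ E, z * e = e * z → e = 1) {e : Γ} (he : e ∈ E) : ∃ x ∈ E, e = x⁻¹ * (z * x * z⁻¹) := by
  have hinj : Function.Injective (fun x : E => (⟨(x : Γ)⁻¹ * (z * x * z⁻¹), E.mul_mem (E.inv_mem x.2) (h4 x x.2)⟩ : E)) := by
    intro x y hxy
    have h1 : (x : Γ)⁻¹ * (z * x * z⁻¹) = (y : Γ)⁻¹ * (z * y * z⁻¹) := congrArg Subtype.val hxy
    have h2 : z * ((y : Γ) * (x : Γ)⁻¹) = (y : Γ) * (x : Γ)⁻¹ * z := by
      have h3 : (y : Γ) * (x : Γ)⁻¹ * (z * x * z⁻¹) = z * y * z⁻¹ := by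
        rw [mul_assoc, h1, mul_inv_cancel_left]
      calc z * ((y : Γ) * (x : Γ)⁻¹) = z * y * z⁻¹ * (z * x * z⁻¹)⁻¹ * z := by group
        _ = (y : Γ) * (x : Γ)⁻¹ * z := by rw [← h3, mul_inv_cancel_right]
    have h4 := h5 _ (E.mul_mem y.2 (E.inv_mem x.2)) h2
    exact (Subtype.ext (mul_inv_eq_one.1 h4)).symm
  obtain ⟨x, hx⟩ := Finite.surjective_of_injective hinj ⟨e, he⟩
  exact ⟨x, x.2, (congrArg Subtype.val hx).symm⟩

end basic

section block

variable {X : Type u} {k : ℕ}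

/-- blockwise permutations -/
def blk (X : Type u) (k : ℕ) : (Fin k → Perm X) →* Perm (Fin k × X) where
  toFun f :=
    { toFun := fun p => (p.1, f p.1 p.2)
      invFun := fun p => (p.1, (f p.1)⁻¹ p.2)
      left_inv := fun p => by simp
      right_inv := fun p => by simp }
  map_one' := by ext p <;> rfl
  map_mul' f g := by ext p <;> rfl

theorem blk_apply (f : Fin k → Perm X) (c : Fin k) (x : X) : blk X k f (c, x) = (c, f c x) := rfl

theorem blk_injective : Function.Injective (blk X k) := by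
  intro f g h
  funext c
  ext x
  have := congrArg (fun σ : Perm (Fin k × X) => (σ (c, x)).2) h
  exact this

/-- the wreath shift -/
def wsh (g : Perm X) (k : ℕ) : Perm (Fin (k + 1) × X) where
  toFun p := (p.1 + 1, if p.1 = Fin.last k then g p.2 else p.2)
  invFun p := (p.1 - 1, if p.1 = 0 then g⁻¹ p.2 else p.2)
  left_inv := by
    rintro ⟨c, x⟩
    by_cases hc : c = Fin.last k
    · have h1 : (-1 : Fin (k + 1)) = Fin.last k := (eq_neg_of_add_eq_zero_left (Fin.last_add_one k)).symm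
      simp [hc, h1]
    · have : c + 1 ≠ 0 := fun h => hc (by
        have h1 : c = -1 := eq_neg_of_add_eq_zero_left h
        rw [h1]
        exact (eq_neg_of_add_eq_zero_left (Fin.last_add_one k)).symm)
      simp [hc, this]
  right_inv := by
    rintro ⟨c, x⟩
    by_cases hc : c = 0
    · have h1 : (-1 : Fin (k + 1)) = Fin.last k := (eq_neg_of_add_eq_zero_left (Fin.last_add_one k)).symm
      simp [hc, h1]
    · have : c - 1 ≠ Fin.last k := fun h => hc (by
        have h1 : c = Fin.last k + 1 := sub_eq_iff_eq_add.1 h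
        rw [h1, Fin.last_add_one])
      simp [hc, this]

theorem wsh_last (g : Perm X) (x : X) : wsh g k (Fin.last k, x) = (0, g x) := by
  change (Fin.last k + 1, if Fin.last k = Fin.last k then g x else x) = _
  rw [Fin.last_add_one, if_pos rfl]

theorem wsh_ne (g : Perm X) {c : Fin (k + 1)} (hc : c ≠ Fin.last k) (x : X) : wsh g k (c, x) = (c + 1, x) := by
  change (c + 1, if c = Fin.last k then g x else x) = _
  rw [if_neg hc]

theorem wsh_pow_lt (g : Perm X) (x : X) (c i : ℕ) (h : c + i < k + 1) :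
    (wsh g k ^ i) (⟨c, by omega⟩, x) = (⟨c + i, h⟩, x) := by
  induction i with
  | zero => rfl
  | succ i ih =>
    rw [pow_succ', Perm.mul_apply, ih (by omega), wsh_ne]
    · congr 1
      have h1 : (⟨c + i, by omega⟩ : Fin (k + 1)) < Fin.last k := by
        rw [Fin.lt_def]; simp only [Fin.val_last]; omega
      apply Fin.ext
      rw [Fin.val_add_one_of_lt h1]
      simp only
      omega
    · intro h1
      have := congrArg Fin.val h1
      simp only [Fin.val_last] at this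
      omega

theorem wsh_pow (g : Perm X) : wsh g k ^ (k + 1) = blk X (k + 1) (fun _ => g) := by
  apply Equiv.ext
  rintro ⟨c, x⟩
  have hc := c.2
  have h1 : wsh g k ^ (k + 1) = wsh g k ^ (c : ℕ) * (wsh g k * wsh g k ^ (k - c)) := by
    rw [← pow_succ', ← pow_add]
    have : (c : ℕ) + (k - c + 1) = k + 1 := by omega
    rw [this]
  have h2 := wsh_pow_lt (k := k) g x (c : ℕ) (k - c) (by omega)
  have h3 : (⟨(c : ℕ) + (k - c), by omega⟩ : Fin (k + 1)) = Fin.last k := by
    apply Fin.ext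
    simp only [Fin.val_last]
    omega
  rw [h3] at h2
  have h4 := wsh_pow_lt (k := k) g (g x) 0 (c : ℕ) (by omega)
  have h5 : (⟨0, Nat.succ_pos k⟩ : Fin (k + 1)) = 0 := rfl
  have h6 : (⟨0 + (c : ℕ), by omega⟩ : Fin (k + 1)) = c := Fin.ext (zero_add _)
  rw [h5, h6] at h4
  rw [h1, Perm.mul_apply, Perm.mul_apply, h2, wsh_last, h4]
  rfl

/-- **The wreath step** -/
theorem Gad.step {s r q : ℕ} (hs : s.Prime) (h : Gad (Perm X) s r q) : Gad (Perm (Fin s × X)) s (r + 1) q := by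
  obtain ⟨E, g, h1, h2, h3, h4, h5⟩ := h
  obtain ⟨k, rfl⟩ : ∃ k, s = k + 1 := ⟨s - 1, by have := hs.pos; omega⟩
  have hw : wsh g k ^ (k + 1) = blk X (k + 1) (fun _ => g) := wsh_pow g
  have hpow : ∀ j, wsh g k ^ ((k + 1) ^ (j + 1)) = blk X (k + 1) (fun _ => g ^ ((k + 1) ^ j)) := by
    intro j
    rw [pow_succ' (k + 1) j, pow_mul, hw, ← map_pow]
    rfl
  refine ⟨(Subgroup.pi Set.univ (fun _ => E)).map (blk X (k + 1)), wsh g k, ?_, ?_, ?_, ?_, ?_⟩
  · intro h
    rw [Subgroup.map_eq_bot_iff_of_injective _ blk_injective] at h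
    apply h1
    rw [Subgroup.eq_bot_iff_forall] at h ⊢
    intro e he
    have := h (fun _ => e) (fun _ _ => he)
    exact congrFun this 0
  · apply IsPGroup.map
    intro f
    have hE : ∀ c, ∃ j, ((f : Fin (k + 1) → Perm X) c) ^ q ^ j = 1 := by
      intro c
      obtain ⟨j, hj⟩ := h2 ⟨_, f.2 c (Set.mem_univ c)⟩
      exact ⟨j, congrArg Subtype.val hj⟩
    choose J hJ using hE
    refine ⟨∑ c, J c, ?_⟩
    apply Subtype.ext
    funext c
    change ((f : Fin (k + 1) → Perm X) c) ^ q ^ (∑ c, J c) = 1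
    have h6 : J c ≤ ∑ c, J c := Finset.single_le_sum (fun _ _ => Nat.zero_le _) (Finset.mem_univ c)
    obtain ⟨d, hd⟩ := Nat.exists_eq_add_of_le h6
    rw [hd, pow_add, pow_mul, hJ, one_pow]
  · rw [hpow, h3]
    exact map_one _
  · rintro _ ⟨f, hf, rfl⟩
    have hf' : ∀ c, f c ∈ E := fun c => hf c (Set.mem_univ c)
    refine ⟨fun c => if c = 0 then g * f (Fin.last k) * g⁻¹ else f (c - 1), ?_, ?_⟩
    · intro c _
      change (if c = 0 then g * f (Fin.last k) * g⁻¹ else f (c - 1)) ∈ E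
      split_ifs
      · exact h4 _ (hf' _)
      · exact hf' _
    · rw [eq_mul_inv_iff_mul_eq]
      apply Equiv.ext
      rintro ⟨c, x⟩
      rw [Perm.mul_apply, Perm.mul_apply]
      by_cases hc : c = Fin.last k
      · rw [hc, wsh_last, blk_apply, blk_apply, wsh_last, if_pos rfl, Perm.mul_apply, Perm.mul_apply]
        change (0, g (f (Fin.last k) (g.symm (g x)))) = _
        rw [Equiv.symm_apply_apply]
      · have : c + 1 ≠ 0 := fun h => hc (by
          have h1 : c = -1 := eq_neg_of_add_eq_zero_left h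
          rw [h1]
          exact (eq_neg_of_add_eq_zero_left (Fin.last_add_one k)).symm)
        rw [wsh_ne g hc, blk_apply, blk_apply, wsh_ne g hc, if_neg this, add_sub_cancel_right]
  · rintro _ ⟨f, hf, rfl⟩ h
    have hf' : ∀ c, f c ∈ E := fun c => hf c (Set.mem_univ c)
    rw [hpow, ← map_mul, ← map_mul] at h
    have h6 := blk_injective h
    have h7 : f = 1 := by
      funext c
      exact h5 _ (hf' c) (congrFun h6 c)
    rw [h7, map_one]

/-- iterated wreath step -/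
theorem Gad.steps {s r q : ℕ} (hs : s.Prime) (b : ℕ) {Y : Type} [Fintype Y] (h : Gad (Perm Y) s r q) :
    Gad (Perm (Fin (Fintype.card Y * s ^ b))) s (r + b) q := by
  induction b with
  | zero =>
    rw [pow_zero, mul_one, add_zero]
    exact h.map (Fintype.equivFin Y).permCongrHom.toMonoidHom (Fintype.equivFin Y).permCongrHom.injective
  | succ b ih =>
    have h1 := ih.step hs
    have e : Fin s × Fin (Fintype.card Y * s ^ b) ≃ Fin (Fintype.card Y * s ^ (b + 1)) :=
      Fintype.equivFinOfCardEq (by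
        rw [Fintype.card_prod, Fintype.card_fin, Fintype.card_fin, pow_succ]
        ring)
    exact h1.map e.permCongrHom.toMonoidHom e.permCongrHom.injective

end block

end Cfsg.Agent.H825.Cov
end
end

-- part: H359/Alt/ModG
section
set_option linter.all false
open scoped Cfsg.Agent.FastGrp

/-!
# Modules of a nilpotent normal subgroup and orders of elements
-/

set_option autoImplicit false
set_option linter.style.haveILetI false

namespace Cfsg.Agent.H359

open Subgroup Cfsg.Agent.H359.Ring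

universe u

section lift

variable {H : Type u} [Group H]

theorem exists_mod0 (V : Subgroup H) [hn : V.Normal] (hV : ∀ a ∈ V, ∀ b ∈ V, a * b = b * a)
    [Finite H] (hne : V ≠ ⊥) (r : ℕ) (hr : r.Prime) (hVr : ∀ a ∈ V, a ^ r = 1) :
    ∃ (W : Type u) (_ : AddCommGroup W) (_ : Finite W) (_ : Nontrivial W)
      (ρ : H ⧸ V →* AddMonoid.End W), (∀ w : W, r • w = 0) ∧
      ∀ t : H ⧸ V, (¬ ∃ g : H, orderOf g = orderOf t * r) → nrm ρ t (orderOf t) = 0 := by
  let _ : CommGroup V := commOf V hV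
  let c : H → V → V := fun h v => ⟨h * v * h⁻¹, hn.conj_mem v v.2 h⟩
  have c_mul : ∀ h v w, c h (v * w) = c h v * c h w := by
    intro h v w
    apply Subtype.ext
    change h * (v * w) * h⁻¹ = h * v * h⁻¹ * (h * w * h⁻¹)
    group
  have c_one : ∀ h, c h 1 = 1 := by
    intro h
    apply Subtype.ext
    change h * 1 * h⁻¹ = 1
    group
  let f : H → AddMonoid.End (Additive V) := fun h =>
    { toFun := fun v => Additive.ofMul (c h v.toMul)
      map_zero' := by
        change Additive.ofMul (c h 1) = 0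
        rw [c_one]
        rfl
      map_add' := fun v w => by
        change Additive.ofMul (c h (v.toMul * w.toMul)) = _
        rw [c_mul]
        rfl }
  let F : H →* AddMonoid.End (Additive V) :=
    { toFun := f
      map_one' := by
        ext v
        change (1 : H) * (v.toMul : V) * 1⁻¹ = (v.toMul : V)
        group
      map_mul' := fun a b => by
        ext v
        change a * b * (v.toMul : V) * (a * b)⁻¹ = a * (b * (v.toMul : V) * b⁻¹) * a⁻¹
        group }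
  have hF : ∀ x ∈ V, F x = 1 := by
    intro x hx
    ext v
    change x * (v.toMul : V) * x⁻¹ = (v.toMul : V)
    rw [hV x hx _ (v.toMul).2, mul_inv_cancel_right]
  have hnt : Nontrivial (Additive V) := by
    change Nontrivial V
    exact (Subgroup.nontrivial_iff_ne_bot V).mpr hne
  refine ⟨Additive V, inferInstance, inferInstanceAs (Finite V), hnt, QuotientGroup.lift V F hF,
    ⟨fun w => ?_, fun t ht => ?_⟩⟩
  · apply Subtype.ext
    change ((w.toMul ^ r : V) : H) = 1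
    rw [Subgroup.coe_pow]
    exact hVr _ (w.toMul).2
  · obtain ⟨h, rfl⟩ := QuotientGroup.mk_surjective t
    set m := orderOf (h : H ⧸ V) with hm
    have hm0 : m ≠ 0 := by
      rw [hm]
      exact (orderOf_pos _).ne'
    -- every element of the coset has order `m`
    have key : ∀ g : H, (g : H ⧸ V) = h → g ^ m = 1 := by
      intro g hg
      have h1 : m ∣ orderOf g := by
        rw [hm, ← hg]
        exact orderOf_map_dvd (QuotientGroup.mk' V) g
      have h2 : g ^ m ∈ V := by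
        rw [← QuotientGroup.eq_one_iff, QuotientGroup.mk_pow, hg]
        exact pow_orderOf_eq_one _
      have h3 : orderOf g ∣ m * r := by
        apply orderOf_dvd_of_pow_eq_one
        rw [pow_mul]
        exact hVr _ h2
      obtain ⟨k, hk⟩ := h1
      have h4 : k ∣ r := by
        rw [hk] at h3
        exact Nat.dvd_of_mul_dvd_mul_left (Nat.pos_of_ne_zero hm0) h3
      rcases (Nat.dvd_prime hr).mp h4 with rfl | rfl
      · rw [mul_one] at hk
        rw [← hk]
        exact pow_orderOf_eq_one g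
      · exact absurd ⟨g, hk⟩ ht
    have hprod : ∀ (n : ℕ) (v : V),
        ((v : H) * h) ^ n = (((∑ i ∈ Finset.range n, F (h ^ i)) (Additive.ofMul v)).toMul : V) *
          h ^ n := by
      intro n v
      induction n with
      | zero => simp
      | succ n ih =>
        rw [pow_succ, ih, Finset.sum_range_succ]
        have h1 : (((∑ i ∈ Finset.range n, F (h ^ i)) + F (h ^ n)) (Additive.ofMul v)).toMul =
            (((∑ i ∈ Finset.range n, F (h ^ i)) (Additive.ofMul v)).toMul : V) *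
              c (h ^ n) v := rfl
        rw [h1, Subgroup.coe_mul]
        change _ = _ * (h ^ n * v * (h ^ n)⁻¹) * h ^ (n + 1)
        rw [pow_succ]
        group
    ext v
    have h1 := hprod m v.toMul
    rw [key h rfl, mul_one, key _ (by
      rw [QuotientGroup.mk_mul, (QuotientGroup.eq_one_iff _).mpr (v.toMul).2, one_mul])] at h1
    have h2 : nrm (QuotientGroup.lift V F hF) (h : H ⧸ V) m =
        ∑ i ∈ Finset.range m, F (h ^ i) := by
      unfold nrm
      rfl
    rw [h2]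
    exact h1.symm

end lift


/-- The module of a prime divisor of the order of a nilpotent normal subgroup: an element with
non-zero norm gives an element of order `r` times as large. -/
theorem exists_modG {G : Type u} [Group G] [Finite G] (K : Subgroup G)
    [hKn : K.Normal] (hK : Group.IsNilpotent K) {r : ℕ} (hr : r.Prime) (hd : r ∣ Nat.card K) :
    ∃ (W : Type u) (_ : AddCommGroup W) (_ : Finite W) (_ : Nontrivial W)
      (ρ : G ⧸ K →* AddMonoid.End W), (∀ w : W, r • w = 0) ∧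
      ∀ t : G ⧸ K, (¬ ∃ g : G, orderOf g = orderOf t * r) → nrm ρ t (orderOf t) = 0 := by
  haveI : Fact r.Prime := ⟨hr⟩
  obtain ⟨L, hLn, hLi⟩ := exists_index_eq hK hr hd
  set s : Set G := {y | ∃ x ∈ K, y = x ^ r} ∪ {y | ∃ a ∈ K, ∃ b ∈ K, y = a * b * a⁻¹ * b⁻¹} with hs'
  set M : Subgroup G := closure s with hM
  have hMn : M.Normal := by
    constructor
    intro x hx' g
    replace hx' : x ∈ closure s := hx'
    induction hx' using closure_induction with
    | mem x hx =>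
      apply Subgroup.subset_closure
      rcases hx with ⟨y, hy, rfl⟩ | ⟨a, ha, b, hb, rfl⟩
      · exact Or.inl ⟨g * y * g⁻¹, hKn.conj_mem y hy g, by rw [conj_pow]⟩
      · exact Or.inr ⟨g * a * g⁻¹, hKn.conj_mem a ha g, g * b * g⁻¹, hKn.conj_mem b hb g, by group⟩
    | one => simp
    | mul x y hx hy ihx ihy =>
      have := M.mul_mem ihx ihy
      have e : g * (x * y) * g⁻¹ = g * x * g⁻¹ * (g * y * g⁻¹) := by group
      rw [e]
      exact this
    | inv x hx ihx =>
      have := M.inv_mem ihx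
      have e : g * x⁻¹ * g⁻¹ = (g * x * g⁻¹)⁻¹ := by group
      rw [e]
      exact this
  have hMK : M ≤ K := by
    rw [hM, closure_le]
    rintro _ (⟨y, hy, rfl⟩ | ⟨a, ha, b, hb, rfl⟩)
    · exact K.pow_mem hy r
    · exact K.mul_mem (K.mul_mem (K.mul_mem ha hb) (K.inv_mem ha)) (K.inv_mem hb)
  have hML : M ≤ L.map K.subtype := by
    rw [hM, closure_le]
    rintro _ (⟨y, hy, rfl⟩ | ⟨a, ha, b, hb, rfl⟩)
    · refine ⟨⟨y, hy⟩ ^ r, ?_, rfl⟩
      have h1 := L.pow_index_mem ⟨y, hy⟩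
      rwa [hLi] at h1
    · refine ⟨⟨a, ha⟩ * ⟨b, hb⟩ * ⟨a, ha⟩⁻¹ * ⟨b, hb⟩⁻¹, ?_, rfl⟩
      have hcard : Nat.card (K ⧸ L) = r := hLi
      haveI := isCyclic_of_prime_card hcard
      change _ ∈ L
      rw [← QuotientGroup.eq_one_iff]
      have hc : ∀ x y : K ⧸ L, x * y * x⁻¹ * y⁻¹ = 1 := by
        intro x y
        letI := IsCyclic.commGroup (α := K ⧸ L)
        have : x * y = y * x := mul_comm' x y
        rw [this]
        group
      exact hc (QuotientGroup.mk ⟨a, ha⟩) (QuotientGroup.mk ⟨b, hb⟩)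
  -- the quotient
  set V : Subgroup (G ⧸ M) := K.map (QuotientGroup.mk' M) with hV
  haveI hVn : V.Normal := hKn.map _ (QuotientGroup.mk'_surjective M)
  have hVc : ∀ a ∈ V, ∀ b ∈ V, a * b = b * a := by
    rintro _ ⟨a, ha, rfl⟩ _ ⟨b, hb, rfl⟩
    have h1 : a * b * a⁻¹ * b⁻¹ ∈ M := Subgroup.subset_closure (Or.inr ⟨a, ha, b, hb, rfl⟩)
    have h2 : ((a * b * a⁻¹ * b⁻¹ : G) : G ⧸ M) = 1 := (QuotientGroup.eq_one_iff _).mpr h1
    have h3 : (a : G ⧸ M) * b * ((b : G ⧸ M) * a)⁻¹ = 1 := by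
      rw [mul_inv_rev, ← mul_assoc]
      exact h2
    exact mul_inv_eq_one.mp h3
  have hVr : ∀ a ∈ V, a ^ r = 1 := by
    rintro _ ⟨a, ha, rfl⟩
    have h1 : a ^ r ∈ M := Subgroup.subset_closure (Or.inl ⟨a, ha, rfl⟩)
    exact (QuotientGroup.eq_one_iff _).mpr h1
  have hVb : V ≠ ⊥ := by
    intro hb
    have h1 : K ≤ M := by
      intro x hx
      have h2 : (x : G ⧸ M) ∈ V := ⟨x, hx, rfl⟩
      rw [hb, mem_bot] at h2
      exact (QuotientGroup.eq_one_iff _).mp h2
    have h2 : L = ⊤ := by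
      rw [eq_top_iff]
      intro x _
      obtain ⟨y, hy, hyx⟩ := hML (h1 x.2)
      have : y = x := Subtype.ext hyx
      rwa [← this]
    rw [h2, index_top] at hLi
    exact hr.one_lt.ne hLi
  obtain ⟨W, i1, i2, i3, ρ, hc, hρ⟩ := exists_mod0 V hVc hVb r hr hVr
  let e := QuotientGroup.quotientQuotientEquivQuotient M K hMK
  refine ⟨W, i1, i2, i3, ρ.comp e.symm.toMonoidHom, hc, fun t ht => ?_⟩
  have h1 := hρ (e.symm t) (by
    rintro ⟨g, hg⟩
    rw [MulEquiv.orderOf_eq] at hg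
    obtain ⟨g, rfl⟩ := QuotientGroup.mk_surjective g
    apply ht
    have h2 : orderOf (g : G ⧸ M) ∣ orderOf g := orderOf_map_dvd (QuotientGroup.mk' M) g
    rw [hg] at h2
    obtain ⟨j, hj⟩ := h2
    have hj0 : j ≠ 0 := by
      rintro rfl
      rw [mul_zero] at hj
      exact (orderOf_pos g).ne' hj
    refine ⟨g ^ j, ?_⟩
    rw [orderOf_pow_of_dvd hj0 (by rw [hj]; exact Dvd.intro_left _ rfl), hj,
      Nat.mul_div_cancel _ (Nat.pos_of_ne_zero hj0)])
  rw [MulEquiv.orderOf_eq] at h1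
  simpa [nrm] using h1

end Cfsg.Agent.H359
end

-- part: H359/Alt/Struct
section
set_option linter.all false
open scoped Cfsg.Agent.FastGrp

/-!
# Groups with isolated prime 7 and spectrum in `{1, ..., 10, 12, 15}`: structure
-/

set_option autoImplicit false
set_option linter.style.haveILetI false

namespace Cfsg.Agent.H359

open Subgroup Cfsg

universe u

/-- The structure modulo the `7'`-core. -/
theorem main_alt {G : Type u} [Group G] [Finite G] (hs : Sp G) (h7 : ∃ g : G, orderOf g = 7) :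
    ∃ (K : Subgroup G) (_ : K.Normal), ¬ 7 ∣ Nat.card K ∧ Group.IsNilpotent K ∧
      (K ≠ ⊥ → ¬ 49 ∣ Nat.card G) ∧
      (pCore 7 (G ⧸ K) ≠ ⊥ ∨ ∃ (S : Subgroup (G ⧸ K)) (_ : S.Normal),
        IsSimpleGroup S ∧ ¬ IsMulCommutative S ∧ 7 ∣ Nat.card S ∧
        centralizer (S : Set (G ⧸ K)) = ⊥) := by
  haveI : Fact (Nat.Prime 7) := ⟨by norm_num⟩
  set K := pPrimeCore 7 G with hK
  haveI hKn : K.Normal := Lib.Cores.pPrimeCore_normal 7
  have hK7 : ¬ 7 ∣ Nat.card K := by
    intro h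
    have h1 := Lib.Cores.pPrimeCore_coprime (G := G) 7
    rw [Nat.coprime_comm] at h1
    exact (Nat.Prime.coprime_iff_not_dvd (by norm_num)).mp h1 h
  have hTc : pPrimeCore 7 (G ⧸ K) = ⊥ := Lib.Cores.pPrimeCore_quotient_pPrimeCore 7
  have hTs : Sp (G ⧸ K) := hs.quot K
  obtain ⟨z, hz⟩ := h7
  have h7G : 7 ∣ Nat.card G := by rw [← hz]; exact _root_.orderOf_dvd_natCard z
  have hnil : K ≠ ⊥ → Group.IsNilpotent K ∧ ¬ 49 ∣ Nat.card G := fun h =>
    not_dvd_of_ne_bot hs h hK7 h7G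
  have hKnil : Group.IsNilpotent K := by
    rcases eq_or_ne K ⊥ with h | h
    · rw [h]
      infer_instance
    · exact (hnil h).1
  haveI : Nontrivial (G ⧸ K) := by
    rw [QuotientGroup.nontrivial_iff]
    intro h
    rw [h, card_top] at hK7
    exact hK7 h7G
  refine ⟨K, hKn, hK7, hKnil, fun h => (hnil h).2, ?_⟩
  by_cases hE : pCore 7 (G ⧸ K) = ⊥
  swap
  · exact Or.inl hE
  rcases simple_or hTs hTc with h | ⟨S, hSn, hSs, hS7⟩
  · exact absurd hE h
  right
  have hna : ¬ IsMulCommutative S := by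
    intro hc
    haveI := hSn
    have hp : IsPGroup 7 S := by
      obtain ⟨x, hx⟩ := exists_prime_orderOf_dvd_card' 7 hS7
      apply isPGroup_of_pow
      intro y hy
      refine hTs.pow_seven (x := (x : G ⧸ K)) (by rw [Subgroup.orderOf_coe]; exact hx) ?_
      exact congrArg Subtype.val (mul_comm' x ⟨y, hy⟩)
    have h1 : S ≤ pCore 7 (G ⧸ K) := Lib.Cores.le_pCore hSn hp
    rw [hE] at h1
    have h2 := le_bot_iff.mp h1
    rw [h2, card_bot] at hS7
    omega
  haveI := hSn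
  exact ⟨S, hSn, hSs, hna, hS7, centralizer_eq_bot hTs hTc hSs hna⟩

/-- An involution inverts a normal 7-subgroup and is central modulo the centralizer. -/
theorem inv_core {T : Type u} [Group T] [Finite T] (hs : Sp T) (E : Subgroup T) [hEn : E.Normal]
    (hEp : IsPGroup 7 E) (hEb : E ≠ ⊥) {t : T} (ht : orderOf t = 2) :
    (∀ y ∈ centralizer (E : Set T), y ^ 7 = 1) ∧ (∀ e ∈ E, t * e * t⁻¹ = e⁻¹) ∧
      ∀ g, t * g * t⁻¹ * g⁻¹ ∈ centralizer (E : Set T) := by
  haveI : Fact (Nat.Prime 7) := ⟨by norm_num⟩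
  obtain ⟨n, hn⟩ := IsPGroup.iff_card.mp hEp
  have hn0 : n ≠ 0 := by
    rintro rfl
    rw [pow_zero] at hn
    exact hEb (card_eq_one.mp hn)
  obtain ⟨x, hx, hxo⟩ : ∃ x ∈ E, orderOf x = 7 := exists_orderOf_seven (by
    rw [hn]; exact dvd_pow_self 7 hn0)
  set C := centralizer (E : Set T) with hC
  have hCp : IsPGroup 7 C := IsPGroup.to_le (hs.isPGroup_centralizer hxo)
    (centralizer_le (by simpa using hx))
  have hCpow : ∀ y ∈ C, y ^ 7 = 1 := fun y hy => hs.pow_of_isPGroup hCp hy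
  have ht2 : t * t = 1 := by rw [← pow_two, ← ht]; exact pow_orderOf_eq_one _
  have hinv : ∀ e ∈ E, t * e * t⁻¹ = e⁻¹ := by
    let φ : E →* E := ((MulAut.conjNormal t : MulAut E) : E →* E)
    have hφv : ∀ e : E, ((φ e : E) : T) = t * e * t⁻¹ := fun e => MulAut.conjNormal_apply _ _
    have ht3 : t⁻¹ = t := inv_eq_of_mul_eq_one_left ht2
    have h2 : Function.Involutive φ := by
      intro e
      apply Subtype.ext
      rw [hφv, hφv, ht3]
      calc t * (t * e * t) * t = (t * t) * e * (t * t) := by simp only [mul_assoc]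
        _ = e := by rw [ht2, one_mul, mul_one]
    have hfpf : MonoidHom.FixedPointFree φ := by
      intro e he
      have h3 : t * e * t⁻¹ = e := by rw [← hφv, he]
      have h4 : (e : T) ^ 7 = 1 := hs.pow_of_isPGroup hEp e.2
      by_contra he1
      have h5 : orderOf (e : T) = 7 := by
        have h2 : orderOf (e : T) ∣ 7 := orderOf_dvd_of_pow_eq_one h4
        rcases (Nat.dvd_prime (by norm_num)).mp h2 with h4 | h4
        · exact absurd (Subtype.ext (orderOf_eq_one_iff.mp h4)) he1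
        · exact h4
      have h6 : t ^ 7 = 1 :=
        hs.pow_seven h5 (show Commute (e : T) t from (mul_inv_eq_iff_eq_mul.mp h3).symm)
      have h7 := orderOf_dvd_of_pow_eq_one h6
      rw [ht] at h7
      omega
    intro e he
    have h3 := congrFun (hfpf.coe_eq_inv_of_involutive h2) ⟨e, he⟩
    have h4 := congrArg Subtype.val h3
    rw [hφv] at h4
    exact h4
  refine ⟨hCpow, hinv, fun g => ?_⟩
  rw [hC, mem_centralizer_iff]
  intro e he
  have h1 : g⁻¹ * e * g ∈ E := by simpa using hEn.conj_mem e he g⁻¹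
  have h2 := hinv _ h1
  have h3 := hinv _ (E.inv_mem he)
  have h5 : t⁻¹ * (g⁻¹ * e * g) * t = (g⁻¹ * e * g)⁻¹ := by
    have ht3 : t⁻¹ = t := inv_eq_of_mul_eq_one_left ht2
    rw [ht3] at h2 ⊢
    exact h2
  have h4 : t * g * t⁻¹ * g⁻¹ * e * (t * g * t⁻¹ * g⁻¹)⁻¹ = e := by
    calc _ = t * (g * (t⁻¹ * (g⁻¹ * e * g) * t) * g⁻¹) * t⁻¹ := by group
      _ = t * e⁻¹ * t⁻¹ := by rw [h5]; group
      _ = e := by rw [h3, inv_inv]
  exact (mul_inv_eq_iff_eq_mul.mp h4).symm

/-- Orders modulo a normal subgroup of exponent 7. -/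
theorem orderOf_mk_of_exp {T : Type u} [Group T] (C : Subgroup T) [C.Normal]
    (hC : ∀ y ∈ C, y ^ 7 = 1) {y : T} (hy : (orderOf y).Coprime 7) :
    orderOf (y : T ⧸ C) = orderOf y := by
  apply Nat.dvd_antisymm (orderOf_map_dvd (QuotientGroup.mk' C) y)
  have h1 : ((y ^ orderOf (y : T ⧸ C) : T) : T ⧸ C) = 1 := by
    rw [QuotientGroup.mk_pow]; exact pow_orderOf_eq_one _
  have h2 := hC _ ((QuotientGroup.eq_one_iff _).mp h1)
  rw [← pow_mul] at h2
  exact Nat.Coprime.dvd_of_dvd_mul_right hy (orderOf_dvd_of_pow_eq_one h2)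

/-- lifting orders from a quotient -/
theorem exists_orderOf_lift {T : Type u} [Group T] [Finite T] (C : Subgroup T) [C.Normal] (q : T ⧸ C) :
    ∃ y : T, orderOf y = orderOf q := by
  obtain ⟨g, rfl⟩ := QuotientGroup.mk_surjective q
  have h2 : orderOf (g : T ⧸ C) ∣ orderOf g := orderOf_map_dvd (QuotientGroup.mk' C) g
  obtain ⟨j, hj⟩ := h2
  have hj0 : j ≠ 0 := by
    rintro rfl
    rw [mul_zero] at hj
    exact (orderOf_pos g).ne' hj
  refine ⟨g ^ j, ?_⟩
  rw [orderOf_pow_of_dvd hj0 (by rw [hj]; exact Dvd.intro_left _ rfl), hj,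
    Nat.mul_div_cancel _ (Nat.pos_of_ne_zero hj0)]

theorem two_mul_order {T : Type u} [Group T] [Finite T] (hs : Sp T) (E : Subgroup T) [hEn : E.Normal]
    (hEp : IsPGroup 7 E) (hEb : E ≠ ⊥) {t g : T} (ht : orderOf t = 2)
    (hg2 : (orderOf g).Coprime 2) (hg7 : (orderOf g).Coprime 7) :
    ∃ y : T, orderOf y = 2 * orderOf g := by
  obtain ⟨hCpow, -, hcomm⟩ := inv_core hs E hEp hEb ht
  set C := centralizer (E : Set T) with hC
  haveI : C.Normal := inferInstance
  have hqc : Commute (t : T ⧸ C) (g : T ⧸ C) := by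
    have h1 : ((t * g * t⁻¹ * g⁻¹ : T) : T ⧸ C) = 1 := (QuotientGroup.eq_one_iff _).mpr (hcomm g)
    have h2 : (t : T ⧸ C) * g * ((g : T ⧸ C) * t)⁻¹ = 1 := by
      rw [mul_inv_rev, ← mul_assoc]
      exact h1
    exact mul_inv_eq_one.mp h2
  have h1 := orderOf_mk_of_exp C hCpow (y := t) (by rw [ht]; decide)
  have h2 := orderOf_mk_of_exp C hCpow hg7
  have h3 := hqc.orderOf_mul_eq_mul_orderOf_of_coprime (by rw [h1, h2, ht]; exact hg2.symm)
  obtain ⟨y, hy⟩ := exists_orderOf_lift C ((t : T ⧸ C) * g)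
  exact ⟨y, by rw [hy, h3, h1, h2, ht]⟩

/-- In the nilpotent group `K` there is an element of order `a b`. -/
theorem exists_mul_of_nilp {G : Type u} [Group G] [Finite G] (K : Subgroup G)
    (hK : Group.IsNilpotent K) {x y : G} (hx : x ∈ K) (hy : y ∈ K)
    (hc : (orderOf x).Coprime (orderOf y)) : orderOf (x * y) = orderOf x * orderOf y := by
  have q2 : orderOf (⟨x, hx⟩ : K) = orderOf x := Subgroup.orderOf_mk _ _
  have q3 : orderOf (⟨y, hy⟩ : K) = orderOf y := Subgroup.orderOf_mk _ _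
  have c23 : Commute (⟨x, hx⟩ : K) ⟨y, hy⟩ :=
    Lib.NilpotentCoprime.commute_of_coprime_orderOf (by rw [q2, q3]; exact hc)
  have h := c23.orderOf_mul_eq_mul_orderOf_of_coprime (by rw [q2, q3]; exact hc)
  rw [q2, q3] at h
  rw [← h, ← Subgroup.orderOf_coe]
  rfl

/-- The quotient in the case of a normal 7-subgroup and `K ≠ 1`. -/
theorem core_ne {G : Type u} [Group G] [Finite G] (hs : Sp G) (K : Subgroup G) [K.Normal]
    (h49 : ¬ 49 ∣ Nat.card G) (hE : pCore 7 (G ⧸ K) ≠ ⊥) :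
    Nat.card (pCore 7 (G ⧸ K)) = 7 ∧ ∃ a, Nat.card (G ⧸ K) ∣ 7 ^ a * 6 := by
  haveI : Fact (Nat.Prime 7) := ⟨by norm_num⟩
  set E := pCore 7 (G ⧸ K) with hEdef
  haveI hEn : E.Normal := Lib.Cores.pCore_normal 7
  have hEp : IsPGroup 7 E := Lib.Cores.pCore_isPGroup 7
  have hE7 : Nat.card E = 7 := by
    obtain ⟨n, hn⟩ := IsPGroup.iff_card.mp hEp
    have h2 : Nat.card E ∣ Nat.card G :=
      (card_subgroup_dvd_card E).trans (card_quotient_dvd_card K)
    have h3 : n < 2 := by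
      by_contra h
      push Not at h
      rw [hn] at h2
      exact h49 ((pow_dvd_pow 7 h).trans h2)
    interval_cases n
    · exact absurd (card_eq_one.mp hn) hE
    · exact hn
  exact ⟨hE7, card_dvd_of_core (hs.quot K) E hE7⟩

theorem core_false {G : Type u} [Group G] [Finite G] (hs : Sp G) (K : Subgroup G) [K.Normal]
    (hKnil : Group.IsNilpotent K) (h49 : K ≠ ⊥ → ¬ 49 ∣ Nat.card G) (hE : pCore 7 (G ⧸ K) ≠ ⊥)
    (h4 : ∃ g : G, orderOf g = 4) (h5 : ∃ g : G, orderOf g = 5)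
    (hX : (∀ g : G, orderOf g ≠ 10) ∨ ∃ g : G, orderOf g = 9) : False := by
  haveI : Fact (Nat.Prime 7) := ⟨by norm_num⟩
  haveI hEn : (pCore 7 (G ⧸ K)).Normal := Lib.Cores.pCore_normal 7
  have hEp : IsPGroup 7 (pCore 7 (G ⧸ K)) := Lib.Cores.pCore_isPGroup 7
  obtain ⟨g4, h4⟩ := h4
  obtain ⟨g5, h5⟩ := h5
  have ho2 : orderOf (g4 ^ 2) = 2 := by
    rw [orderOf_pow_of_dvd (by norm_num) (by rw [h4]; norm_num), h4]
  rcases eq_or_ne K ⊥ with hKb | hKb
  · have hinj : Function.Injective (QuotientGroup.mk' K) := by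
      rw [← MonoidHom.ker_eq_bot_iff, QuotientGroup.ker_mk', hKb]
    have key : ∀ g : G, (orderOf g).Coprime 2 → (orderOf g).Coprime 7 →
        ∃ y : G, orderOf y = 2 * orderOf g := by
      intro g h1 h2
      obtain ⟨y, hy⟩ := two_mul_order (hs.quot K) _ hEp hE (t := QuotientGroup.mk' K (g4 ^ 2))
        (g := QuotientGroup.mk' K g) (by rw [orderOf_injective _ hinj, ho2])
        (by rwa [orderOf_injective _ hinj]) (by rwa [orderOf_injective _ hinj])
      rw [orderOf_injective _ hinj] at hy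
      obtain ⟨x, hx⟩ := exists_orderOf_lift K y
      exact ⟨x, hx.trans hy⟩
    rcases hX with hX | ⟨g9, h9⟩
    · obtain ⟨y, hy⟩ := key g5 (by rw [h5]; decide) (by rw [h5]; decide)
      exact hX y (by rw [hy, h5])
    · obtain ⟨y, hy⟩ := key g9 (by rw [h9]; decide) (by rw [h9]; decide)
      have := hs y
      rw [hy, h9] at this
      revert this
      decide
  · obtain ⟨-, a, ha⟩ := core_ne hs K (h49 hKb) hE
    have m4 := pow_mem_of_card_dvd K ha g4 (by rw [h4]; decide)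
    have m5 := pow_mem_of_card_dvd K ha g5 (by rw [h5]; decide)
    rw [h4] at m4
    rw [h5] at m5
    norm_num at m4 m5
    have o10 := exists_mul_of_nilp K hKnil m4 m5 (by rw [ho2, h5]; decide)
    rw [ho2, h5] at o10
    rcases hX with hX | ⟨g9, h9⟩
    · exact hX _ o10
    · have m9 := pow_mem_of_card_dvd K ha g9 (by rw [h9]; decide)
      rw [h9] at m9
      norm_num at m9
      have o3 : orderOf (g9 ^ 3) = 3 := by
        rw [orderOf_pow_of_dvd (by norm_num) (by rw [h9]; norm_num), h9]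
      have o30 := exists_mul_of_nilp K hKnil (K.mul_mem m4 m5) m9 (by rw [o10, o3]; decide)
      rw [o10, o3] at o30
      have := hs (g4 ^ 2 * g5 * g9 ^ 3)
      rw [o30] at this
      revert this
      decide

end Cfsg.Agent.H359
end

-- part: H964/SpAlt/Spor
section
set_option linter.all false
open scoped Cfsg.Agent.FastGrp

-- part: H964/SpAlt/Num
section
/-!
# SPEC-ALT task 1779: prime numbers in `(n / 2, n]`, the orders of the sporadic groups, alternating groups (helper964)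
-/

set_option autoImplicit false

namespace Cfsg.Agent.H964.SpAlt

open Cfsg.Agent.H357 Cfsg.Agent.H357.Sp

/-- the primes from 11 to 167 -/
def prims : List ℕ := [11, 13, 17, 19, 23, 29, 31, 37, 41, 43, 47, 53, 59, 61, 67, 71, 73, 79, 83, 89, 97, 101, 103, 107,
  109, 113, 127, 131, 137, 139, 149, 151, 157, 163, 167]

theorem prims_prime : ∀ p ∈ prims, p.Prime := by
  intro p hp
  simp only [prims, List.mem_cons, List.not_mem_nil, or_false] at hp
  rcases hp with rfl | rfl | rfl | rfl | rfl | rfl | rfl | rfl | rfl | rfl | rfl | rfl | rfl | rfl | rfl | rfl | rfl |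
    rfl | rfl | rfl | rfl | rfl | rfl | rfl | rfl | rfl | rfl | rfl | rfl | rfl | rfl | rfl | rfl | rfl | rfl <;> norm_num

/-- the test for membership in `T n` -/
def inT (n p : ℕ) : Bool := Nat.blt (n / 2) p && Nat.ble p n

theorem mem_T' {n p : ℕ} : p ∈ T n ↔ n / 2 < p ∧ p ≤ n ∧ p.Prime := by
  unfold T
  simp only [Finset.mem_filter, Finset.mem_Ioc, and_assoc]

theorem inT_iff {n p : ℕ} : inT n p = true ↔ n / 2 < p ∧ p ≤ n := by
  unfold inT
  rw [Bool.and_eq_true, Nat.blt_eq, Nat.ble_eq]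

theorem mem_T {n p : ℕ} (hp : p ∈ prims) (h : inT n p = true) : p ∈ T n :=
  mem_T'.2 ⟨(inT_iff.1 h).1, (inT_iff.1 h).2, prims_prime p hp⟩

/-- the primes of `T n` -/
def lT (n : ℕ) : List ℕ := prims.filter (inT n)

theorem mem_T_of_lT {n p : ℕ} (hp : p ∈ lT n) : p ∈ T n := by
  obtain ⟨h1, h2⟩ := List.mem_filter.1 hp
  exact mem_T h1 h2

theorem card_small : ((List.range 52).all fun n => Nat.blt n 17 || Nat.ble 3 (lT n).length) = true := by
  decide +kernel

theorem prims_nodup : prims.Nodup := by decide +kernel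

/-- `(n / 2, n]` contains at least three primes -/
theorem card_T_ge {n : ℕ} (hn : 17 ≤ n) : 3 ≤ (T n).card := by
  rcases lt_or_ge n 52 with h | h
  · have h1 := List.all_eq_true.1 card_small n (List.mem_range.2 h)
    rw [Bool.or_eq_true, Nat.blt_eq, Nat.ble_eq] at h1
    have h2 : 3 ≤ (lT n).length := by omega
    have h3 : (lT n).Nodup := prims_nodup.filter _
    have h4 : (lT n).toFinset ⊆ T n := fun p hp => mem_T_of_lT (List.mem_toFinset.1 hp)
    calc 3 ≤ (lT n).length := h2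
      _ = (lT n).toFinset.card := (List.toFinset_card_of_nodup h3).symm
      _ ≤ (T n).card := Finset.card_le_card h4
  · obtain ⟨r, s, hr, hs, h1, h2, h3⟩ := NT.two_primes (n := n) (by omega)
    obtain ⟨r', s', hr', hs', h1', h2', h3'⟩ := NT.two_primes (n := 4 * n / 5) (by omega)
    have e1 : s' ≠ r := by omega
    have e2 : s' ≠ s := by omega
    have e3 : r ≠ s := by omega
    have hsub : ({s', r, s} : Finset ℕ) ⊆ T n := by
      intro p hp
      simp only [Finset.mem_insert, Finset.mem_singleton] at hp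
      rcases hp with rfl | rfl | rfl
      · exact mem_T'.2 ⟨by omega, by omega, hs'⟩
      · exact mem_T'.2 ⟨by omega, by omega, hr⟩
      · exact mem_T'.2 ⟨by omega, by omega, hs⟩
    calc 3 = ({s', r, s} : Finset ℕ).card := by
          rw [Finset.card_insert_of_notMem (by simp [e1, e2]), Finset.card_insert_of_notMem (by simp [e3]),
            Finset.card_singleton]
      _ ≤ (T n).card := Finset.card_le_card hsub

/-- the condition of `exists_prime_T` -/
def good (n t r p : ℕ) : Bool :=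
  !(Nat.beq r t) && !(Nat.beq p t) && Nat.ble (r + 3) p && Nat.ble 7 (n - r) &&
    !(Nat.beq (n - r) 8) && !(Nat.beq (n - r) 10)

theorem pair_small : ((List.range 170).all fun n => Nat.blt n 29 ||
    (0 :: lT n).all fun t => (Nat.beq n 29 && Nat.beq t 17) || (Nat.beq n 39 && Nat.beq t 23) ||
      (lT n).any fun r => (lT n).any fun p => good n t r p) = true := by
  decide +kernel

/-- two primes of `(n / 2, n]` -/
theorem exists_prime_T_strong {n : ℕ} (hn : 29 ≤ n) (t₀ : ℕ) (h1 : ¬ (n = 29 ∧ t₀ = 17)) (h2 : ¬ (n = 39 ∧ t₀ = 23)) :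
    ∃ r p : ℕ, r ∈ T n ∧ p ∈ T n ∧ r ≠ t₀ ∧ p ≠ t₀ ∧ r + 3 ≤ p ∧ 7 ≤ n - r ∧ n - r ≠ 8 ∧ n - r ≠ 10 := by
  rcases lt_or_ge n 170 with h | h
  · have h3 := List.all_eq_true.1 pair_small n (List.mem_range.2 h)
    rw [Bool.or_eq_true, Nat.blt_eq] at h3
    have h4 := List.all_eq_true.1 (h3.resolve_left (by omega))
    have key : ∀ t ∈ (0 :: lT n), ¬ (n = 29 ∧ t = 17) → ¬ (n = 39 ∧ t = 23) → ∃ r p : ℕ, r ∈ lT n ∧ p ∈ lT n ∧ r ≠ t ∧
        p ≠ t ∧ r + 3 ≤ p ∧ 7 ≤ n - r ∧ n - r ≠ 8 ∧ n - r ≠ 10 := by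
      intro t ht h5 h6
      have h7 := h4 t ht
      simp only [Bool.or_eq_true, Bool.and_eq_true, Nat.beq_eq, List.any_eq_true, good, Bool.not_eq_true',
        Nat.ble_eq] at h7
      obtain ⟨r, hr, p, hp, ⟨⟨⟨⟨a1, a2⟩, a3⟩, a4⟩, a5⟩, a6⟩ := h7.resolve_left (by
        rintro (h8 | h8)
        · exact h5 h8
        · exact h6 h8)
      refine ⟨r, p, hr, hp, ?_, ?_, a3, a4, ?_, ?_⟩
      · intro e
        rw [e, Nat.beq_refl] at a1
        exact Bool.noConfusion a1
      · intro e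
        rw [e, Nat.beq_refl] at a2
        exact Bool.noConfusion a2
      · intro e
        rw [e] at a5
        exact Bool.noConfusion a5
      · intro e
        rw [e] at a6
        exact Bool.noConfusion a6
    by_cases ht : t₀ ∈ lT n
    · obtain ⟨r, p, hr, hp, hh⟩ := key t₀ (List.mem_cons_of_mem _ ht) h1 h2
      exact ⟨r, p, mem_T_of_lT hr, mem_T_of_lT hp, hh⟩
    · obtain ⟨r, p, hr, hp, -, -, hh⟩ := key 0 (List.mem_cons_self ..) (by simp) (by simp)
      exact ⟨r, p, mem_T_of_lT hr, mem_T_of_lT hp, fun e => ht (e ▸ hr), fun e => ht (e ▸ hp), hh⟩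
  · obtain ⟨r, s, hr, hs, a1, a2, a3⟩ := NT.two_primes (n := n) (by omega)
    obtain ⟨r', s', hr', hs', b1, b2, b3⟩ := NT.two_primes (n := 4 * (4 * n / 5) / 5) (by omega)
    obtain ⟨x, hx, hx1, hx2, hx3⟩ : ∃ x : ℕ, x.Prime ∧ x ≠ t₀ ∧ r' ≤ x ∧ x ≤ s' := by
      by_cases e : r' = t₀
      · exact ⟨s', hs', by omega, by omega, le_rfl⟩
      · exact ⟨r', hr', e, le_rfl, by omega⟩
    obtain ⟨y, hy, hy1, hy2, hy3⟩ : ∃ y : ℕ, y.Prime ∧ y ≠ t₀ ∧ r ≤ y ∧ y ≤ s := by
      by_cases e : r = t₀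
      · exact ⟨s, hs, by omega, by omega, le_rfl⟩
      · exact ⟨r, hr, e, le_rfl, by omega⟩
    exact ⟨x, y, mem_T'.2 ⟨by omega, by omega, hx⟩, mem_T'.2 ⟨by omega, by omega, hy⟩, hx1, hy1, by omega, by omega,
      by omega, by omega⟩

/-- the orders of the sporadic groups and of the Tits group -/
def orders : List ℕ :=
  [17971200, 7920, 95040, 443520, 10200960, 244823040, 175560, 604800, 50232960, 86775571046077562880,
    4157776806543360000, 42305421312000, 495766656000, 898128000, 44352000, 448345497600, 4030387200, 145926144000,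
    460815505920, 51765179004000000, 64561751654400, 4089470473293004800, 1255205709190661721292800,
    273030912000000, 90745943887872000, 4154781481226426191177580544000000,
    808017424794512875886459904961710757005754368000000000]

theorem orders_dvd : (orders.all fun c => Nat.beq (Nat.factorial 71 % c) 0) = true := by decide +kernel

/-- the primes of `T n` not dividing `c` -/
def lN (n c : ℕ) : List ℕ := (lT n).filter fun p => !(Nat.beq (c % p) 0)

theorem orders_chk : ((List.range 143).all fun n => Nat.blt n 29 || orders.all fun c =>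
    (prims.any fun p => Nat.beq (c % p) 0 && Nat.blt n p) ||
    ((lN n c).any fun p => (lN n c).any fun q => !(Nat.beq p q)) ||
    (Nat.beq c 86775571046077562880 && Nat.ble 43 n && Nat.ble n 46) ||
    (Nat.beq c 1255205709190661721292800 && (Nat.beq n 29 || Nat.beq n 30))) = true := by
  have h : ((List.range 143).all fun n => Nat.blt n 29 || orders.all fun c =>
      ((prims.reverse.filter (inT n)).any fun p => !(Nat.beq (Nat.mod c p) 0) &&
        (prims.reverse.filter (inT n)).any fun q => !(Nat.beq p q) && !(Nat.beq (Nat.mod c q) 0)) ||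
      ((prims.any fun p => Nat.beq (c % p) 0 && Nat.blt n p) ||
      (Nat.beq c 86775571046077562880 && Nat.ble 43 n && Nat.ble n 46) ||
      (Nat.beq c 1255205709190661721292800 && (Nat.beq n 29 || Nat.beq n 30)))) = true := by
    decide +kernel
  refine List.all_eq_true.2 fun n hn => ?_
  refine Bool.or_eq_true_iff.2 ((Bool.or_eq_true_iff.1 (List.all_eq_true.1 h n hn)).imp_right fun h2 =>
    List.all_eq_true.2 fun c hc => ?_)
  have m : ∀ p ∈ prims.reverse.filter (inT n), (!(Nat.beq (Nat.mod c p) 0)) = true → p ∈ lN n c := fun p hp e =>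
    List.mem_filter.2 ⟨List.mem_filter.2 ⟨List.mem_reverse.1 (List.mem_filter.1 hp).1, (List.mem_filter.1 hp).2⟩, e⟩
  rcases Bool.or_eq_true_iff.1 (List.all_eq_true.1 h2 c hc) with h3 | h3
  · obtain ⟨p, hp, h4⟩ := List.any_eq_true.1 h3
    obtain ⟨h5, h6⟩ := Bool.and_eq_true_iff.1 h4
    obtain ⟨q, hq, h7⟩ := List.any_eq_true.1 h6
    obtain ⟨h8, h9⟩ := Bool.and_eq_true_iff.1 h7
    refine Bool.or_eq_true_iff.2 (.inl (Bool.or_eq_true_iff.2 (.inl (Bool.or_eq_true_iff.2 (.inr ?_)))))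
    exact List.any_eq_true.2 ⟨p, m p hp h5, List.any_eq_true.2 ⟨q, m q hq h9, h8⟩⟩
  · rcases Bool.or_eq_true_iff.1 h3 with h3 | h3
    · rcases Bool.or_eq_true_iff.1 h3 with h3 | h3
      · exact Bool.or_eq_true_iff.2 (.inl (Bool.or_eq_true_iff.2 (.inl (Bool.or_eq_true_iff.2 (.inl h3)))))
      · exact Bool.or_eq_true_iff.2 (.inl (Bool.or_eq_true_iff.2 (.inr h3)))
    · exact Bool.or_eq_true_iff.2 (.inr h3)

theorem spor_numeric {n c : ℕ} (h29 : 29 ≤ n) (hc : c ∈ orders) (hsm : ∀ p : ℕ, p.Prime → p ∣ c → p ≤ n) (t₀ : ℕ)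
    (hT : ∀ p ∈ T n, p ≠ t₀ → p ∣ c) :
    (c = 86775571046077562880 ∧ 43 ≤ n ∧ n ≤ 46) ∨ (c = 1255205709190661721292800 ∧ (n = 29 ∨ n = 30)) := by
  -- two different primes of `T n` not dividing `c` give a contradiction
  have key : ∀ p ∈ T n, ∀ q ∈ T n, p ≠ q → ¬ p ∣ c → ¬ q ∣ c → False := by
    intro p hp q hq hpq h1 h2
    by_cases e : p = t₀
    · exact h2 (hT q hq fun e' => hpq (e.trans e'.symm))
    · exact h1 (hT p hp e)
  rcases lt_or_ge n 143 with h | h
  · have h3 := List.all_eq_true.1 orders_chk n (List.mem_range.2 h)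
    rw [Bool.or_eq_true, Nat.blt_eq] at h3
    have h4 := List.all_eq_true.1 (h3.resolve_left (by omega)) c hc
    simp only [Bool.or_eq_true, Bool.and_eq_true, Nat.beq_eq, List.any_eq_true, Bool.not_eq_true', Nat.ble_eq,
      Nat.blt_eq, lN, List.mem_filter] at h4
    rcases h4 with ((⟨p, hp, h5, h6⟩ | ⟨p, ⟨hp, hp'⟩, q, ⟨hq, hq'⟩, h5⟩) | ⟨⟨h5, h6⟩, h7⟩) | ⟨h5, h6⟩
    · have := hsm p (prims_prime p hp) (Nat.dvd_of_mod_eq_zero h5)
      omega
    · refine (key p (mem_T_of_lT hp) q (mem_T_of_lT hq) ?_ ?_ ?_).elim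
      · intro e
        rw [e, Nat.beq_refl] at h5
        exact Bool.noConfusion h5
      · intro e
        rw [Nat.mod_eq_zero_of_dvd e] at hp'
        exact Bool.noConfusion hp'
      · intro e
        rw [Nat.mod_eq_zero_of_dvd e] at hq'
        exact Bool.noConfusion hq'
    · exact Or.inl ⟨h5, h6, h7⟩
    · exact Or.inr ⟨h5, h6⟩
  · exfalso
    obtain ⟨r, s, hr, hs, a1, a2, a3⟩ := NT.two_primes (n := n) (by omega)
    have hd : c ∣ Nat.factorial 71 := by
      have := List.all_eq_true.1 orders_dvd c hc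
      rw [Nat.beq_eq] at this
      exact Nat.dvd_of_mod_eq_zero this
    have hle : ∀ p : ℕ, p.Prime → p ∣ c → p ≤ 71 := fun p hp hpc => (hp.dvd_factorial).1 (hpc.trans hd)
    refine key r (mem_T'.2 ⟨by omega, by omega, hr⟩) s (mem_T'.2 ⟨by omega, by omega, hs⟩) (by omega) ?_ ?_
    · intro e
      have := hle r hr e
      omega
    · intro e
      have := hle s hs e
      omega

/-- the weight of a product of different primes -/
theorem W_prod {P : Finset ℕ} (hP : ∀ p ∈ P, p.Prime) : W (∏ p ∈ P, p) = ∑ p ∈ P, p := by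
  unfold W
  rw [Nat.primeFactors_prod hP]
  refine Finset.sum_congr rfl fun p hp => ?_
  have h1 : (∏ q ∈ P, q).factorization p = 1 := by
    rw [Nat.factorization_prod fun q hq => (hP q hq).ne_zero, Finsupp.finsetSum_apply, Finset.sum_eq_single p]
    · exact (hP p hp).factorization_self
    · intro q hq hqp
      rw [(hP q hq).factorization, Finsupp.single_eq_of_ne (by first | exact hqp | exact hqp.symm)]
    · exact fun h => (h hp).elim
  rw [h1, pow_one]

/-- the degree of an alternating group with bounded weights -/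
theorem alt_bound {n m : ℕ} (hn : 29 ≤ n) (hB : Bnd n (alternatingGroup (Fin m))) : m ≤ n := by
  by_contra hc
  obtain ⟨P, hP, hs⟩ := NT.exists_rep (M := n + 1) (by omega) 2
  obtain ⟨σ, hσ⟩ := PermOrd.exists_order_prod (m := m) (P := P) (fun p hp => ⟨(hP p hp).1, (hP p hp).2.1⟩) (by omega)
  have h1 := hB σ
  rw [hσ, W_prod fun p hp => (hP p hp).1, hs] at h1
  omega

end Cfsg.Agent.H964.SpAlt
end

-- part: H964/SpAlt/Spor
section
/-!
# SPEC-ALT task 1779: the sporadic groups and the Tits group (helper964)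
-/

set_option autoImplicit false

namespace Cfsg.Agent.H964.SpAlt

open Cfsg Cfsg.Agent.H357.Sp

/-- the order of a sporadic group or of the Tits group is one of the 27 numbers -/
theorem card_mem_orders {S : Type*} [Group S] (h : IsSporadicGroup S ∨ Lie.IsoTits S) : Nat.card S ∈ orders := by
  rcases h with (h | h | h | h | h | h | h | h | h | h | h | h | h | h | h | h | h | h | h | h | h | h | h | h | h | h) | h
  · rw [NotCT.Orders.m11 h]; decide +kernel
  · rw [NotCT.Orders.m12 h]; decide +kernel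
  · rw [NotCT.Orders.m22 h]; decide +kernel
  · rw [NotCT.Orders.m23 h]; decide +kernel
  · rw [NotCT.Orders.m24 h]; decide +kernel
  · rw [NotCT.Orders.j1 h]; decide +kernel
  · rw [NotCT.Orders.j2 h]; decide +kernel
  · rw [NotCT.Orders.j3 h]; decide +kernel
  · rw [NotCT.Orders.j4 h]; decide +kernel
  · rw [NotCT.Orders.co1 h]; decide +kernel
  · rw [NotCT.Orders.co2 h]; decide +kernel
  · rw [NotCT.Orders.co3 h]; decide +kernel
  · rw [NotCT.Orders.mcl h]; decide +kernel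
  · rw [NotCT.Orders.hs h]; decide +kernel
  · rw [NotCT.Orders.suz h]; decide +kernel
  · rw [NotCT.Orders.he h]; decide +kernel
  · rw [NotCT.Orders.ru h]; decide +kernel
  · rw [NotCT.Orders.on h]; decide +kernel
  · rw [NotCT.Orders.ly h]; decide +kernel
  · rw [NotCT.Orders.fi22 h]; decide +kernel
  · rw [NotCT.Orders.fi23 h]; decide +kernel
  · rw [NotCT.Orders.fi24 h]; decide +kernel
  · rw [NotCT.Orders.hn h]; decide +kernel
  · rw [NotCT.Orders.th h]; decide +kernel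
  · rw [NotCT.Orders.b h]; decide +kernel
  · rw [NotCT.Orders.m h]; decide +kernel
  · rw [NotCT.Orders.tits h]; decide +kernel

end Cfsg.Agent.H964.SpAlt
end

private theorem dce_8743a32531a6 : _root_.True := by
  try have : _root_.True := by simp only [_root_.Cfsg.Agent.H964.SpAlt.prims.eq_1]
  try have : _root_.True := by simp only [_root_.Cfsg.Agent.H964.SpAlt.lN.eq_1]
  try have : _root_.True := by simp only [_root_.Cfsg.Agent.H964.SpAlt.good.eq_1]
  exact _root_.True.intro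
end

-- part: H546/Sp/Block
section
prune_inst 0x303075040ca200000000000042001e66b2000000004b8400cc0006000781460000000e208100001b80a080040034006813100170420000000a000000011d01a00000d6001240a008060019000004000000000000000000000000000000000000000000000
set_option linter.all false
open scoped Cfsg.Agent.FastGrp

/-!
# Construction of Frobenius-like pairs in alternating groups (TEAM SPEC-ALT, task C2)
-/

set_option autoImplicit false

namespace Cfsg.Agent.H546.Sp

open Cfsg.Agent.H357.Sp Equiv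

/-! ### Reduction to permutations of a finite type -/

theorem sign_of_fpf {α : Type*} [Fintype α] [DecidableEq α] (E : Subgroup (Perm α)) (g : Perm α)
    (hn : ∀ x ∈ E, g * x * g⁻¹ ∈ E) (hf : ∀ x ∈ E, g * x = x * g → x = 1) :
    ∀ x ∈ E, Perm.sign x = 1 := by
  let φ : E → E := fun y => ⟨(g * y * g⁻¹) * (y : Perm α)⁻¹, E.mul_mem (hn y y.2) (E.inv_mem y.2)⟩
  have hφ : Function.Bijective φ := by
    apply Finite.injective_iff_bijective.1
    intro x y hxy
    have h1 : (g * x * g⁻¹) * (x : Perm α)⁻¹ = (g * y * g⁻¹) * (y : Perm α)⁻¹ := congrArg Subtype.val hxy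
    have h2 : g * ((y : Perm α)⁻¹ * x) = ((y : Perm α)⁻¹ * x) * g := by
      have h3 := congrArg (fun z => g * (y : Perm α)⁻¹ * g⁻¹ * z * x * g) h1
      simp only [mul_assoc, inv_mul_cancel, mul_one, inv_mul_cancel_left] at h3
      simpa only [mul_assoc, _root_.mul_inv_cancel_left] using h3
    have h3 := hf _ (E.mul_mem (E.inv_mem y.2) x.2) h2
    apply Subtype.ext
    exact (inv_mul_eq_one.1 h3).symm
  intro x hx
  obtain ⟨y, hy⟩ := hφ.2 ⟨x, hx⟩
  have h1 : (g * y * g⁻¹) * (y : Perm α)⁻¹ = x := congrArg Subtype.val hy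
  rw [← h1]
  simp only [Perm.sign_mul, Perm.sign_inv]
  rcases Int.units_eq_one_or (Perm.sign g) with h2 | h2 <;>
    rcases Int.units_eq_one_or (Perm.sign (y : Perm α)) with h3 | h3 <;> simp only [h2, h3, _root_.mul_one, _root_.mul_neg, _root_.neg_neg]

theorem isBlock_of_perm {α : Type*} [Fintype α] [DecidableEq α] {c p s n : ℕ} (hcard : Fintype.card α = c)
    (hs : s.Prime) (E : Subgroup (Perm α)) (h : Perm α) (hE : ∃ x ∈ E, x ≠ 1) (hp : ∀ x ∈ E, x ^ p = 1)
    (hc : ∀ x ∈ E, ∀ y ∈ E, x * y = y * x) (h2 : h ^ s ^ (n + 1) = 1) (hn : ∀ x ∈ E, h * x * h⁻¹ ∈ E)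
    (hf : ∀ x ∈ E, h ^ s ^ n * x = x * h ^ s ^ n → x = 1) (hsign : Perm.sign h = 1) :
    IsBlock c p (s ^ (n + 1)) := by
  have hn' : ∀ i : ℕ, ∀ x ∈ E, h ^ i * x * (h ^ i)⁻¹ ∈ E := by
    intro i
    induction i with
    | zero => intro x hx; simpa using hx
    | succ i ih =>
      intro x hx
      have := hn _ (ih x hx)
      have e : h ^ (i + 1) * x * (h ^ (i + 1))⁻¹ = h * (h ^ i * x * (h ^ i)⁻¹) * h⁻¹ := by
        rw [pow_succ']; group
      rw [e]; exact this
  have hsE := sign_of_fpf E (h ^ s ^ n) (hn' _) hf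
  have h1 : h ^ s ^ n ≠ 1 := by
    intro h1
    obtain ⟨x, hx, hx1⟩ := hE
    exact hx1 (hf x hx (by rw [h1, one_mul, mul_one]))
  have ho : orderOf h = s ^ (n + 1) := by
    have : Fact s.Prime := ⟨hs⟩
    exact orderOf_eq_prime_pow h1 h2
  let e : α ≃ Fin c := (Fintype.equivFin α).trans (finCongr hcard)
  let φ : alternatingGroup (Fin c) →* Perm α := (e.symm.permCongrHom : _ →* _).comp (alternatingGroup (Fin c)).subtype
  have hφ : Function.Injective φ := e.symm.permCongrHom.injective.comp Subtype.val_injective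
  have hsurj : ∀ x : Perm α, Perm.sign x = 1 → ∃ y, φ y = x := by
    intro x hx
    refine ⟨⟨e.permCongr x, ?_⟩, ?_⟩
    · rw [Perm.mem_alternatingGroup, Perm.sign_permCongr, hx]
    · ext z
      simp only [φ, Equiv.permCongrHom, Equiv.permCongr_apply, _root_.Equiv.permCongrHom, _root_.MonoidHom.coe_comp, _root_.MonoidHom.coe_coe, _root_.MulEquiv.coe_mk, _root_.Subgroup.coe_subtype, _root_.Function.comp_apply, _root_.Equiv.permCongr_apply, _root_.Equiv.symm_symm, _root_.Equiv.symm_apply_apply]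
  obtain ⟨h', hh'⟩ := hsurj h hsign
  refine ⟨E.comap φ, h', ?_, ?_, ?_, ?_, ?_, ?_⟩
  · intro hb
    obtain ⟨x, hx, hx1⟩ := hE
    obtain ⟨y, rfl⟩ := hsurj x (hsE x hx)
    have : y ∈ E.comap φ := hx
    rw [hb, Subgroup.mem_bot] at this
    exact hx1 (by rw [this, map_one])
  · rintro ⟨x, hx⟩
    refine ⟨1, ?_⟩
    apply Subtype.ext
    apply hφ
    have := hp _ hx
    simpa only [_root_.pow_one, _root_.SubmonoidClass.mk_pow, _root_.map_pow, _root_.OneMemClass.coe_one, _root_.map_one] using this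
  · intro x hx y hy
    apply hφ
    rw [map_mul, map_mul, hc _ hx _ hy]
  · rw [← orderOf_injective φ hφ, hh', ho]
  · intro x hx
    change φ (h' * x * h'⁻¹) ∈ E
    rw [map_mul, map_mul, map_inv, hh']
    exact hn _ hx
  · intro i hi x hx hx1
    -- `x` commutes with `h' ^ i`
    have hcx : h ^ i * φ x = φ x * h ^ i := by
      have := congrArg φ hx1
      rw [map_mul, map_mul, map_inv, map_pow, hh'] at this
      exact mul_inv_eq_iff_eq_mul.1 this
    obtain ⟨a, ha, ha2⟩ := (Nat.dvd_prime_pow hs).1 (Nat.gcd_dvd_right i (s ^ (n + 1)))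
    have han : a ≤ n := by
      by_contra hlt
      have : a = n + 1 := by omega
      rw [this] at ha2
      exact hi (ha2 ▸ Nat.gcd_dvd_left i (s ^ (n + 1)))
    have hcm : Commute (φ x) (h ^ i) := hcx.symm
    have hg : Commute (φ x) (h ^ (s ^ a)) := by
      have h3 : (h ^ (s ^ a) : Perm α) = (h ^ i) ^ (Nat.gcdA i (s ^ (n + 1))) * (h ^ (s ^ (n + 1))) ^ (Nat.gcdB i (s ^ (n + 1))) := by
        rw [← zpow_natCast, ← zpow_natCast, ← zpow_natCast, ← zpow_mul, ← zpow_mul, ← zpow_add, ← Nat.gcd_eq_gcd_ab, ha2]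
      rw [h3, h2, one_zpow, mul_one]
      exact hcm.zpow_right _
    have hg2 : Commute (φ x) (h ^ (s ^ n)) := by
      have : h ^ s ^ n = (h ^ s ^ a) ^ (s ^ (n - a)) := by
        rw [← pow_mul, ← pow_add]
        congr 2; omega
      rw [this]
      exact hg.pow_right _
    apply hφ
    rw [map_one]
    exact hf _ hx hg2.eq.symm

/-! ### Inflation -/

/-- permutations preserving the fibres -/
def fib (ι X : Type*) : (ι → Perm X) →* Perm (ι × X) where
  toFun σ := Equiv.prodCongrRight σ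
  map_one' := by ext ⟨i, x⟩ <;> rfl
  map_mul' σ τ := by ext ⟨i, x⟩ <;> rfl

theorem fib_apply {ι X : Type*} (σ : ι → Perm X) (i : ι) (x : X) : fib ι X σ (i, x) = (i, σ i x) := rfl

theorem fib_injective (ι X : Type*) : Function.Injective (fib ι X) := by
  intro σ τ h
  funext i
  ext x
  have := congrArg (fun f : Perm (ι × X) => f (i, x)) h
  simp only [fib_apply, Prod.mk.injEq] at this
  exact this.2

/-- the inflated permutation -/
def infl {X : Type*} (m : ℕ) (h0 : Perm X) : Perm (Fin (m + 1) × X) :=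
  Equiv.prodCongrLeft (fun _ => finRotate (m + 1)) * fib (Fin (m + 1)) X (fun i => if i = Fin.last m then h0 else 1)

theorem infl_apply {X : Type*} (m : ℕ) (h0 : Perm X) (i : Fin (m + 1)) (x : X) :
    infl m h0 (i, x) = (finRotate (m + 1) i, (if i = Fin.last m then h0 else 1) x) := rfl

theorem infl_pow_zero {X : Type*} (m : ℕ) (h0 : Perm X) (x : X) : ∀ n (hn : n < m + 1),
    (infl m h0 ^ n) (0, x) = (⟨n, hn⟩, x)
  | 0, _ => rfl
  | n + 1, hn => by
    rw [pow_succ', Perm.mul_apply, infl_pow_zero m h0 x n (by omega), infl_apply, finRotate_of_lt (by omega)]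
    rw [if_neg]
    · rfl
    · intro h
      have := congrArg Fin.val h
      simp only [Fin.val_last] at this
      omega

theorem infl_pow {X : Type*} (m : ℕ) (h0 : Perm X) : infl m h0 ^ (m + 1) = fib _ X (fun _ => h0) := by
  have h1 : ∀ x, (infl m h0 ^ (m + 1)) (0, x) = (0, h0 x) := by
    intro x
    rw [pow_succ', Perm.mul_apply, infl_pow_zero m h0 x m (by omega), infl_apply]
    have : (⟨m, by omega⟩ : Fin (m + 1)) = Fin.last m := rfl
    rw [this, if_pos rfl, finRotate_last]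
  ext1 ⟨i, x⟩
  rw [fib_apply]
  have h2 : (i, x) = (infl m h0 ^ (i : ℕ)) (0, x) := by rw [infl_pow_zero m h0 x i i.2]
  rw [h2, ← Perm.mul_apply, ← pow_add, Nat.add_comm (m + 1) (i : ℕ), pow_add, Perm.mul_apply, h1,
    infl_pow_zero m h0 _ i i.2]

theorem infl_conj {X : Type*} (m : ℕ) (h0 : Perm X) (f : Fin (m + 1) → Perm X) :
    infl m h0 * fib _ X f * (infl m h0)⁻¹ = fib _ X (fun j =>
      (if (finRotate (m + 1)).symm j = Fin.last m then h0 else 1) * f ((finRotate (m + 1)).symm j) *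
        (if (finRotate (m + 1)).symm j = Fin.last m then h0 else 1)⁻¹) := by
  rw [mul_inv_eq_iff_eq_mul]
  ext1 ⟨i, x⟩
  rw [Perm.mul_apply, Perm.mul_apply, fib_apply, infl_apply, infl_apply, fib_apply]
  have key : ∀ (g : Perm X) (y : X), g⁻¹ (g y) = y := fun g y => g.symm_apply_apply y
  simp only [Equiv.symm_apply_apply, Perm.mul_apply, key]

theorem isBlock_infl {X : Type*} [Fintype X] [DecidableEq X] {c p s e j : ℕ} (hcard : Fintype.card X = c)
    (hs : s.Prime) (E : Subgroup (Perm X)) (h : Perm X) (hE : ∃ x ∈ E, x ≠ 1) (hp : ∀ x ∈ E, x ^ p = 1)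
    (hc : ∀ x ∈ E, ∀ y ∈ E, x * y = y * x) (h2 : h ^ s ^ (e + 1) = 1) (hn : ∀ x ∈ E, h * x * h⁻¹ ∈ E)
    (hf : ∀ x ∈ E, h ^ s ^ e * x = x * h ^ s ^ e → x = 1)
    (hsign : s ≠ 2 ∨ Perm.sign (infl (s ^ j - 1) h) = 1) :
    IsBlock (c * s ^ j) p (s ^ (e + 1 + j)) := by
  have hM : s ^ j - 1 + 1 = s ^ j := Nat.sub_add_cancel (Nat.pos_of_ne_zero (pow_ne_zero _ hs.ne_zero))
  have hpow : ∀ n : ℕ, infl (s ^ j - 1) h ^ s ^ (n + j) = fib _ X (fun _ => h ^ s ^ n) := by
    intro n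
    have : s ^ (n + j) = (s ^ j - 1 + 1) * s ^ n := by rw [hM, pow_add, mul_comm]
    rw [this, pow_mul, infl_pow, ← map_pow]
    rfl
  have he : e + 1 + j = (e + j) + 1 := by omega
  rw [he]
  refine isBlock_of_perm (α := Fin (s ^ j - 1 + 1) × X) ?_ hs ((Subgroup.pi Set.univ (fun _ => E)).map (fib _ X))
    (infl (s ^ j - 1) h) ?_ ?_ ?_ ?_ ?_ ?_ ?_
  · rw [Fintype.card_prod, Fintype.card_fin, hM, hcard, mul_comm]
  · obtain ⟨x, hx, hx1⟩ := hE
    refine ⟨fib _ X (fun _ => x), ⟨_, ?_, rfl⟩, ?_⟩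
    · exact fun i _ => hx
    · intro h1
      have h3 := fib_injective _ _ (h1.trans (map_one _).symm)
      exact hx1 (congrFun h3 0)
  · rintro _ ⟨f, hf', rfl⟩
    rw [← map_pow]
    have : f ^ p = 1 := by
      funext i
      exact hp _ (hf' i (Set.mem_univ i))
    rw [this, map_one]
  · rintro _ ⟨f, hf', rfl⟩ _ ⟨g, hg', rfl⟩
    rw [← map_mul, ← map_mul]
    congr 1
    funext i
    exact hc _ (hf' i (Set.mem_univ i)) _ (hg' i (Set.mem_univ i))
  · have := hpow (e + 1)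
    rw [he] at this
    rw [this, h2]
    exact map_one _
  · rintro _ ⟨f, hf', rfl⟩
    rw [infl_conj]
    refine ⟨_, ?_, rfl⟩
    intro i _
    simp only
    split_ifs
    · exact hn _ (hf' _ (Set.mem_univ _))
    · simpa using hf' _ (Set.mem_univ _)
  · rintro _ ⟨f, hf', rfl⟩ hcm
    rw [hpow, ← map_mul, ← map_mul] at hcm
    have h3 := fib_injective _ _ hcm
    have : f = 1 := by
      funext i
      exact hf _ (hf' i (Set.mem_univ i)) (congrFun h3 i)
    rw [this, map_one]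
  · rcases hsign with h3 | h3
    · have h4 : Odd (s ^ (e + 1 + j)) := (hs.odd_of_ne_two h3).pow
      have h5 : infl (s ^ j - 1) h ^ s ^ (e + 1 + j) = 1 := by
        rw [hpow, h2]; exact map_one _
      have h6 := congrArg Perm.sign h5
      rw [map_pow, Perm.sign_one] at h6
      rcases Int.units_eq_one_or (Perm.sign (infl (s ^ j - 1) h)) with h7 | h7
      · exact h7
      · rw [h7, h4.neg_one_pow] at h6
        exact absurd h6 (by decide)
    · exact h3

/-! ### Pairs -/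

/-! ### Affine blocks -/

section affine

variable {F : Type*} [Field F]

/-- translations -/
def tr (F : Type*) [Field F] : Multiplicative F →* Perm F where
  toFun v := Equiv.addRight v.toAdd
  map_one' := by ext1 x; simp
  map_mul' v w := by
    ext1 x
    simp only [Perm.mul_apply, toAdd_mul, Equiv.coe_addRight]
    rw [add_assoc, add_comm w.toAdd]

theorem tr_apply (v : Multiplicative F) (x : F) : tr F v x = x + v.toAdd := rfl

theorem tr_injective : Function.Injective (tr F) := by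
  intro v w h
  have := congrArg (fun f : Perm F => f 0) h
  simpa [tr_apply] using this

/-- multiplications -/
def mu (F : Type*) [Field F] : Fˣ →* Perm F := MulAction.toPermHom Fˣ F

theorem mu_apply (u : Fˣ) (x : F) : mu F u x = u * x := rfl

theorem mu_tr (u : Fˣ) (v : Multiplicative F) : mu F u * tr F v * (mu F u)⁻¹ = tr F (Multiplicative.ofAdd (u * v.toAdd)) := by
  rw [mul_inv_eq_iff_eq_mul]
  ext1 x
  simp only [Perm.mul_apply, mu_apply, tr_apply, toAdd_ofAdd]
  ring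

theorem tr_of_comm {u : Fˣ} (hu : u ≠ 1) {v : Multiplicative F} (h : mu F u * tr F v = tr F v * mu F u) : v = 1 := by
  have h1 := congrArg (fun f : Perm F => f 0) h
  simp only [Perm.mul_apply, mu_apply, tr_apply, zero_add, mul_zero] at h1
  have h2 : ((u : F) - 1) * v.toAdd = 0 := by rw [sub_mul, h1]; ring
  rcases mul_eq_zero.1 h2 with h3 | h3
  · exact absurd (Units.ext (by simpa [sub_eq_zero] using h3)) hu
  · exact h3

theorem sign_mu_gen [Fintype F] [DecidableEq F] {g : Fˣ} (hg : ∀ x, x ∈ Subgroup.zpowers g) (hq : Odd (Fintype.card F)) :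
    Perm.sign (mu F g) = -1 := by
  have hq1 : 1 < Fintype.card F := Fintype.one_lt_card
  have hgo : orderOf g = Fintype.card F - 1 := by
    rw [orderOf_eq_card_of_forall_mem_zpowers hg, Nat.card_eq_fintype_card, Fintype.card_units]
  have hg1 : g ≠ 1 := by
    intro h
    rw [h, orderOf_one] at hgo
    obtain ⟨k, hk⟩ := hq
    omega
  have hfix : ∀ y : F, mu F g y ≠ y ↔ y ≠ 0 := by
    intro y
    rw [mu_apply, not_iff_not]
    constructor
    · intro h
      have : ((g : F) - 1) * y = 0 := by rw [sub_mul, h]; ring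
      rcases mul_eq_zero.1 this with h3 | h3
      · exact absurd (Units.ext (by simpa [sub_eq_zero] using h3)) hg1
      · exact h3
    · rintro rfl; simp
  have hcyc : (mu F g).IsCycle := by
    refine ⟨1, (hfix 1).2 one_ne_zero, ?_⟩
    intro y hy
    obtain ⟨k, hk⟩ := hg (Units.mk0 y ((hfix y).1 hy))
    refine ⟨k, ?_⟩
    rw [← map_zpow, mu_apply]
    simp only at hk
    rw [hk]; simp
  have hsupp : (mu F g).support.card = Fintype.card F - 1 := by
    have : (mu F g).support = Finset.univ.erase 0 := by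
      ext y
      rw [Perm.mem_support, hfix]
      simp
    rw [this, Finset.card_erase_of_mem (Finset.mem_univ _), Finset.card_univ]
  rw [hcyc.sign, hsupp]
  have : Even (Fintype.card F - 1) := by
    obtain ⟨k, hk⟩ := hq
    exact ⟨k, by omega⟩
  rw [this.neg_one_pow]

/-- a unit of prime power order -/
theorem exists_unit [Fintype F] [DecidableEq F] {s e : ℕ} (h : s ^ e ∣ Fintype.card F - 1) :
    ∃ u : Fˣ, orderOf u = s ^ e ∧ (Odd (Fintype.card F) → Odd ((Fintype.card F - 1) / s ^ e) → Perm.sign (mu F u) = -1) := by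
  obtain ⟨g, hg⟩ := IsCyclic.exists_generator (α := Fˣ)
  have hq1 : 1 < Fintype.card F := Fintype.one_lt_card
  have hgo : orderOf g = Fintype.card F - 1 := by
    rw [orderOf_eq_card_of_forall_mem_zpowers hg, Nat.card_eq_fintype_card, Fintype.card_units]
  obtain ⟨n, hn⟩ := h
  have hpos : 0 < s ^ e * n := by omega
  have hs0 : 0 < s ^ e := Nat.pos_of_mul_pos_right hpos |> fun _ => by
    rcases Nat.eq_zero_or_pos (s ^ e) with h0 | h0
    · rw [h0, zero_mul] at hpos; omega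
    · exact h0
  have hn0 : n ≠ 0 := by rintro rfl; omega
  refine ⟨g ^ n, ?_, ?_⟩
  · rw [orderOf_pow_of_dvd hn0 (by rw [hgo, hn]; exact Dvd.intro_left _ rfl), hgo, hn,
      Nat.mul_div_cancel _ (Nat.pos_of_ne_zero hn0)]
  · intro hq hodd
    rw [hn, Nat.mul_div_cancel_left _ hs0] at hodd
    rw [map_pow, map_pow, sign_mu_gen hg hq, hodd.neg_one_pow]

end affine

theorem sign_infl {X : Type*} [Fintype X] [DecidableEq X] (m : ℕ) (h0 : Perm X) :
    Perm.sign (infl m h0) = ((-1) ^ m) ^ Fintype.card X * Perm.sign h0 := by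
  unfold infl
  rw [Perm.sign_mul, Perm.sign_prodCongrLeft]
  have : fib (Fin (m + 1)) X (fun i => if i = Fin.last m then h0 else 1) =
      Equiv.prodCongrRight (fun i => if i = Fin.last m then h0 else 1) := rfl
  rw [this, Perm.sign_prodCongrRight]
  simp only [sign_finRotate, Finset.prod_const, Finset.card_univ]
  congr 1
  rw [Finset.prod_eq_single (Fin.last m)]
  · rw [if_pos rfl]
  · intro b _ hb
    rw [if_neg hb, Perm.sign_one]
  · intro hb
    exact absurd (Finset.mem_univ _) hb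

theorem isBlock_affine' {p a s e j : ℕ} (hp : p.Prime) (ha : 1 ≤ a) (hs : s.Prime) (he : 1 ≤ e)
    (h : s ^ e ∣ p ^ a - 1) (h2 : s ≠ 2 ∨ (p ≠ 2 ∧ 1 ≤ j ∧ ¬ 2 ^ (e + 1) ∣ p ^ a - 1)) :
    IsBlock (p ^ a * s ^ j) p (s ^ (e + j)) := by
  obtain ⟨e, rfl⟩ : ∃ i, e = i + 1 := ⟨e - 1, by omega⟩
  have : Fact p.Prime := ⟨hp⟩
  let F := GaloisField p a
  have : Finite F := inferInstanceAs (Finite (GaloisField p a))
  let _ : Fintype F := Fintype.ofFinite F
  let _ : DecidableEq F := Classical.decEq F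
  have hcard : Fintype.card F = p ^ a := by
    rw [← Nat.card_eq_fintype_card]; exact GaloisField.card p a (by omega)
  obtain ⟨u, hu, hu2⟩ := exists_unit (F := F) (s := s) (e := e + 1) (by rw [hcard]; exact h)
  have hup : u ^ s ^ e ≠ 1 := by
    intro h1
    have h3 := orderOf_dvd_of_pow_eq_one h1
    rw [hu] at h3
    have h4 := (Nat.pow_dvd_pow_iff_le_right hs.one_lt).1 h3
    omega
  refine isBlock_infl (c := p ^ a) (p := p) (s := s) (e := e) (j := j) hcard hs ((⊤ : Subgroup _).map (tr F)) (mu F u)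
    ?_ ?_ ?_ ?_ ?_ ?_ ?_
  · refine ⟨tr F (Multiplicative.ofAdd 1), ⟨_, Subgroup.mem_top _, rfl⟩, ?_⟩
    intro h1
    have h3 := tr_injective (h1.trans (map_one _).symm)
    exact one_ne_zero (α := F) h3
  · rintro _ ⟨v, -, rfl⟩
    rw [← map_pow]
    have : v ^ p = 1 := by
      apply Multiplicative.toAdd.injective
      rw [toAdd_pow, toAdd_one, nsmul_eq_mul, CharP.cast_eq_zero F p, zero_mul]
    rw [this, map_one]
  · rintro _ ⟨v, -, rfl⟩ _ ⟨w, -, rfl⟩
    rw [← map_mul, ← map_mul, mul_comm]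
  · rw [← map_pow, ← hu, pow_orderOf_eq_one, map_one]
  · rintro _ ⟨v, -, rfl⟩
    rw [mu_tr]
    exact ⟨_, Subgroup.mem_top _, rfl⟩
  · rintro _ ⟨v, -, rfl⟩ hcm
    rw [← map_pow] at hcm
    rw [tr_of_comm hup hcm, map_one]
  · rcases h2 with h2 | ⟨h2, hj, h3⟩
    · exact Or.inl h2
    · by_cases hs2 : s = 2
      · right
        subst hs2
        have hodd : Odd (Fintype.card F) := by rw [hcard]; exact (hp.odd_of_ne_two h2).pow
        have hodd2 : Odd ((Fintype.card F - 1) / 2 ^ (e + 1)) := by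
          rw [hcard]
          obtain ⟨n, hn⟩ := h
          rw [hn, Nat.mul_div_cancel_left _ (by positivity)]
          by_contra hev
          rw [Nat.not_odd_iff_even] at hev
          obtain ⟨k, hk⟩ := hev
          apply h3
          rw [hn, hk]
          exact ⟨k, by ring⟩
        rw [sign_infl, hu2 hodd hodd2]
        have hm : Odd (2 ^ j - 1) := by
          obtain ⟨j, rfl⟩ : ∃ i, j = i + 1 := ⟨j - 1, by omega⟩
          refine ⟨2 ^ j - 1, ?_⟩
          have : 0 < 2 ^ j := by positivity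
          rw [pow_succ]; omega
        rw [hm.neg_one_pow, hodd.neg_one_pow]
        decide
      · exact Or.inl hs2

theorem isBlock_affine {p a s e j : ℕ} (hp : p.Prime) (ha : 1 ≤ a) (hs : s.Prime) (h2 : s ≠ 2) (he : 1 ≤ e)
    (h : s ^ e ∣ p ^ a - 1) : IsBlock (p ^ a * s ^ j) p (s ^ (e + j)) :=
  isBlock_affine' hp ha hs he h (Or.inl h2)

theorem isBlock_two {p a e j : ℕ} (hp : p.Prime) (hp2 : p ≠ 2) (ha : 1 ≤ a) (he : 1 ≤ e) (hj : 1 ≤ j)
    (h : 2 ^ e ∣ p ^ a - 1) (h' : ¬ 2 ^ (e + 1) ∣ p ^ a - 1) : IsBlock (p ^ a * 2 ^ j) p (2 ^ (e + j)) :=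
  isBlock_affine' hp ha Nat.prime_two he h (Or.inr ⟨hp2, hj, h'⟩)

theorem isBlock_two' {p a e : ℕ} (hp : p.Prime) (ha : 1 ≤ a) (he : 1 ≤ e)
    (h : 2 ^ e ∣ p ^ a - 1) : IsBlock (p ^ a + 2) p (2 ^ e) := by
  obtain ⟨e, rfl⟩ : ∃ i, e = i + 1 := ⟨e - 1, by omega⟩
  have : Fact p.Prime := ⟨hp⟩
  let F := GaloisField p a
  have : Finite F := inferInstanceAs (Finite (GaloisField p a))
  let _ : Fintype F := Fintype.ofFinite F
  let _ : DecidableEq F := Classical.decEq F
  have hcard : Fintype.card F = p ^ a := by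
    rw [← Nat.card_eq_fintype_card]; exact GaloisField.card p a (by omega)
  obtain ⟨u, hu, -⟩ := exists_unit (F := F) (s := 2) (e := e + 1) (by rw [hcard]; exact h)
  have hup : u ^ 2 ^ e ≠ 1 := by
    intro h1
    have h3 := orderOf_dvd_of_pow_eq_one h1
    rw [hu] at h3
    have h4 := (Nat.pow_dvd_pow_iff_le_right (by norm_num)).1 h3
    omega
  let J : Perm F × Perm Bool →* Perm (F ⊕ Bool) := Perm.sumCongrHom F Bool
  have hJ : Function.Injective J := Perm.sumCongrHom_injective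
  have hsJ : ∀ x y, Perm.sign (J (x, y)) = Perm.sign x * Perm.sign y := fun x y => Perm.sign_sumCongr x y
  obtain ⟨τ, hτ, hτ2⟩ : ∃ τ : Perm Bool, τ ^ 2 = 1 ∧ Perm.sign (mu F u) * Perm.sign τ = 1 := by
    rcases Int.units_eq_one_or (Perm.sign (mu F u)) with h3 | h3
    · exact ⟨1, by simp, by rw [h3]; simp⟩
    · refine ⟨Equiv.swap true false, by rw [sq, Equiv.swap_mul_self], ?_⟩
      rw [h3, Perm.sign_swap (by decide)]; decide
  refine isBlock_of_perm (α := F ⊕ Bool) (p := p) (s := 2) (n := e) ?_ Nat.prime_two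
    (((⊤ : Subgroup _).map (tr F)).map (J.comp (MonoidHom.inl _ _))) (J (mu F u, τ)) ?_ ?_ ?_ ?_ ?_ ?_ ?_
  · rw [Fintype.card_sum, hcard, Fintype.card_bool]
  · refine ⟨J (tr F (Multiplicative.ofAdd 1), 1), ⟨_, ⟨_, Subgroup.mem_top _, rfl⟩, rfl⟩, ?_⟩
    intro h1
    have h3 := hJ (h1.trans (map_one _).symm)
    have h4 := tr_injective ((congrArg Prod.fst h3).trans (map_one _).symm)
    exact one_ne_zero (α := F) h4
  · rintro _ ⟨_, ⟨v, -, rfl⟩, rfl⟩
    rw [← map_pow, ← map_pow]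
    have : v ^ p = 1 := by
      apply Multiplicative.toAdd.injective
      rw [toAdd_pow, toAdd_one, nsmul_eq_mul, CharP.cast_eq_zero F p, zero_mul]
    rw [this, map_one, map_one]
  · rintro _ ⟨_, ⟨v, -, rfl⟩, rfl⟩ _ ⟨_, ⟨w, -, rfl⟩, rfl⟩
    rw [← map_mul, ← map_mul, ← map_mul, ← map_mul, mul_comm]
  · rw [← map_pow, Prod.pow_mk, ← map_pow, ← hu, pow_orderOf_eq_one, map_one]
    have : τ ^ orderOf u = 1 := by rw [hu, pow_succ', pow_mul, hτ, one_pow]
    rw [this]
    exact map_one J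
  · rintro _ ⟨_, ⟨v, -, rfl⟩, rfl⟩
    refine ⟨tr F (Multiplicative.ofAdd (u * v.toAdd)), ⟨_, Subgroup.mem_top _, rfl⟩, ?_⟩
    change J (tr F _, 1) = J (mu F u, τ) * J (tr F v, 1) * (J (mu F u, τ))⁻¹
    rw [← map_inv, ← map_mul, ← map_mul, ← mu_tr]
    simp
  · rintro _ ⟨_, ⟨v, -, rfl⟩, rfl⟩ hcm
    change J (tr F v, 1) = 1
    have h3 : J (mu F u, τ) ^ 2 ^ e * J (tr F v, 1) = J (tr F v, 1) * J (mu F u, τ) ^ 2 ^ e := hcm
    rw [← map_pow, ← map_mul, ← map_mul] at h3
    have h4 := congrArg Prod.fst (hJ h3)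
    simp only [Prod.pow_mk, Prod.mk_mul_mk] at h4
    rw [← map_pow] at h4
    rw [tr_of_comm hup h4, map_one]
    exact map_one J
  · rw [hsJ, hτ2]

end Cfsg.Agent.H546.Sp

private theorem dce_f7ab4cce1238 : _root_.True := by
  try have : _root_.True := by simp only [_root_.Equiv.permCongrHom.eq_1]
  exact _root_.True.intro
end

-- part: H546/Sp/Norm
section
set_option linter.all false
open scoped Cfsg.Agent.FastGrp

/-!
# Norms of elements in alternating groups: the recursion (TEAM SPEC-ALT, task C1)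
-/

set_option autoImplicit false

namespace Cfsg.Agent.H546.Sp

open Cfsg.Agent.H357.Sp Finset

/-! ### The norm lemma -/

theorem smul_ne_zero' {V : Type*} [AddCommGroup V] {t k : ℕ} (ht : t.Prime) (hV : ∀ v : V, t • v = 0)
    (hk : ¬ t ∣ k) {v : V} (hv : v ≠ 0) : k • v ≠ 0 := by
  intro h
  have h1 : addOrderOf v ∣ t := addOrderOf_dvd_of_nsmul_eq_zero (hV v)
  have h2 : addOrderOf v ∣ k := addOrderOf_dvd_of_nsmul_eq_zero h
  rcases (Nat.dvd_prime ht).1 h1 with h3 | h3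
  · exact hv (AddMonoid.addOrderOf_eq_one_iff.1 h3)
  · exact hk (h3 ▸ h2)

theorem rho_mul {A V : Type*} [Group A] [AddCommGroup V] (ρ : A →* AddMonoid.End V) (a b : A) (v : V) :
    ρ (a * b) v = ρ a (ρ b v) := by
  rw [map_mul]; rfl

theorem nrm_ne_zero {A V : Type*} [Group A] [Finite A] [AddCommGroup V] [Finite V] {t p k : ℕ} (ht : t.Prime)
    (hp : p.Prime) (htp : t ≠ p) (hV : ∀ v : V, t • v = 0) (ρ : A →* AddMonoid.End V) (E : Subgroup A) (h : A)
    (hE : IsPGroup p ↥E) (hk : orderOf h = k) (hn : ∀ x ∈ E, h * x * h⁻¹ ∈ E)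
    (hf : ∀ i : ℕ, ¬ k ∣ i → ∀ x ∈ E, h ^ i * x * (h ^ i)⁻¹ = x → x = 1)
    (hm : ∃ x ∈ E, ∃ v, ρ x v ≠ v) : ∃ v, nrm ρ h v ≠ 0 := by
  classical
  by_contra hcon
  push Not at hcon
  have := Fintype.ofFinite ↥E
  have hn' : ∀ i : ℕ, ∀ x ∈ E, h ^ i * x * (h ^ i)⁻¹ ∈ E := by
    intro i
    induction i with
    | zero => intro x hx; simpa using hx
    | succ i ih =>
      intro x hx
      have := hn _ (ih x hx)
      have e : h ^ (i + 1) * x * (h ^ (i + 1))⁻¹ = h * (h ^ i * x * (h ^ i)⁻¹) * h⁻¹ := by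
        rw [pow_succ']; group
      rw [e]; exact this
  have hk0 : 0 < k := hk ▸ orderOf_pos h
  -- the sum over E
  have key : ∀ i : ℕ, ¬ k ∣ i → ∀ v : V, ∑ x : E, ρ (x * h ^ i * (x : A)⁻¹) v = ∑ x : E, ρ (x : A) (ρ (h ^ i) v) := by
    intro i hi v
    have hmem : ∀ x : E, (x : A) * (h ^ i * (x : A)⁻¹ * (h ^ i)⁻¹) ∈ E := fun x =>
      E.mul_mem x.2 (hn' i _ (E.inv_mem x.2))
    let φ : E → E := fun x => ⟨(x : A) * (h ^ i * (x : A)⁻¹ * (h ^ i)⁻¹), hmem x⟩
    have hφ : Function.Bijective φ := by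
      apply Finite.injective_iff_bijective.1
      intro x y hxy
      have h1 : (x : A) * (h ^ i * (x : A)⁻¹ * (h ^ i)⁻¹) = (y : A) * (h ^ i * (y : A)⁻¹ * (h ^ i)⁻¹) :=
        congrArg Subtype.val hxy
      have h2 : h ^ i * ((y : A)⁻¹ * x) * (h ^ i)⁻¹ = (y : A)⁻¹ * x := by
        have h3 : (x : A) * h ^ i * (x : A)⁻¹ = (y : A) * h ^ i * (y : A)⁻¹ := by
          have := congrArg (fun z => z * h ^ i) h1
          simpa only [mul_assoc, _root_.inv_mul_cancel, _root_.mul_one] using this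
        have h4 : (y : A)⁻¹ * x * h ^ i = h ^ i * ((y : A)⁻¹ * x) := by
          have := congrArg (fun z => (y : A)⁻¹ * z * x) h3
          simpa only [mul_assoc, _root_.inv_mul_cancel, _root_.mul_one, _root_.inv_mul_cancel_left] using this
        rw [← h4]; group
      have h3 := hf i hi _ (E.mul_mem (E.inv_mem y.2) x.2) h2
      apply Subtype.ext
      exact (inv_mul_eq_one.1 h3).symm
    rw [← Fintype.sum_equiv (Equiv.ofBijective φ hφ) (fun x : E => ρ ((φ x : E) : A) (ρ (h ^ i) v))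
      (fun x : E => ρ (x : A) (ρ (h ^ i) v)) (fun x => rfl)]
    apply Finset.sum_congr rfl
    intro x _
    rw [← rho_mul]
    congr 2
    simp only [φ]
    group
  have hS : ∀ v : V, (Fintype.card E) • v = ∑ x : E, ρ (x : A) v := by
    intro v
    have h0 : ∑ i ∈ range k, ∑ x : E, ρ (x * h ^ i * (x : A)⁻¹) v = 0 := by
      rw [Finset.sum_comm]
      apply Finset.sum_eq_zero
      intro x _
      have h1 := hcon (ρ (x : A)⁻¹ v)
      rw [nrm, hk] at h1
      have h2 : ρ (x : A) (∑ i ∈ range k, ρ (h ^ i) (ρ (x : A)⁻¹ v)) = 0 := by rw [h1, map_zero]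
      rw [map_sum] at h2
      rw [← h2]
      apply Finset.sum_congr rfl
      intro i _
      rw [← rho_mul, ← rho_mul, mul_assoc]
    have h1 : ∑ i ∈ range k, ∑ x : E, ρ (x : A) (ρ (h ^ i) v) = 0 := by
      rw [Finset.sum_comm]
      apply Finset.sum_eq_zero
      intro x _
      rw [← map_sum]
      have := hcon v
      rw [nrm, hk] at this
      rw [this, map_zero]
    obtain ⟨k', rfl⟩ : ∃ k', k = k' + 1 := ⟨k - 1, by omega⟩
    rw [Finset.sum_range_succ'] at h0 h1
    have h2 : ∑ i ∈ range k', ∑ x : E, ρ (x * h ^ (i + 1) * (x : A)⁻¹) v =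
        ∑ i ∈ range k', ∑ x : E, ρ (x : A) (ρ (h ^ (i + 1)) v) := by
      apply Finset.sum_congr rfl
      intro i hi
      apply key
      intro hd
      have := Nat.le_of_dvd (by omega) hd
      have := Finset.mem_range.1 hi
      omega
    rw [h2] at h0
    have h3 := h0.trans h1.symm
    have h4 := add_left_cancel h3
    simp only [pow_zero, mul_one, mul_inv_cancel, map_one, AddMonoid.End.one_apply, Finset.sum_const,
      Finset.card_univ] at h4
    exact h4
  obtain ⟨y, hy, v, hv⟩ := hm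
  have h1 : ρ y ((Fintype.card E) • v) = (Fintype.card E) • v := by
    rw [hS v, map_sum]
    refine Fintype.sum_equiv (Equiv.mulLeft (⟨y, hy⟩ : E)) _ _ (fun x => ?_)
    rw [← rho_mul]
    rfl
  have h2 : (Fintype.card E) • (ρ y v - v) = 0 := by
    rw [nsmul_sub, ← map_nsmul, h1, sub_self]
  have h3 : ¬ t ∣ Fintype.card E := by
    intro hd
    have : Fact p.Prime := ⟨hp⟩
    obtain ⟨n, hn⟩ := (IsPGroup.iff_card (p := p)).1 hE
    rw [Nat.card_eq_fintype_card] at hn
    rw [hn] at hd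
    exact htp ((Nat.prime_dvd_prime_iff_eq ht hp).1 (ht.dvd_of_dvd_pow hd))
  exact smul_ne_zero' ht hV h3 (sub_ne_zero.2 hv) h2


/-! ### The function `W` -/

theorem W_prime_pow {p m : ℕ} (hp : p.Prime) (hm : 1 ≤ m) : W (p ^ m) = p ^ m := by
  unfold W
  rw [Nat.primeFactors_prime_pow (by omega) hp, Finset.sum_singleton, hp.factorization_pow]
  simp

theorem W_prime {p : ℕ} (hp : p.Prime) : W p = p := by
  have := W_prime_pow hp (le_refl 1)
  rwa [pow_one] at this

theorem W_mul_of_coprime {a b : ℕ} (hab : a.Coprime b) : W (a * b) = W a + W b := by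
  unfold W
  rw [hab.primeFactors_mul, Finset.sum_union hab.disjoint_primeFactors]
  congr 1
  · apply Finset.sum_congr rfl
    intro p hp
    rw [Nat.factorization_mul_of_coprime hab, Finsupp.add_apply]
    have : ¬ p ∣ b := fun hb => by
      have h1 := Nat.prime_of_mem_primeFactors hp
      exact h1.one_lt.ne' (Nat.eq_one_of_dvd_coprimes hab (Nat.dvd_of_mem_primeFactors hp) hb)
    rw [Nat.factorization_eq_zero_of_not_dvd this, add_zero]
  · apply Finset.sum_congr rfl
    intro p hp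
    rw [Nat.factorization_mul_of_coprime hab, Finsupp.add_apply]
    have : ¬ p ∣ a := fun ha => by
      have h1 := Nat.prime_of_mem_primeFactors hp
      exact h1.one_lt.ne' (Nat.eq_one_of_dvd_coprimes hab ha (Nat.dvd_of_mem_primeFactors hp))
    rw [Nat.factorization_eq_zero_of_not_dvd this, zero_add]

/-! ### Norms of products -/

theorem sum_mod {M : Type*} [AddCommMonoid M] {m n : ℕ} (hm : 0 < m) (hn : 0 < n) (hmn : m.Coprime n)
    (F : ℕ → ℕ → M) (hF : ∀ i j, F (i % m) (j % n) = F i j) :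
    ∑ l ∈ range (m * n), F l l = ∑ i ∈ range m, ∑ j ∈ range n, F i j := by
  rw [← Finset.sum_product']
  refine Finset.sum_bij (fun l _ => (l % m, l % n)) ?_ ?_ ?_ ?_
  · intro l _
    simp only [Finset.mem_product, Finset.mem_range]
    exact ⟨Nat.mod_lt _ hm, Nat.mod_lt _ hn⟩
  · intro a ha b hb h
    simp only [Prod.mk.injEq] at h
    have h1 : a ≡ b [MOD m * n] := (Nat.modEq_and_modEq_iff_modEq_mul hmn).1 ⟨h.1, h.2⟩
    have h2 := Nat.mod_eq_of_lt (Finset.mem_range.1 ha)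
    have h3 := Nat.mod_eq_of_lt (Finset.mem_range.1 hb)
    rw [Nat.ModEq, h2, h3] at h1
    exact h1
  · rintro ⟨i, j⟩ hij
    simp only [Finset.mem_product, Finset.mem_range] at hij
    obtain ⟨l, hl1, hl2⟩ := Nat.chineseRemainder hmn i j
    refine ⟨l % (m * n), Finset.mem_range.2 (Nat.mod_lt _ (Nat.mul_pos hm hn)), ?_⟩
    simp only [Prod.mk.injEq]
    rw [Nat.mod_mod_of_dvd _ (Dvd.intro _ rfl), Nat.mod_mod_of_dvd _ (Dvd.intro_left _ rfl)]
    rw [Nat.ModEq, Nat.mod_eq_of_lt hij.1] at hl1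
    rw [Nat.ModEq, Nat.mod_eq_of_lt hij.2] at hl2
    exact ⟨hl1, hl2⟩
  · intro l _
    exact (hF l l).symm

/-- the norm as an additive map -/
noncomputable def nrmHom {A V : Type*} [Group A] [AddCommGroup V] (ρ : A →* AddMonoid.End V) (a : A) : V →+ V where
  toFun := nrm ρ a
  map_zero' := by simp [nrm]
  map_add' x y := by simp only [nrm, Finset.sum_add_distrib, _root_.map_pow, _root_.AddMonoid.End.coe_pow, _root_.iterate_map_add]

theorem nrmHom_apply {A V : Type*} [Group A] [AddCommGroup V] (ρ : A →* AddMonoid.End V) (a : A) (v : V) :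
    nrmHom ρ a v = nrm ρ a v := rfl

theorem nrm_mul {A V : Type*} [Group A] [Finite A] [AddCommGroup V] (ρ : A →* AddMonoid.End V) {a b : A}
    (hab : a * b = b * a) (hc : (orderOf a).Coprime (orderOf b)) (v : V) :
    nrm ρ (a * b) v = nrm ρ b (nrm ρ a v) := by
  have hcm : Commute a b := hab
  have ho : orderOf (a * b) = orderOf b * orderOf a := by
    rw [hcm.orderOf_mul_eq_mul_orderOf_of_coprime hc, mul_comm]
  unfold nrm
  rw [ho]
  have h1 : ∀ l, ρ ((a * b) ^ l) v = (fun j i => ρ (b ^ j) (ρ (a ^ i) v)) l l := by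
    intro l
    simp only
    rw [← rho_mul, hcm.mul_pow, (hcm.pow_pow l l).eq]
  simp only [h1]
  rw [sum_mod (orderOf_pos b) (orderOf_pos a) hc.symm (fun j i => ρ (b ^ j) (ρ (a ^ i) v))]
  · apply Finset.sum_congr rfl
    intro j _
    rw [map_sum]
  · intro i j
    simp only [pow_mod_orderOf]

theorem nrm_comm {A V : Type*} [Group A] [AddCommGroup V] (ρ : A →* AddMonoid.End V) {a b : A}
    (hab : a * b = b * a) (v : V) : ρ b (nrm ρ a v) = nrm ρ a (ρ b v) := by
  unfold nrm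
  rw [map_sum]
  apply Finset.sum_congr rfl
  intro i _
  rw [← rho_mul, ← rho_mul]
  have hcm : Commute a b := hab
  rw [(hcm.pow_left i).eq]

/-! ### `Alt c × Alt (R - c)` in `Alt R` -/

theorem exists_alt_prod {c R : ℕ} (hc : c ≤ R) :
    ∃ (i1 : alternatingGroup (Fin c) →* alternatingGroup (Fin R))
      (i2 : alternatingGroup (Fin (R - c)) →* alternatingGroup (Fin R)),
      Function.Injective i1 ∧ Function.Injective i2 ∧ ∀ a b, i1 a * i2 b = i2 b * i1 a := by
  let e : Fin c ⊕ Fin (R - c) ≃ Fin R := finSumFinEquiv.trans (finCongr (by omega))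
  let F : Equiv.Perm (Fin c) × Equiv.Perm (Fin (R - c)) →* Equiv.Perm (Fin R) :=
    (e.permCongrHom : _ →* _).comp (Equiv.Perm.sumCongrHom _ _)
  have hF : Function.Injective F := e.permCongrHom.injective.comp Equiv.Perm.sumCongrHom_injective
  have hs : ∀ a b, Equiv.Perm.sign (F (a, b)) = Equiv.Perm.sign a * Equiv.Perm.sign b := by
    intro a b
    have : F (a, b) = e.permCongr (Equiv.Perm.sumCongr a b) := rfl
    rw [this, Equiv.Perm.sign_permCongr, Equiv.Perm.sign_sumCongr]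
  let j1 : alternatingGroup (Fin c) →* alternatingGroup (Fin R) :=
    ((F.comp (MonoidHom.inl _ _)).comp (alternatingGroup (Fin c)).subtype).codRestrict _ (by
      intro x
      rw [Equiv.Perm.mem_alternatingGroup]
      have : Equiv.Perm.sign (F ((x : Equiv.Perm (Fin c)), 1)) = 1 := by
        rw [hs, Equiv.Perm.mem_alternatingGroup.1 x.2]; simp
      exact this)
  let j2 : alternatingGroup (Fin (R - c)) →* alternatingGroup (Fin R) :=
    ((F.comp (MonoidHom.inr _ _)).comp (alternatingGroup (Fin (R - c))).subtype).codRestrict _ (by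
      intro x
      rw [Equiv.Perm.mem_alternatingGroup]
      have : Equiv.Perm.sign (F (1, (x : Equiv.Perm (Fin (R - c))))) = 1 := by
        rw [hs, Equiv.Perm.mem_alternatingGroup.1 x.2]; simp
      exact this)
  refine ⟨j1, j2, ?_, ?_, ?_⟩
  · intro x y hxy
    have h1 : F ((x : Equiv.Perm (Fin c)), 1) = F ((y : Equiv.Perm (Fin c)), 1) := congrArg Subtype.val hxy
    have h2 := hF h1
    exact Subtype.ext (congrArg Prod.fst h2)
  · intro x y hxy
    have h1 : F (1, (x : Equiv.Perm (Fin (R - c)))) = F (1, (y : Equiv.Perm (Fin (R - c)))) := congrArg Subtype.val hxy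
    have h2 := hF h1
    exact Subtype.ext (congrArg Prod.snd h2)
  · intro a b
    apply Subtype.ext
    change F ((a : Equiv.Perm (Fin c)), 1) * F (1, (b : Equiv.Perm (Fin (R - c)))) =
      F (1, (b : Equiv.Perm (Fin (R - c)))) * F ((a : Equiv.Perm (Fin c)), 1)
    rw [← map_mul, ← map_mul]
    simp

/-! ### The recursion -/

universe u

theorem nrm_one {A V : Type*} [Group A] [AddCommGroup V] (ρ : A →* AddMonoid.End V) (v : V) : nrm ρ 1 v = v := by
  simp [nrm]

end Cfsg.Agent.H546.Sp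

private theorem dce_e1190c02fb98 : _root_.True := by
  try have : _root_.True := by simp only [_root_.Cfsg.Agent.H357.Sp.nrm.eq_1]
  try have : _root_.True := by simp only [_root_.Cfsg.Agent.H357.Sp.W.eq_1]
  exact _root_.True.intro
end

-- part: H381/Sp/Frob
section
set_option linter.all false
open scoped Cfsg.Agent.FastGrp

/-!
# Groups of order `r` acting on `q`-groups, in a section above a `t`-group (helper381, TEAM SPEC-ALT)

* `hh_comm` : `x` of prime order `r` normalizes the `q`-group `T` and acts without fixed points on the elementary abelian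
  `t`-group `V`, on which `T` acts: then `x` and `T` commute modulo the kernel of the action (S3765, in terms of an action);
* `exists_lift'` : lifting a `q`-group and an element of order `r` normalizing it;
* `frob_key` : `t ∣ |N|`, `S ≤ G / N` simple and normal, `A₀ ≤ S` a `q`-group normalized but not centralized by an element
  of order `r`, no elements of order `r²` and `t r` in `G`: for every prime `s ∣ |S|`, `G` has an element of order `t s`.
-/

set_option autoImplicit false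

namespace Cfsg.Agent.H381.Sp

open Subgroup Cfsg.Agent.H395.Coclique

section HH

variable {H V : Type*} [Group H] [Group V] [Finite V]

/-- **S3765 for actions.** -/
theorem hh_comm (φ : H →* MulAut V) {t q r : ℕ} (ht : t.Prime) (hq : q.Prime) (hr : r.Prime) (htq : t ≠ q)
    (htr : t ≠ r) (hqr : q ≠ r) (hexc : q = 2 → ¬ ∃ n : ℕ, r = 2 ^ n + 1) (hVc : ∀ a b : V, a * b = b * a)
    (hVt : ∀ a : V, a ^ t = 1) (hV1 : ∃ v : V, v ≠ 1) (T : Subgroup H) (hT : IsPGroup q ↥T) (x : H)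
    (hx : orderOf x = r) (hxT : x ∈ normalizer (T : Set H)) (hfix : ∀ v : V, φ x v = v → v = 1) :
    ∀ y ∈ T, φ x * φ y = φ y * φ x := by
  have hrf := Fact.mk hr
  by_contra hcon
  push Not at hcon
  obtain ⟨y, hy, hxy⟩ := hcon
  obtain ⟨v₀, hv₀⟩ := hV1
  let W := V ⋊[MonoidHom.id (MulAut V)] MulAut V
  have hWf : Finite W := Finite.of_equiv _ SemidirectProduct.equivProd.symm
  let i : MulAut V →* W := SemidirectProduct.inr
  let j : V →* W := SemidirectProduct.inl
  have hi : Function.Injective i := SemidirectProduct.inr_injective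
  have hj : Function.Injective j := SemidirectProduct.inl_injective
  have hact : ∀ (g : MulAut V) (v : V), i g * j v * (i g)⁻¹ = j (g v) := fun g v =>
    (SemidirectProduct.inl_aut (φ := MonoidHom.id (MulAut V)) g v).symm ▸ by rw [map_inv]
  let ι : H →* W := i.comp φ
  have hφx : φ x ≠ 1 := by
    intro h
    exact hv₀ (hfix v₀ (by rw [h]; rfl))
  have hox : orderOf (ι x) = r := by
    have h1 : orderOf (ι x) = orderOf (φ x) := orderOf_injective i hi _
    rw [h1]
    exact orderOf_eq_prime (by rw [← map_pow, ← hx, pow_orderOf_eq_one, map_one]) hφx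
  have hnot : ¬ ι x * ι y = ι y * ι x := by
    intro h
    apply hxy
    apply hi
    rw [map_mul, map_mul]
    exact h
  have hkey := Cfsg.Agent.S3765.result (G := W) ht hq hr htq htr hqr (zpowers (ι x)) (T.map ι) j.range
    (by rw [Nat.card_zpowers, hox]) (hT.map ι) ?_ ?_ ?_ ?_ ?_ ?_ ?_ fun h2 h3 => absurd h3 (hexc h2)
  · apply hkey
    rw [eq_bot_iff]
    rintro w ⟨⟨v, rfl⟩, hw⟩
    rw [mem_bot]
    have h1 := mem_centralizer_iff.1 hw (ι x) (mem_zpowers _)
    have h2 : i (φ x) * j v * (i (φ x))⁻¹ = j v := by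
      rw [mul_inv_eq_iff_eq_mul]
      exact h1
    rw [hact] at h2
    have h3 := hfix v (hj h2)
    rw [h3, map_one]
  · rw [zpowers_le]
    exact Subgroup.le_normalizer_map ι (mem_map_of_mem ι hxT)
  · rw [eq_bot_iff]
    rintro z ⟨hz, hzc⟩
    rw [mem_bot]
    by_contra hz1
    have h1 : zpowers z = zpowers (ι x) := by
      have hle : zpowers z ≤ zpowers (ι x) := by rwa [zpowers_le]
      refine Subgroup.eq_of_le_of_card_ge hle ?_
      rw [Nat.card_zpowers, Nat.card_zpowers, hox]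
      have h2 : orderOf z ∣ r := by
        have := _root_.orderOf_dvd_natCard (⟨z, hz⟩ : zpowers (ι x))
        rwa [Subgroup.orderOf_mk, Nat.card_zpowers, hox] at this
      rcases (Nat.dvd_prime hr).1 h2 with h3 | h3
      · exact absurd (orderOf_eq_one_iff.1 h3) hz1
      · exact h3.ge
    have h2 : ι x ∈ zpowers z := by rw [h1]; exact mem_zpowers _
    have h3 : ι x ∈ centralizer ((T.map ι : Subgroup W) : Set W) :=
      (zpowers_le.2 hzc : zpowers z ≤ _) h2
    exact hnot (mem_centralizer_iff.1 h3 (ι y) (mem_map_of_mem ι hy)).symm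
  · refine ⟨⟨⟨?_⟩⟩, ?_⟩
    · rintro ⟨_, a, rfl⟩ ⟨_, b, rfl⟩
      apply Subtype.ext
      change j a * j b = j b * j a
      rw [← map_mul, hVc, map_mul]
    · rintro _ ⟨a, rfl⟩
      rw [← map_pow, hVt, map_one]
  · intro h
    apply hv₀
    have h1 : j v₀ ∈ j.range := ⟨v₀, rfl⟩
    rw [h, mem_bot] at h1
    exact hj (by rw [h1, map_one])
  · have hn : j.range ≤ ⊤ := le_top
    intro z hz
    rw [mem_normalizer_iff]
    obtain ⟨k, rfl⟩ := mem_zpowers_iff.1 hz
    have h1 : ι x ^ k = i (φ x ^ k) := by rw [map_zpow]; rfl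
    rw [h1]
    intro w
    constructor
    · rintro ⟨v, rfl⟩
      exact ⟨_, (hact _ v).symm⟩
    · rintro ⟨v, hv⟩
      refine ⟨(φ x ^ k)⁻¹ v, ?_⟩
      rw [← hact, hv, map_inv i (φ x ^ k), inv_inv, mul_assoc, mul_assoc, inv_mul_cancel, mul_one, ← mul_assoc,
        inv_mul_cancel, one_mul]
  · intro z hz
    obtain ⟨u, -, rfl⟩ := hz
    rw [mem_normalizer_iff]
    change ∀ w, w ∈ j.range ↔ i (φ u) * w * (i (φ u))⁻¹ ∈ j.range
    intro w
    constructor
    · rintro ⟨v, rfl⟩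
      exact ⟨_, (hact _ v).symm⟩
    · rintro ⟨v, hv⟩
      refine ⟨(φ u)⁻¹ v, ?_⟩
      rw [← hact, hv, map_inv i (φ u), inv_inv, mul_assoc, mul_assoc, inv_mul_cancel, mul_one, ← mul_assoc,
        inv_mul_cancel, one_mul]
  · rw [eq_bot_iff]
    rintro z ⟨hz, hzc⟩
    rw [mem_bot]
    have h1 : zpowers (ι x) ⊔ T.map ι ≤ i.range := by
      rw [sup_le_iff, zpowers_le]
      exact ⟨⟨φ x, rfl⟩, by rintro _ ⟨u, -, rfl⟩; exact ⟨φ u, rfl⟩⟩
    obtain ⟨g, rfl⟩ := h1 hz
    have h2 : g = 1 := by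
      ext v
      rw [MulAut.one_apply]
      apply hj
      rw [← hact, mul_inv_eq_iff_eq_mul]
      exact (mem_centralizer_iff.1 hzc (j v) ⟨v, rfl⟩).symm
    rw [h2, map_one]

end HH

section Lift

/-- lifting a `q`-group and an element of order `r` normalizing it -/
theorem exists_lift' {H Q : Type*} [Group H] [Group Q] [Finite H] (f : H →* Q) (hf : Function.Surjective f) {q r : ℕ}
    (hq : q.Prime) (hr : r.Prime) (A₀ : Subgroup Q) (hA₀ : IsPGroup q ↥A₀) (x₀ : Q) (hx₀ : orderOf x₀ = r)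
    (hx₀n : x₀ ∈ normalizer (A₀ : Set Q)) :
    ∃ (T : Subgroup H) (x : H) (k : ℕ), IsPGroup q ↥T ∧ T.map f = A₀ ∧ orderOf x = r ^ k ∧ f x = x₀ ∧
      x ∈ normalizer (T : Set H) := by
  have hqf := Fact.mk hq
  have hrf := Fact.mk hr
  have hQf : Finite Q := Finite.of_surjective f hf
  set D : Subgroup Q := A₀ ⊔ zpowers x₀ with hD
  have hAD : A₀ ≤ D := le_sup_left
  have hDn : D ≤ normalizer (A₀ : Set Q) := by
    rw [hD, sup_le_iff, zpowers_le]
    exact ⟨le_normalizer, hx₀n⟩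
  set A : Subgroup H := A₀.comap f with hA
  set B : Subgroup H := D.comap f with hB
  have hAB : A ≤ B := Subgroup.comap_mono hAD
  set A' : Subgroup B := A.subgroupOf B with hA'
  have hA'n : A'.Normal := by
    constructor
    intro a ha b
    rw [hA', mem_subgroupOf, hA, mem_comap] at ha ⊢
    have h1 : f (b : H) ∈ normalizer (A₀ : Set Q) := hDn (mem_comap.1 b.2)
    have h2 := (mem_normalizer_iff.1 h1 (f (a : H))).1 ha
    simpa only [_root_.Subgroup.coe_mul, _root_.InvMemClass.coe_inv, _root_.map_mul, _root_.map_inv] using h2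
  obtain ⟨P⟩ : Nonempty (Sylow q ↥A') := inferInstance
  have hfr := Sylow.normalizer_sup_eq_top P
  set T' : Subgroup B := (P : Subgroup ↥A').map A'.subtype with hT'
  set T : Subgroup H := T'.map B.subtype with hT
  have hTq : IsPGroup q ↥T := (P.isPGroup'.map _).map _
  -- the image
  have hTA : T ≤ A := by
    rintro _ ⟨b, ⟨a, -, rfl⟩, rfl⟩
    exact mem_subgroupOf.1 a.2
  have hTmap : T.map f = A₀ := by
    apply le_antisymm
    · rintro _ ⟨u, hu, rfl⟩
      exact mem_comap.1 (hTA hu)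
    · -- the homomorphism `A' → A₀`
      let g : ↥A' →* ↥A₀ :=
        { toFun := fun a => ⟨f ((a : B) : H), mem_comap.1 (mem_subgroupOf.1 a.2)⟩
          map_one' := Subtype.ext (by simp only [_root_.OneMemClass.coe_one, _root_.map_one])
          map_mul' := fun a b => Subtype.ext (by simp only [_root_.Subgroup.coe_mul, _root_.map_mul, _root_.MulMemClass.mk_mul_mk]) }
      have hg : Function.Surjective g := by
        rintro ⟨a, ha⟩
        obtain ⟨u, rfl⟩ := hf a
        have huA : u ∈ A := ha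
        exact ⟨⟨⟨u, hAB huA⟩, mem_subgroupOf.2 huA⟩, rfl⟩
      have h1 : ((P : Subgroup ↥A').map g) = ⊤ := by
        have h2 : ¬ q ∣ (P : Subgroup ↥A').index := P.not_dvd_index
        have h3 : ((P : Subgroup ↥A').map g).index ∣ (P : Subgroup ↥A').index :=
          Subgroup.index_map_dvd (P : Subgroup ↥A') hg
        have h4 : ¬ q ∣ ((P : Subgroup ↥A').map g).index := fun h => h2 (h.trans h3)
        obtain ⟨n, hn⟩ := (IsPGroup.iff_card).1 hA₀
        have h5 : ((P : Subgroup ↥A').map g).index ∣ q ^ n := by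
          rw [← hn]
          exact Subgroup.index_dvd_card _
        obtain ⟨m, -, hm⟩ := (Nat.dvd_prime_pow hq).1 h5
        rw [← Subgroup.index_eq_one, hm]
        rcases Nat.eq_zero_or_pos m with h6 | h6
        · rw [h6, pow_zero]
        · exact absurd (by rw [hm]; exact dvd_pow_self q h6.ne') h4
      intro a ha
      have h2 : (⟨a, ha⟩ : ↥A₀) ∈ (P : Subgroup ↥A').map g := by rw [h1]; trivial
      obtain ⟨u, hu, hua⟩ := h2
      refine ⟨((u : B) : H), ⟨(u : B), ⟨u, hu, rfl⟩, rfl⟩, congrArg Subtype.val hua⟩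
  -- an element normalizing `T` over `x₀`
  obtain ⟨b, hb⟩ := hf x₀
  have hbB : b ∈ B := by
    rw [hB, mem_comap, hb]
    exact (le_sup_right : zpowers x₀ ≤ D) (mem_zpowers _)
  have hb' : (⟨b, hbB⟩ : B) ∈ normalizer (T' : Set B) ⊔ A' := by
    rw [hT', hfr]; trivial
  rw [Subgroup.mem_sup_of_normal_right] at hb'
  obtain ⟨n, hn, a, ha, hna⟩ := hb'
  have ha0 : f ((a : B) : H) ∈ A₀ := mem_comap.1 (mem_subgroupOf.1 ha)
  rw [← hTmap] at ha0
  obtain ⟨u, hu, hua⟩ := ha0
  have hnT : ((n : B) : H) ∈ normalizer (T : Set H) :=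
    Subgroup.le_normalizer_map B.subtype (mem_map_of_mem B.subtype hn)
  set z : H := (n : H) * u with hz
  have hzT : z ∈ normalizer (T : Set H) := mul_mem hnT (le_normalizer hu)
  have hfz : f z = x₀ := by
    have h1 : ((n : B) : H) * ((a : B) : H) = b := congrArg Subtype.val hna
    rw [hz, map_mul, hua, ← map_mul, h1, hb]
  -- the `r`-part
  obtain ⟨k, m, hm, hkm⟩ := Nat.exists_eq_pow_mul_and_not_dvd (orderOf_pos z).ne' r hr.ne_one
  have hcop : m.Coprime r := ((Nat.Prime.coprime_iff_not_dvd hr).2 hm).symm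
  obtain ⟨w, hw1, hw2⟩ := Nat.chineseRemainder hcop 0 1
  have hw0 : m ∣ w := (Nat.modEq_zero_iff_dvd).1 hw1
  have h1 : (z ^ w) ^ (r ^ k) = 1 := by
    obtain ⟨c, rfl⟩ := hw0
    rw [← pow_mul, mul_assoc, mul_comm c, ← mul_assoc, mul_comm m, ← hkm, pow_mul, pow_orderOf_eq_one, one_pow]
  obtain ⟨l, -, hl⟩ := (Nat.dvd_prime_pow hr).1 (orderOf_dvd_of_pow_eq_one h1)
  refine ⟨T, z ^ w, l, hTq, hTmap, hl, ?_, Subgroup.pow_mem _ hzT w⟩
  rw [map_pow, hfz]
  have h2 : x₀ ^ w = x₀ ^ 1 := by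
    rw [pow_eq_pow_iff_modEq, hx₀]
    exact hw2
  rw [h2, pow_one]

end Lift

section Omega

variable {G : Type*} [Group G]

/-- the elements of order dividing `t` of the center of `P` -/
def omegaZ (t : ℕ) (P : Subgroup G) : Subgroup G where
  carrier := {g | g ∈ P ∧ (∀ y ∈ P, g * y = y * g) ∧ g ^ t = 1}
  mul_mem' := by
    rintro a b ⟨ha, ha1, ha2⟩ ⟨hb, hb1, hb2⟩
    refine ⟨mul_mem ha hb, fun y hy => ?_, ?_⟩
    · rw [mul_assoc, hb1 y hy, ← mul_assoc, ha1 y hy, mul_assoc]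
    · rw [(show Commute a b from ha1 b hb).mul_pow, ha2, hb2, mul_one]
  one_mem' := ⟨one_mem P, fun y _ => by rw [one_mul, mul_one], one_pow t⟩
  inv_mem' := by
    rintro a ⟨ha, ha1, ha2⟩
    refine ⟨inv_mem ha, fun y hy => ?_, by rw [inv_pow, ha2, inv_one]⟩
    exact ((show Commute a y from ha1 y hy).inv_left).eq

theorem mem_omegaZ {t : ℕ} {P : Subgroup G} {g : G} :
    g ∈ omegaZ t P ↔ g ∈ P ∧ (∀ y ∈ P, g * y = y * g) ∧ g ^ t = 1 := Iff.rfl

theorem omegaZ_le {t : ℕ} {P : Subgroup G} : omegaZ t P ≤ P := fun _ h => h.1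

theorem omegaZ_ne_bot [Finite G] {t : ℕ} (ht : t.Prime) {P : Subgroup G} (hP : IsPGroup t ↥P) (hP1 : P ≠ ⊥) :
    omegaZ t P ≠ ⊥ := by
  have := Fact.mk ht
  have hnt : Nontrivial ↥P := (Subgroup.nontrivial_iff_ne_bot P).2 hP1
  have hc := hP.center_nontrivial
  obtain ⟨z, hz⟩ := exists_ne (1 : Subgroup.center ↥P)
  obtain ⟨k, hk⟩ := exists_orderOf_eq ht hP (u := ((z : ↥P) : G)) z.1.2
    (fun h => hz (Subtype.ext (Subtype.ext h)))
  intro h0
  have h1 : ((z : ↥P) : G) ^ k ∈ omegaZ t P := by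
    refine ⟨pow_mem z.1.2 k, fun y hy => ?_, by rw [← hk, pow_orderOf_eq_one]⟩
    have h2 : (y : G) * ((z : ↥P) : G) = ((z : ↥P) : G) * y :=
      congrArg Subtype.val (Subgroup.mem_center_iff.1 z.2 ⟨y, hy⟩)
    exact ((show Commute ((z : ↥P) : G) y from h2.symm).pow_left k).eq
  rw [h0, mem_bot] at h1
  rw [h1, orderOf_one] at hk
  exact ht.one_lt.ne hk

theorem normalizer_le_omegaZ {t : ℕ} {P : Subgroup G} :
    normalizer (P : Set G) ≤ normalizer ((omegaZ t P : Subgroup G) : Set G) := by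
  have key : ∀ g ∈ normalizer (P : Set G), ∀ a ∈ omegaZ t P, g * a * g⁻¹ ∈ omegaZ t P := by
    rintro g hg a ⟨ha, ha1, ha2⟩
    refine ⟨(mem_normalizer_iff.1 hg a).1 ha, fun y hy => ?_, ?_⟩
    · have h1 : g⁻¹ * y * g ∈ P := by
        have := (mem_normalizer_iff.1 (inv_mem hg) y).1 hy
        rwa [inv_inv] at this
      have h2 := ha1 _ h1
      calc g * a * g⁻¹ * y = g * (a * (g⁻¹ * y * g)) * g⁻¹ := by group
        _ = g * ((g⁻¹ * y * g) * a) * g⁻¹ := by rw [h2]
        _ = y * (g * a * g⁻¹) := by group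
    · rw [conj_pow, ha2, mul_one, mul_inv_cancel]
  intro g hg
  rw [mem_normalizer_iff]
  intro a
  refine ⟨key g hg a, fun h => ?_⟩
  have h1 := key g⁻¹ (inv_mem hg) _ h
  have h2 : g⁻¹ * (g * a * g⁻¹) * g⁻¹⁻¹ = a := by group
  rwa [h2] at h1

end Omega

section Main

variable {G : Type*} [Group G] [Finite G]

omit [Finite G] in
/-- a prime power order `r ^ k` of a non-trivial element is `r` if `r ^ 2` is not an order -/
theorem order_eq {r k : ℕ} (hr : r.Prime) (h2 : ¬ ∃ x : G, orderOf x = r ^ 2) {x : G} (hx : orderOf x = r ^ k)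
    (hx1 : x ≠ 1) : orderOf x = r := by
  rcases Nat.lt_or_ge k 2 with hk | hk
  · interval_cases k
    · rw [pow_zero] at hx
      exact absurd (orderOf_eq_one_iff.1 hx) hx1
    · rw [hx, pow_one]
  · exfalso
    apply h2
    refine ⟨x ^ r ^ (k - 2), ?_⟩
    rw [orderOf_pow_of_dvd (pow_ne_zero _ hr.ne_zero) (by rw [hx]; exact pow_dvd_pow r (by omega)), hx]
    rw [Nat.pow_div (by omega) hr.pos]
    congr 1
    omega

/-- **A prime `t` dividing `|N|` and a simple normal subgroup `S` of `G / N`.** -/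
theorem frob_key (N : Subgroup G) [N.Normal] (S : Subgroup (G ⧸ N)) [S.Normal] (hS : IsSimpleGroup ↥S) {t q r : ℕ}
    (ht : t.Prime) (hq : q.Prime) (hr : r.Prime) (htq : t ≠ q) (htr : t ≠ r) (hqr : q ≠ r)
    (hexc : q = 2 → ¬ ∃ n : ℕ, r = 2 ^ n + 1) (htN : t ∣ Nat.card ↥N) (A₀ : Subgroup (G ⧸ N)) (hA₀ : IsPGroup q ↥A₀)
    (hA₀S : A₀ ≤ S) (x₀ : G ⧸ N) (hx₀ : orderOf x₀ = r) (hx₀n : x₀ ∈ normalizer (A₀ : Set (G ⧸ N)))
    (hx₀c : ∃ a ∈ A₀, x₀ * a ≠ a * x₀) (h1 : ¬ ∃ x : G, orderOf x = t * r) (h2 : ¬ ∃ x : G, orderOf x = r ^ 2)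
    {s : ℕ} (hs : s.Prime) (hst : s ≠ t) (hsS : s ∣ Nat.card ↥S) : ∃ x : G, orderOf x = t * s := by
  have hsf := Fact.mk hs
  obtain ⟨P, hPt, hP1, hPN, hF⟩ := Cfsg.Agent.H403.exists_sylow_frattini N ht htN
  set V : Subgroup G := omegaZ t P with hV
  have hV1 : V ≠ ⊥ := omegaZ_ne_bot ht hPt hP1
  set H : Subgroup G := normalizer (V : Set G) with hH
  have hHN : H ⊔ N = ⊤ := by
    rw [eq_top_iff, ← hF]
    exact sup_le_sup_right normalizer_le_omegaZ N
  let f : H →* G ⧸ N := (QuotientGroup.mk' N).comp H.subtype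
  have hf : Function.Surjective f := by
    intro u
    obtain ⟨g, rfl⟩ := QuotientGroup.mk'_surjective N u
    have hg : g ∈ H ⊔ N := by rw [hHN]; trivial
    rw [Subgroup.mem_sup_of_normal_right] at hg
    obtain ⟨n, hn, k, hk, rfl⟩ := hg
    refine ⟨⟨n, hn⟩, ?_⟩
    change QuotientGroup.mk' N n = QuotientGroup.mk' N (n * k)
    rw [map_mul, show QuotientGroup.mk' N k = 1 from (QuotientGroup.eq_one_iff k).2 hk, mul_one]
  obtain ⟨T, x, k, hT, hTmap, hxk, hfx, hxT⟩ := exists_lift' f hf hq hr A₀ hA₀ x₀ hx₀ hx₀n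
  have hx1 : x ≠ 1 := by
    rintro rfl
    rw [map_one] at hfx
    rw [← hfx, orderOf_one] at hx₀
    exact hr.one_lt.ne hx₀
  have hxr : orderOf x = r := by
    refine order_eq hr (fun ⟨y, hy⟩ => h2 ⟨(y : G), by rw [Subgroup.orderOf_coe, hy]⟩) hxk hx1
  -- the action on `V`
  let φ : H →* MulAut ↥V := V.normalizerMonoidHom
  have hφ : ∀ (h : H) (v : V), ((φ h v : V) : G) = (h : G) * v * (h : G)⁻¹ := fun h v => rfl
  have hfix : ∀ v : V, φ x v = v → v = 1 := by
    intro v hv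
    by_contra hv1
    apply h1
    have h3 : orderOf (v : G) = t := by
      have h4 : ((v : V) : G) ^ t = 1 := v.2.2.2
      have := Fact.mk ht
      exact orderOf_eq_prime h4 fun h5 => hv1 (Subtype.ext h5)
    have h4 : (x : G) * v * (x : G)⁻¹ = v := by rw [← hφ, hv]
    rw [mul_inv_eq_iff_eq_mul] at h4
    exact exists_mul_of_commute ht hr htr h3 (by rw [Subgroup.orderOf_coe, hxr]) h4.symm
  obtain ⟨v₀, hv₀, hv₀1⟩ : ∃ v ∈ V, v ≠ 1 := by
    by_contra hcon
    push Not at hcon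
    exact hV1 ((Subgroup.eq_bot_iff_forall _).2 hcon)
  have hcomm := hh_comm φ ht hq hr htq htr hqr hexc
    (fun a b => Subtype.ext (a.2.2.1 b (omegaZ_le b.2))) (fun a => Subtype.ext a.2.2.2)
    ⟨⟨v₀, hv₀⟩, fun h => hv₀1 (congrArg Subtype.val h)⟩ T hT x hxr hxT hfix
  -- the kernel of the action covers `S`
  have hK : S ≤ φ.ker.map f := by
    have hn : (φ.ker.map f).Normal := (inferInstance : φ.ker.Normal).map f hf
    obtain ⟨a, ha, hxa⟩ := hx₀c
    obtain ⟨y, hy, rfl⟩ : ∃ y ∈ T, f y = a := by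
      have : a ∈ T.map f := by rw [hTmap]; exact ha
      exact this
    have h3 : x * y * x⁻¹ * y⁻¹ ∈ φ.ker := by
      rw [MonoidHom.mem_ker, map_mul, map_mul, map_mul, map_inv, map_inv, hcomm y hy]
      group
    have h4 : f (x * y * x⁻¹ * y⁻¹) ∈ (φ.ker.map f) := mem_map_of_mem f h3
    have h5 : f (x * y * x⁻¹ * y⁻¹) ∈ S := by
      rw [map_mul, map_mul, map_mul, map_inv, map_inv, hfx]
      exact mul_mem (hA₀S ((mem_normalizer_iff.1 hx₀n _).1 ha)) (inv_mem (hA₀S ha))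
    have h6 : f (x * y * x⁻¹ * y⁻¹) ≠ 1 := by
      rw [map_mul, map_mul, map_mul, map_inv, map_inv, hfx]
      intro h
      apply hxa
      rw [mul_inv_eq_one, mul_inv_eq_iff_eq_mul] at h
      exact h
    have h7 : ((φ.ker.map f).subgroupOf S).Normal := inferInstance
    rcases h7.eq_bot_or_eq_top with h8 | h8
    · exfalso
      apply h6
      have h9 : (⟨_, h5⟩ : S) ∈ (φ.ker.map f).subgroupOf S := mem_subgroupOf.2 h4
      rw [h8, mem_bot] at h9
      exact congrArg Subtype.val h9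
    · rwa [Subgroup.subgroupOf_eq_top] at h8
  have hsC : s ∣ Nat.card ↥φ.ker :=
    (hsS.trans (Subgroup.card_dvd_of_le hK)).trans (Subgroup.card_map_dvd _ _)
  obtain ⟨c, hc⟩ := exists_prime_orderOf_dvd_card' s hsC
  have hcv : (c : H) ∈ φ.ker := c.2
  have h3 : φ (c : H) ⟨v₀, hv₀⟩ = ⟨v₀, hv₀⟩ := by
    rw [MonoidHom.mem_ker.1 hcv]; rfl
  have h4 : ((c : H) : G) * v₀ * ((c : H) : G)⁻¹ = v₀ := by
    have := congrArg Subtype.val h3
    rwa [hφ] at this
  rw [mul_inv_eq_iff_eq_mul] at h4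
  have h5 : orderOf v₀ = t := by
    have := Fact.mk ht
    exact orderOf_eq_prime (mem_omegaZ.1 hv₀).2.2 hv₀1
  exact exists_mul_of_commute ht hs hst.symm h5 (by rw [Subgroup.orderOf_coe, Subgroup.orderOf_coe, hc]) h4.symm

end Main

end Cfsg.Agent.H381.Sp
end

-- part: H361/Alt/Fi
section
set_option linter.all false
open scoped Cfsg.Agent.FastGrp

/-!
# An element of order 16 of `Fi22` (helper361, TEAM SPEC-ALT)
-/

set_option autoImplicit false

namespace Cfsg.Agent.H361.Alt.Fi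

open Cfsg Cfsg.Agent.Fischer Cfsg.Agent.Fischer.Abstract Cfsg.Agent.Fischer.Centralizer
  Cfsg.Agent.Fischer.Group22 Cfsg.Agent.Fischer.Rank22
open Cfsg.Agent.R01.Fi22Facts
open Cfsg.Agent.R01

universe u

open Data22.Gen in
/-- a word of order 16 -/
def w : List Data22.Gen := [e, b, l, f, h, d, h, e, i, f, g, c]

/-- its eighth power -/
def w8 : List Data22.Gen := w ++ w ++ w ++ w ++ w ++ w ++ w ++ w

/-- the element of a word -/
noncomputable def el (w : List Data22.Gen) : G := (w.map g).prod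

theorem el_append (w w' : List Data22.Gen) : el (w ++ w') = el w * el w' := by
  rw [el, List.map_append, List.prod_append, el, el]

theorem chk16 : Nat.beq (Cert.walk Data22.nx (w8 ++ w8).reverse (nat_lit 0)) (nat_lit 0) = true := by
  decide +kernel

theorem chk8 : Nat.beq (Cert.walk Data22.nx w8.reverse (nat_lit 0)) (nat_lit 0) = false := by
  decide +kernel

/-- the base point -/
def x0 : X := ⟨0, by norm_num⟩

theorem fix : el w ^ 16 • x0 = x0 := by
  have h1 : el (w8 ++ w8) • x0 = x0 := by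
    apply Fin.ext
    rw [el, Fi22Loc.val_word]
    show Cert.walk Data22.nx (w8 ++ w8).reverse (nat_lit 0) = (nat_lit 0)
    exact Nat.eq_of_beq_eq_true chk16
  have h2 : el (w8 ++ w8) = el w ^ 16 := by
    rw [w8]
    simp only [el_append, pow_succ, pow_zero, one_mul, mul_assoc]
  rw [← h2]
  exact h1

theorem move : el w ^ 8 • x0 ≠ x0 := by
  intro h
  have h2 : el w8 = el w ^ 8 := by
    rw [w8]
    simp only [el_append, pow_succ, pow_zero, one_mul]
  rw [← h2] at h
  have h3 : ((el w8 • x0 : X) : ℕ) = 0 := congrArg (fun y : X => (y : ℕ)) h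
  rw [el, Fi22Loc.val_word] at h3
  have h4 := chk8
  rw [show (Cert.walk Data22.nx w8.reverse (nat_lit 0)) = 0 from h3] at h4
  exact absurd h4 (by decide)

theorem sixteen_dvd : 16 ∣ orderOf (el w) := by
  have h1 : MulAction.period (el w) x0 ∣ 2 ^ 4 := MulAction.pow_smul_eq_iff_period_dvd.1 fix
  have h2 : ¬ MulAction.period (el w) x0 ∣ 2 ^ 3 := fun h => move (MulAction.pow_smul_eq_iff_period_dvd.2 h)
  obtain ⟨k, hk, hk'⟩ := (Nat.dvd_prime_pow Nat.prime_two).1 h1
  have h3 : k = 4 := by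
    by_contra h
    apply h2
    rw [hk']
    exact pow_dvd_pow 2 (by omega)
  rw [h3] at hk'
  have h4 := MulAction.period_dvd_orderOf (el w) x0
  rw [hk'] at h4
  exact h4

/-- `Fi22` has elements of order 16 -/
theorem exists_sixteen {S : Type u} [Group S] [Finite S] (h : Spor.IsoFi22 S) : ∃ x : S, orderOf x = 16 := by
  obtain ⟨e⟩ := h
  have h1 : 16 ∣ orderOf (e.symm (E (el w))) := by
    rw [MulEquiv.orderOf_eq, MulEquiv.orderOf_eq]
    exact sixteen_dvd
  exact ⟨_, orderOf_pow_orderOf_div (orderOf_pos _).ne' h1⟩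

end Cfsg.Agent.H361.Alt.Fi

private theorem dce_749339c07407 : _root_.True := by
  try have : _root_.True := by simp only [_root_.Cfsg.Agent.H361.Alt.Fi.el.eq_1]
  try have : _root_.True := by simp only [_root_.Cfsg.Agent.H361.Alt.Fi.w8.eq_1]
  exact _root_.True.intro
end

-- part: H511/Sp/TopN
section
set_option linter.all false
open scoped Cfsg.Agent.FastGrp

/-!
# The kernel of the action on an alternating normal subgroup of a quotient
-/

set_option autoImplicit false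

namespace Cfsg.Agent.H511.Sp

open Cfsg Cfsg.Agent.H357.Sp Subgroup

/-- a group acting by conjugation on a normal alternating subgroup -/
theorem exists_hom {Q : Type*} [Group Q] {M : Subgroup Q} [M.Normal] {m : ℕ} (hm : 7 ≤ m)
    (e : ↥M ≃* alternatingGroup (Fin m)) : ∃ Φ : Q →* Equiv.Perm (Fin m), Φ.ker = Subgroup.centralizer (M : Set Q) ∧
      ∀ x : ↥M, Φ (x : Q) = (e x : Equiv.Perm (Fin m)) := by
  let ψ : Equiv.Perm (Fin m) ≃* MulAut ↥(alternatingGroup (Fin m)) :=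
    MulEquiv.ofBijective (MulAut.conjNormal : Equiv.Perm (Fin m) →* MulAut ↥(alternatingGroup (Fin m)))
      (Cfsg.Agent.S2119.result m (by omega) (by omega))
  let Φ : Q →* Equiv.Perm (Fin m) :=
    ψ.symm.toMonoidHom.comp ((MulAut.congr e).toMonoidHom.comp (MulAut.conjNormal : Q →* MulAut ↥M))
  have hΦ : ∀ q : Q, Φ q = 1 ↔ (MulAut.conjNormal : Q →* MulAut ↥M) q = 1 := by
    intro q
    show ψ.symm (MulAut.congr e (MulAut.conjNormal q)) = 1 ↔ _
    rw [MulEquiv.map_eq_one_iff, MulEquiv.map_eq_one_iff]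
  refine ⟨Φ, ?_, ?_⟩
  · ext q
    rw [MonoidHom.mem_ker, hΦ, Subgroup.mem_centralizer_iff]
    constructor
    · intro h x hx
      have h1 := congrArg (fun f : MulAut ↥M => ((f ⟨x, hx⟩ : ↥M) : Q)) h
      simp only [MulAut.conjNormal_apply, MulAut.one_apply] at h1
      rw [mul_inv_eq_iff_eq_mul] at h1
      exact h1.symm
    · intro h
      ext x
      rw [MulAut.conjNormal_apply, MulAut.one_apply, mul_inv_eq_iff_eq_mul]
      exact (h x x.2).symm
  · intro x
    show ψ.symm (MulAut.congr e (MulAut.conjNormal (x : Q))) = _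
    rw [MulEquiv.symm_apply_eq]
    refine MulEquiv.ext fun y => ?_
    show (MulAut.congr e (MulAut.conjNormal (x : Q))) y =
      (MulAut.conjNormal ((e x : Equiv.Perm (Fin m))) : MulAut ↥(alternatingGroup (Fin m))) y
    have h1 : (MulAut.congr e (MulAut.conjNormal (x : Q))) y = e x * y * (e x)⁻¹ := by
      show e ((MulAut.conjNormal (x : Q)) (e.symm y)) = _
      have h2 : (MulAut.conjNormal (x : Q)) (e.symm y) = x * e.symm y * x⁻¹ := by
        apply Subtype.ext
        rw [MulAut.conjNormal_apply]; rfl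
      rw [h2, map_mul, map_mul, map_inv, MulEquiv.apply_symm_apply]
    have h3 : (MulAut.conjNormal ((e x : Equiv.Perm (Fin m))) : MulAut ↥(alternatingGroup (Fin m))) y =
        e x * y * (e x)⁻¹ := by
      apply Subtype.ext
      rw [MulAut.conjNormal_apply]; rfl
    rw [h1, h3]

theorem exists_top {G : Type*} [Group G] [Finite G] {K : Subgroup G} [K.Normal] {M : Subgroup (G ⧸ K)} [M.Normal] {m : ℕ} (hm : 7 ≤ m)
    (e : Nonempty (↥M ≃* alternatingGroup (Fin m))) : ∃ (N : Subgroup G) (_ : N.Normal), Top m N ∧ K ≤ N ∧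
      (∀ p : ℕ, p.Prime → ¬ p ∣ Nat.card ↥K → ¬ p ∣ M.index → ¬ p ∣ Nat.card ↥N) ∧
      (Subgroup.centralizer (M : Set (G ⧸ K)) = ⊥ → N = K) := by
  obtain ⟨e⟩ := e
  obtain ⟨Φ, hker, hΦ⟩ := exists_hom hm e
  let Ψ : G →* Equiv.Perm (Fin m) := Φ.comp (QuotientGroup.mk' K)
  have hA : alternatingGroup (Fin m) ≤ Ψ.range := by
    intro a ha
    obtain ⟨g, hg⟩ := QuotientGroup.mk'_surjective K ((e.symm ⟨a, ha⟩ : ↥M) : G ⧸ K)
    refine ⟨g, ?_⟩
    show Φ (QuotientGroup.mk' K g) = a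
    rw [hg, hΦ, MulEquiv.apply_symm_apply]
  have hnt : Nontrivial (Fin m) := Fin.nontrivial_iff_two_le.2 (by omega)
  have h2 : (alternatingGroup (Fin m)).index = 2 := alternatingGroup.index_eq_two
  have hrel := Subgroup.relIndex_mul_index hA
  have htop : Ψ.range = alternatingGroup (Fin m) ∨ Ψ.range = ⊤ := by
    rw [h2] at hrel
    have h3 : Ψ.range.index ∣ 2 := Dvd.intro_left _ hrel
    rcases (Nat.dvd_prime Nat.prime_two).1 h3 with h4 | h4
    · right
      exact Subgroup.index_eq_one.1 h4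
    · left
      rw [h4] at hrel
      have h5 : (alternatingGroup (Fin m)).relIndex Ψ.range = 1 := by omega
      exact le_antisymm (Subgroup.relIndex_eq_one.1 h5) hA
  refine ⟨Ψ.ker, inferInstance, ?_, ?_, ?_, ?_⟩
  · rcases htop with h3 | h3
    · left
      exact ⟨(QuotientGroup.quotientKerEquivRange Ψ).trans (MulEquiv.subgroupCongr h3)⟩
    · right
      exact ⟨((QuotientGroup.quotientKerEquivRange Ψ).trans (MulEquiv.subgroupCongr h3)).trans Subgroup.topEquiv⟩
  · intro x hx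
    rw [MonoidHom.mem_ker]
    show Φ (QuotientGroup.mk' K x) = 1
    have : QuotientGroup.mk' K x = 1 := (QuotientGroup.eq_one_iff x).2 hx
    rw [this, map_one]
  · intro p hp hK hM hN
    have := Fact.mk hp
    obtain ⟨x, hx⟩ := exists_prime_orderOf_dvd_card' p hN
    have hxG : orderOf (x : G) = p := by rw [Subgroup.orderOf_coe, hx]
    set y : G ⧸ K := QuotientGroup.mk (x : G) with hy
    have hyp : y ^ p = 1 := by
      rw [hy, ← QuotientGroup.mk_pow, ← hxG, pow_orderOf_eq_one]; rfl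
    have hyM : y ∈ M := by
      rw [← QuotientGroup.eq_one_iff]
      have h3 : (QuotientGroup.mk y : (G ⧸ K) ⧸ M) ^ p = 1 := by
        rw [← QuotientGroup.mk_pow, hyp]; rfl
      have h4 : orderOf (QuotientGroup.mk y : (G ⧸ K) ⧸ M) ∣ Nat.card ((G ⧸ K) ⧸ M) := orderOf_dvd_natCard _
      have h5 : orderOf (QuotientGroup.mk y : (G ⧸ K) ⧸ M) ∣ p := orderOf_dvd_of_pow_eq_one h3
      rcases (Nat.dvd_prime hp).1 h5 with h6 | h6
      · exact orderOf_eq_one_iff.1 h6
      · rw [h6] at h4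
        exact absurd h4 hM
    have hy1 : (⟨y, hyM⟩ : ↥M) = 1 := by
      apply e.injective
      rw [map_one]
      apply Subtype.ext
      rw [← hΦ]
      exact x.2
    have hxK : (x : G) ∈ K := by
      rw [← QuotientGroup.eq_one_iff]
      exact congrArg Subtype.val hy1
    apply hK
    rw [← hxG]
    have : orderOf (⟨x, hxK⟩ : ↥K) = orderOf (x : G) := Subgroup.orderOf_mk _ _
    rw [← this]
    exact orderOf_dvd_natCard _
  · intro hC
    have h3 : Ψ.ker = Φ.ker.comap (QuotientGroup.mk' K) := rfl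
    rw [h3, hker, hC, MonoidHom.comap_bot, QuotientGroup.ker_mk']

end Cfsg.Agent.H511.Sp
end

-- part: H559/Row/Reduce_mg
section
prune_inst 0x4f0303f240ca2000000000010c0003e66f2000000002b8401dd400f060686df0200028f20c9a00d0b1022aa040034006813000070420000000a000000011d00801022d6029248a10c260019803007180c00000000000000000000000000041000000000000
set_option linter.all false
open scoped Cfsg.Agent.FastGrp

-- part: H559/Row/Reduce
section
/-!
# Rows 11 and 12: the reduction (helper559)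
-/

set_option autoImplicit false
set_option linter.unusedSectionVars false

namespace Cfsg.Agent.H559.Row

open Subgroup Cfsg Cfsg.Agent.OrdDiv Cfsg.Agent.H436 Cfsg.Agent.H357.Sp
open Cfsg.Agent.H455.Isolated (Isolated)
open Cfsg.Agent.H559.KEleven (L11 mem_eleven)

universe u

/-- the names left -/
def L : List Grp := [.m11, .m12, .m22, .mcl, .hs, .psu 5 2, .psu 6 2, .psl 2 11]

theorem filter_eleven : (L11.filter fun g => Nat.beq (ordN g % 11) 0) =
    [.alt 11, .alt 12, .m11, .m12, .m22, .mcl, .hs, .psu 5 2, .psu 6 2, .psl 2 11] := by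
  decide +kernel

theorem names {S : Type u} [Group S] [Finite S] {g : Grp} (h : IsNamed g S)
    (hS : ∀ r, r.Prime → r ∣ Nat.card S → r ≤ 11) (h11 : 11 ∣ Nat.card S) :
    g = .alt 11 ∨ g = .alt 12 ∨ g ∈ L := by
  have h1 : g ∈ L11.filter fun g => Nat.beq (ordN g % 11) 0 := by
    rw [List.mem_filter]
    refine ⟨mem_eleven h hS, ?_⟩
    rw [Nat.beq_eq, ← h.ord]
    exact Nat.mod_eq_zero_of_dvd h11
  rw [filter_eleven] at h1
  simpa [L] using h1

theorem L_mod : (L.all fun g => Nat.beq (ordN g % 11) 0 && Nat.beq (ordN g / 11 % 11) 5) = true := by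
  decide +kernel

theorem card_of_mem {S : Type u} [Group S] [Finite S] {g : Grp} (h : IsNamed g S) (hg : g ∈ L) :
    ∃ b, Nat.card S = 11 * b ∧ b % 11 = 5 := by
  have h1 := List.all_eq_true.1 L_mod g hg
  rw [Bool.and_eq_true, Nat.beq_eq, Nat.beq_eq, ← h.ord] at h1
  refine ⟨Nat.card S / 11, ?_, h1.2⟩
  have := Nat.div_add_mod (Nat.card S) 11
  omega

variable {G : Type u} [Group G] [Finite G]

theorem isolated {ε n : ℕ} (h : Spec ε n G) (hn : n ≤ 12) : Isolated G 11 := by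
  intro s hs hs11 g hg
  have h1 := h.up g
  rw [hg, Cfsg.Agent.H546.Sp.W_mul_of_coprime ((Nat.coprime_primes (by norm_num) hs).2 (Ne.symm hs11)),
    Cfsg.Agent.H546.Sp.W_prime hs, Cfsg.Agent.H546.Sp.W_prime (by norm_num)] at h1
  have := hs.two_le
  omega

theorem le_eleven {ε n : ℕ} (h : Spec ε n G) (hn : n ≤ 12) : ∀ p, p.Prime → p ∣ Nat.card G → p ≤ 11 := by
  intro p hp hpG
  have := Fact.mk hp
  obtain ⟨g, hg⟩ := exists_prime_orderOf_dvd_card' (G := G) p hpG
  have h1 := h.up g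
  rw [hg, Cfsg.Agent.H546.Sp.W_prime hp] at h1
  have h2 : p ≠ 12 := by
    rintro rfl
    revert hp
    norm_num
  omega

theorem dvd_of_down {ε n : ℕ} (h : Spec ε n G) {k : ℕ} (hk : 0 < k) (hk' : W k + (if Even k then ε else 0) ≤ n) :
    k ∣ Nat.card G := by
  obtain ⟨g, hg⟩ := h.down k hk hk'
  rw [← hg]
  exact _root_.orderOf_dvd_natCard g

theorem no_sq {ε n : ℕ} (h : Spec ε n G) (hn : n ≤ 12) : No 121 G := by
  apply No.of_spec h
  have h1 : W 121 = 121 := by
    have := Cfsg.Agent.H546.Sp.W_prime_pow (p := 11) (m := 2) (by norm_num) (by norm_num)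
    norm_num at this
    exact this
  rw [h1]
  split_ifs <;> omega

/-- **The reduction.** -/
theorem reduction {ε n : ℕ} (hε : ε = 0 ∨ ε = 2) (hn : n = 11 ∨ n = 12) (h : Spec ε n G) (hG : ¬ Group.IsSolvable G)
    (hname : ∀ (S : Type u) [Group S] [Finite S] [IsSimpleGroup S], ¬ IsMulCommutative S → ∃ g, IsNamed g S) :
    (∃ (N : Subgroup G) (_ : N.Normal), Group.IsSolvable N ∧ ∃ m, 11 ≤ m ∧ m ≤ n ∧ _root_.Cfsg.Agent.H357.Sp.Top m N) ∨
      ∃ (K : Subgroup G) (_ : K.Normal) (M : Subgroup (G ⧸ K)) (g : Grp), Dat K M ∧ IsNamed g M ∧ g ∈ L := by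
  have hn12 : n ≤ 12 := by omega
  have hiso := isolated h hn12
  have h11 : 11 ∣ Nat.card G := by
    apply dvd_of_down h (by norm_num)
    rcases hn with rfl | rfl <;> rcases hε with rfl | rfl <;> decide +kernel
  have h2 : 2 ∣ Nat.card G := by
    apply dvd_of_down h (by norm_num)
    rcases hn with rfl | rfl <;> rcases hε with rfl | rfl <;> decide +kernel
  obtain ⟨K, hKc, hKs, hKmax⟩ := Cfsg.Agent.SignalizersComponents.ComponentExists.exists_solvableRadical G
  have hKn : K.Normal := inferInstance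
  obtain ⟨y, hy, hyr, hyn⟩ : ∃ y : G, Odd (orderOf y) ∧ (orderOf y).Coprime 11 ∧
      ∀ g : G, orderOf g ≠ 2 * orderOf y := by
    rcases hn with rfl | rfl
    · obtain ⟨y, hy⟩ := h.down 21 (by norm_num) (by rcases hε with rfl | rfl <;> decide +kernel)
      have h42 : No 42 G := No.of_spec h (by rcases hε with rfl | rfl <;> decide +kernel)
      refine ⟨y, by rw [hy]; decide, by rw [hy]; norm_num, ?_⟩
      rw [hy]
      intro g hg
      exact h42 g (by rw [hg])
    · obtain ⟨y, hy⟩ := h.down 35 (by norm_num) (by rcases hε with rfl | rfl <;> decide +kernel)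
      have h70 : No 70 G := No.of_spec h (by rcases hε with rfl | rfl <;> decide +kernel)
      refine ⟨y, by rw [hy]; decide, by rw [hy]; norm_num, ?_⟩
      rw [hy]
      intro g hg
      exact h70 g (by rw [hg])
  obtain ⟨hK11, hKnil, M, hMn, hMs, hMna, hM11, hMc, -⟩ := Cfsg.Agent.H455.Isolated.main hKs hKmax hiso
    (by norm_num) (by norm_num) h11 h2 hG y hy hyr hyn
  obtain ⟨g, hg⟩ := hname M hMna
  have hprimes : ∀ r, r.Prime → r ∣ Nat.card M → r ≤ 11 := by
    intro r hr hrM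
    refine le_eleven h hn12 r hr ?_
    exact (hrM.trans (card_subgroup_dvd_card M)).trans (card_quotient_dvd_card K)
  have hdat : g ∈ L → Dat K M := fun hgL =>
    ⟨hiso, no_sq h hn12, hKnil, hK11, hMn, hMs, hMc, card_of_mem hg hgL⟩
  rcases names hg hprimes hM11 with rfl | rfl | hgL
  · left
    obtain ⟨N, hN, hT, -, -, hNK⟩ := Cfsg.Agent.H511.Sp.exists_top (K := K) (M := M) (m := 11) (by norm_num) hg.real
    have hNK' := hNK hMc
    subst hNK'
    exact ⟨N, hN, hKs, 11, le_rfl, by omega, hT⟩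
  · rcases hn with rfl | rfl
    · exfalso
      -- an element of order 35
      obtain ⟨e⟩ := hg.real
      obtain ⟨x, hx⟩ := (Cfsg.Agent.S2466.result 12 7 5 (by norm_num) (by norm_num) (by norm_num) (by norm_num)
        (by norm_num) (by norm_num) (by norm_num)).2 (by norm_num)
      have h35 : No 35 G := No.of_spec h (by rcases hε with rfl | rfl <;> decide +kernel)
      have h35M : No 35 M := (h35.quotient K).of_injective M.subtype M.subtype_injective
      apply h35M (e.symm x)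
      rw [MulEquiv.orderOf_eq, hx]
    · left
      obtain ⟨N, hN, hT, -, -, hNK⟩ := Cfsg.Agent.H511.Sp.exists_top (K := K) (M := M) (m := 12) (by norm_num) hg.real
      have hNK' := hNK hMc
      subst hNK'
      exact ⟨N, hN, hKs, 12, by norm_num, le_rfl, hT⟩
  · right
    exact ⟨K, hKn, M, g, hdat hgL, hg, hgL⟩

end Cfsg.Agent.H559.Row
end

-- part: H559/Row/Frob7
section
/-!
# Rows 11 and 12: groups `2³:7` in the socle (helper559)
-/

set_option autoImplicit false
set_option linter.unusedSectionVars false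

namespace Cfsg.Agent.H559.Row

open Subgroup Cfsg.Agent.H559.ActZ Cfsg.Agent.H559.ActFrob Cfsg.Agent.H559.CleanPrime Cfsg.Agent.H357.Sp

/-- `S` contains a Frobenius group `2³:7` -/
def Has87 (S : Type) [Group S] : Prop :=
  ∃ (A : Type) (_ : Group A) (_ : Finite A) (φ : A →* S) (k0 : A) (α : A →* A) (x : S), (∀ k : A, k ^ 2 = 1) ∧
    φ k0 ≠ 1 ∧ orderOf x = 7 ∧ (∀ k, x * φ k = φ (α k) * x) ∧
    ∀ i, 0 < i → i < 7 → Function.Injective fun k : A => k * ((⇑α)^[i] k)⁻¹

theorem Has87.congr {S T : Type} [Group S] [Group T] (e : S ≃* T) (h : Has87 S) : Has87 T := by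
  obtain ⟨A, i1, i2, φ, k0, α, x, h1, h2, h3, h4, h5⟩ := h
  refine ⟨A, i1, i2, e.toMonoidHom.comp φ, k0, α, e x, h1, ?_, ?_, ?_, h5⟩
  · intro h
    exact h2 ((MulEquiv.map_eq_one_iff e).1 h)
  · rw [MulEquiv.orderOf_eq, h3]
  · intro k
    change e x * e (φ k) = e (φ (α k)) * e x
    rw [← map_mul, h4, map_mul]

theorem Has87.of_rel {S : Type} [Group S] [Finite S] {z t : S} (h : EightSeven.Rel z t) : Has87 S := by
  let T := EightSeven.T h
  let α : T →* T :=
    { toFun := fun k => ⟨z * k * z⁻¹, EightSeven.conj_mem h k.2⟩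
      map_one' := Subtype.ext (by
        change z * 1 * z⁻¹ = 1
        group)
      map_mul' := fun a b => Subtype.ext (by
        change z * (a * b) * z⁻¹ = (z * a * z⁻¹) * (z * b * z⁻¹)
        group) }
  have hαc : ∀ k : T, ((α k : T) : S) = z * k * z⁻¹ := fun _ => rfl
  have hit : ∀ (i : ℕ) (k : T), (((⇑α)^[i] k : T) : S) = z ^ i * k * (z ^ i)⁻¹ := by
    intro i
    induction i with
    | zero => intro k; simp
    | succ i ih =>
      intro k
      rw [Function.iterate_succ_apply', hαc, ih, pow_succ']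
      group
  have hz1 : z ≠ 1 := by
    rintro rfl
    have := h.r
    apply h.t1
    have h2 : t * t = 1 := by rw [← sq, h.t2]
    simpa [h2, eq_comm] using this
  have : Fact (Nat.Prime 7) := ⟨by norm_num⟩
  have hz : orderOf z = 7 := orderOf_eq_prime h.z7 hz1
  refine ⟨T, inferInstance, inferInstance, T.subtype, ⟨t, EightSeven.t_mem h⟩, α, z,
    fun k => Subtype.ext (EightSeven.sq_eq_one h k.2), h.t1, hz, fun k => ?_, ?_⟩
  · change z * k = z * k * z⁻¹ * z
    group
  · intro i h0 hi a b hab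
    have h1 := congrArg (fun k : T => (k : S)) hab
    simp only [Subgroup.coe_mul, Subgroup.coe_inv, hit] at h1
    have h2 : z ^ i * ((b : S)⁻¹ * a) = ((b : S)⁻¹ * a) * z ^ i := by
      have e1 : (a : S) = b * (z ^ i * (b : S)⁻¹ * (z ^ i)⁻¹) * (z ^ i * a * (z ^ i)⁻¹) := by
        calc (a : S) = (a * (z ^ i * a * (z ^ i)⁻¹)⁻¹) * (z ^ i * a * (z ^ i)⁻¹) := by group
          _ = (b * (z ^ i * b * (z ^ i)⁻¹)⁻¹) * (z ^ i * a * (z ^ i)⁻¹) := by rw [h1]
          _ = _ := by group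
      have e2 : (b : S)⁻¹ * a = z ^ i * ((b : S)⁻¹ * a) * (z ^ i)⁻¹ := by
        conv_lhs => rw [e1]
        group
      conv_rhs => rw [e2]
      group
    have hcop : (orderOf z).Coprime i := by
      rw [hz]
      refine (Nat.Prime.coprime_iff_not_dvd (by norm_num)).2 fun h3 => ?_
      have := Nat.le_of_dvd h0 h3
      omega
    have h3 : z ∈ zpowers (z ^ i) := by
      rw [mem_zpowers_iff]
      obtain ⟨m, hm⟩ := exists_pow_eq_self_of_coprime hcop.symm
      exact ⟨m, by rw [zpow_natCast, hm]⟩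
    obtain ⟨m, hm⟩ := mem_zpowers_iff.1 h3
    have h4 : Commute (z ^ i) ((b : S)⁻¹ * a) := h2
    have h5 : Commute z ((b : S)⁻¹ * a) := hm ▸ h4.zpow_left m
    have h6 : (b : S)⁻¹ * a = 1 := EightSeven.eq_one_of_comm h (T.mul_mem (T.inv_mem b.2) a.2)
      (by rw [h5.eq, mul_inv_cancel_right])
    exact Subtype.ext (inv_mul_eq_one.1 h6).symm

/-- **Norms of the complement of a Frobenius group.** -/
theorem normNe_of_frob' {G : Type*} [Group G] [Finite G] {p : ℕ} (hp : p.Prime) (R : Subgroup G) [R.Normal]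
    {A : Type*} [Group A] [Finite A] (q : ℕ) [Fact q.Prime] (hqp : q ≠ p) (hA : IsPGroup q A) (φ : A →* G ⧸ R)
    (f : G ⧸ R) (α : A →* A) (hα : ∀ k, f * φ k = φ (α k) * f) (r : ℕ) (hr : 0 < r)
    (hinj : ∀ i, 0 < i → i < r → Function.Injective fun k : A => k * ((⇑α)^[i] k)⁻¹)
    (k0 : A) (hk0 : act p R (φ k0) ≠ 1) : NormNe p R f r := by
  have := Fact.mk hp
  let _ : CommGroup (omZ p R) := commGroup p R
  by_contra hcon
  have hN : ∀ v : omZ p R, ∏ i ∈ Finset.range r, act p R (f ^ i) v = 1 := by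
    intro v
    by_contra h1
    exact hcon ⟨v, h1⟩
  have hcop : (Nat.card (omZ p R)).Coprime (Nat.card A) := by
    obtain ⟨a, ha⟩ := IsPGroup.iff_card.1 (isPGroup_omZ (p := p) R)
    obtain ⟨b, hb⟩ := IsPGroup.iff_card.1 hA
    rw [ha, hb]
    exact Nat.Coprime.pow _ _ ((Nat.coprime_primes hp Fact.out).2 hqp.symm)
  apply hk0
  apply MulEquiv.ext
  intro v
  exact frob_norm (act p R) φ f α hα r hr hinj hcop hN k0 v

/-- fixed points of elements generating Sylow subgroups -/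
theorem fix_of_syl {G : Type*} [Group G] [Finite G] {p : ℕ} {R : Subgroup G} [R.Normal] {r : ℕ} (hr : r.Prime)
    (S : Subgroup (G ⧸ R)) (hS : ¬ r ^ 2 ∣ Nat.card S) {x f : G ⧸ R} (hxS : x ∈ S) (hfS : f ∈ S) (hx : orderOf x = r)
    (hf : orderOf f = r) {v : omZ p R} (hv : v ≠ 1) (hfv : act p R f v = v) : ∃ w : omZ p R, w ≠ 1 ∧ act p R x w = w := by
  have := Fact.mk hr
  have hSyl : ∀ s : S, orderOf s = r → ∃ P : Sylow r S, (P : Subgroup S) = zpowers s := by
    intro s hs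
    obtain ⟨P, hP⟩ := IsPGroup.exists_le_sylow (p := r) (P := zpowers s)
      (IsPGroup.of_card (n := 1) (by rw [Nat.card_zpowers, hs, pow_one]))
    refine ⟨P, (eq_of_le_of_card_ge hP ?_).symm⟩
    obtain ⟨k, hk⟩ := IsPGroup.iff_card.1 P.isPGroup'
    rw [hk, Nat.card_zpowers, hs]
    rcases k with _ | _ | k
    · rw [pow_zero]
      exact hr.one_lt.le
    · rw [zero_add, pow_one]
    · exfalso
      apply hS
      refine (pow_dvd_pow r (show 2 ≤ k + 1 + 1 by omega)).trans ?_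
      rw [← hk]
      exact card_subgroup_dvd_card _
  obtain ⟨P, hP⟩ := hSyl ⟨x, hxS⟩ (by rw [Subgroup.orderOf_mk, hx])
  obtain ⟨Q, hQ⟩ := hSyl ⟨f, hfS⟩ (by rw [Subgroup.orderOf_mk, hf])
  obtain ⟨g, hg⟩ := MulAction.exists_smul_eq S P Q
  have hgx : g * ⟨x, hxS⟩ * g⁻¹ ∈ zpowers (⟨f, hfS⟩ : S) := by
    rw [← hQ, ← hg, Sylow.coe_subgroup_smul, Subgroup.mem_pointwise_smul_iff_inv_smul_mem, hP]
    have : ((MulAut.conj g)⁻¹ • (g * ⟨x, hxS⟩ * g⁻¹) : S) = ⟨x, hxS⟩ := by
      change (MulAut.conj g)⁻¹ (g * ⟨x, hxS⟩ * g⁻¹) = ⟨x, hxS⟩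
      rw [← map_inv, MulAut.conj_apply]
      group
    rw [this]
    exact mem_zpowers _
  obtain ⟨k, hk⟩ := mem_zpowers_iff.1 hgx
  have h3 : act p R (f ^ k) v = v := by
    have h3 : (act p R f) ∈ MulAction.stabilizer (MulAut (omZ p R)) v := hfv
    have h4 := (MulAction.stabilizer (MulAut (omZ p R)) v).zpow_mem h3 k
    rw [map_zpow]
    exact h4
  have h4 : f ^ k = (g : G ⧸ R) * x * (g : G ⧸ R)⁻¹ := congrArg Subtype.val hk
  rw [h4, map_mul, map_mul, MulAut.mul_apply, MulAut.mul_apply] at h3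
  refine ⟨act p R (g : G ⧸ R)⁻¹ v, fun h => hv ((MulEquiv.map_eq_one_iff _).1 h), ?_⟩
  have h7 := congrArg (act p R (g : G ⧸ R)⁻¹) h3
  rw [← MulAut.mul_apply, ← map_mul, inv_mul_cancel, map_one, MulAut.one_apply] at h7
  exact h7

namespace Dat

variable {G : Type} [Group G] [Finite G] {K : Subgroup G} [K.Normal] {M : Subgroup (G ⧸ K)}

/-- elements of order `7` have fixed points -/
theorem fix7 (D : Dat K M) (h87 : Has87 M) (h49 : ¬ 49 ∣ Nat.card M) {p : ℕ} (hp : p.Prime) (hp2 : p ≠ 2)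
    (hpK : p ∣ Nat.card K) {h : G ⧸ K} (hh : orderOf h = 7) : ∃ v : omZ p K, v ≠ 1 ∧ act p K h v = v := by
  obtain ⟨A, i1, i2, φ, k0, α, x, h1, h2, h3, h4, h5⟩ := h87
  have hx : orderOf (x : G ⧸ K) = 7 := by rw [Subgroup.orderOf_coe, h3]
  have hn : NormNe p K (x : G ⧸ K) 7 := by
    refine normNe_of_frob' hp K 2 hp2.symm (fun k => ⟨1, by rw [pow_one]; exact h1 k⟩) (M.subtype.comp φ) (x : G ⧸ K) α
      (fun k => congrArg Subtype.val (h4 k)) 7 (by norm_num) h5 k0 ?_
    intro h6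
    have h7 := D.not_trivial hp hpK (φ k0).2 h6
    exact h2 (Subtype.ext h7)
  obtain ⟨v, hv, hxv⟩ := hn.fix (by rw [← hx, pow_orderOf_eq_one])
  exact fix_of_syl (by norm_num) M h49 (D.mem_of_odd (by rw [hh]; norm_num) (by rw [hh]; norm_num)) x.2 hh hx hv hxv

end Dat

end Cfsg.Agent.H559.Row
end

-- part: H559/Row/Elim
section
/-!
# Rows 11 and 12: general eliminations (helper559)
-/

set_option autoImplicit false
set_option linter.unusedSectionVars false

namespace Cfsg.Agent.H559.Row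

open Subgroup Cfsg.Agent.H559.ActZ Cfsg.Agent.H559.ActFrob Cfsg.Agent.H559.CleanPrime Cfsg.Agent.H357.Sp

/-- the orders of a power of a prime -/
theorem coprime_card_of {G : Type*} [Group G] [Finite G] {K : Subgroup G} {p k : ℕ}
    (hK : ∀ t : ℕ, t.Prime → t ∣ Nat.card K → t = p) (hk : ¬ p ∣ k) : k.Coprime (Nat.card K) := by
  apply Nat.Coprime.symm
  rw [Nat.coprime_iff_gcd_eq_one]
  by_contra hne
  obtain ⟨t, ht, hd⟩ := Nat.exists_prime_and_dvd hne
  have h1 := hK t ht (hd.trans (Nat.gcd_dvd_left _ _))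
  subst h1
  exact hk (hd.trans (Nat.gcd_dvd_right _ _))

/-- an element of order divisible by `k` in the socle -/
theorem no_socle {G : Type*} [Group G] [Finite G] {K : Subgroup G} [K.Normal] {M : Subgroup (G ⧸ K)} {k : ℕ}
    (h : No k G) : No k M := (h.quotient K).of_injective M.subtype M.subtype_injective

section twelve

variable {G : Type} [Group G] [Finite G] {K : Subgroup G} [K.Normal] {M : Subgroup (G ⧸ K)} {ε : ℕ}

theorem twelve_seven (D : Dat K M) (hε : ε = 0 ∨ ε = 2) (h : Spec ε 12 G) (h35 : No 35 M) :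
    7 ∣ Nat.card K ∧ ∀ t : ℕ, t.Prime → t ∣ Nat.card K → t = 7 := by
  have h25 : No 25 G := No.of_spec h (by rcases hε with rfl | rfl <;> decide +kernel)
  have h70 : No (5 * (7 * 2)) G := No.of_spec h (by rcases hε with rfl | rfl <;> decide +kernel)
  have h105 : No (5 * (7 * 3)) G := No.of_spec h (by rcases hε with rfl | rfl <;> decide +kernel)
  have h5 := D.k5 h25
  have h7 : 7 ∣ Nat.card K := by
    by_contra h7
    obtain ⟨g, hg⟩ := h.down 35 (by norm_num) (by rcases hε with rfl | rfl <;> decide +kernel)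
    have h1 := D.no_of_odd h35 (by norm_num) (by norm_num)
    apply h1 (QuotientGroup.mk g)
    rw [orderOf_mk, hg]
    rw [hg]
    exact Nat.Coprime.mul_left (m := 5) (n := 7) ((Nat.Prime.coprime_iff_not_dvd (by norm_num)).2 h5)
      ((Nat.Prime.coprime_iff_not_dvd (by norm_num)).2 h7)
  refine ⟨h7, fun t ht htK => ?_⟩
  by_contra hne
  have hle : t ≤ 12 := by
    have h1 : t ∣ Nat.card G := htK.trans (card_subgroup_dvd_card K)
    have := Fact.mk ht
    obtain ⟨g, hg⟩ := exists_prime_orderOf_dvd_card' (G := G) t h1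
    have h2 := h.up g
    have h3 : W t = t := by
      unfold W
      rw [ht.primeFactors, Finset.sum_singleton, ht.factorization_self, pow_one]
    rw [hg, h3] at h2
    omega
  have h11 : t ≠ 11 := by
    rintro rfl
    exact D.k11 htK
  have h5' : t ≠ 5 := by
    rintro rfl
    exact h5 htK
  have h23 : t = 2 ∨ t = 3 := by
    interval_cases t <;> first | (exfalso; revert ht; norm_num; done) | simp only [_root_.Nat.reduceMul, _root_.Nat.reduceEqDiff, _root_.not_false_eq_true, _root_.Nat.reduceLeDiff, _root_.ne_eq, _root_.or_false, _root_.Nat.succ_ne_self, _root_.or_true, _root_.not_true_eq_false] at * 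
  rcases h23 with rfl | rfl
  · exact D.k_of_five_two (t := 7) (s := 2) (by norm_num) (by norm_num) (by norm_num) (by norm_num) (by norm_num)
      h70 h7 htK
  · exact D.k_of_five_two (t := 7) (s := 3) (by norm_num) (by norm_num) (by norm_num) (by norm_num) (by norm_num)
      h105 h7 htK

/-- an odd order missing in `M` -/
theorem twelve_odd (D : Dat K M) (hε : ε = 0 ∨ ε = 2) (h : Spec ε 12 G) (h35 : No 35 M) {k : ℕ} (hk : No k M)
    (h7 : ¬ 7 ∣ k) (h2 : ¬ 2 ∣ k) (h11 : ¬ 11 ∣ k) (h0 : 0 < k) (hkn : W k + (if Even k then ε else 0) ≤ 12) : False := by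
  obtain ⟨-, hK⟩ := twelve_seven D hε h h35
  obtain ⟨g, hg⟩ := h.down k h0 hkn
  apply D.no_of_odd hk h2 h11 (QuotientGroup.mk g)
  rw [orderOf_mk, hg]
  rw [hg]
  exact coprime_card_of hK h7

/-- an even order missing in `M` -/
theorem twelve_even (D : Dat K M) (hε : ε = 0 ∨ ε = 2) (h : Spec ε 12 G) (h35 : No 35 M) {k : ℕ} (hk : No k M)
    (h7 : ¬ 7 ∣ 2 * k) (h11 : ¬ 11 ∣ k) (h0 : 0 < k)
    (hkn : W (2 * k) + (if Even (2 * k) then ε else 0) ≤ 12) : False := by
  obtain ⟨-, hK⟩ := twelve_seven D hε h h35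
  obtain ⟨g, hg⟩ := h.down (2 * k) (by omega) hkn
  apply D.no_of_two hk h11 (QuotientGroup.mk g)
  rw [orderOf_mk, hg]
  rw [hg]
  exact coprime_card_of hK h7

/-- the subgroup `5 × S₃` -/
theorem twelve_sym (D : Dat K M) (hε : ε = 0 ∨ ε = 2) (h : Spec ε 12 G) (h35 : No 35 M) (h25 : ¬ 25 ∣ Nat.card M)
    {x t z : M} (hx : orderOf x = 5) (ht : orderOf t = 2) (hz : orderOf z = 3) (hxt : x * t = t * x)
    (hxz : x * z = z * x) (htz : t * z * t⁻¹ = z⁻¹) : False := by
  obtain ⟨h7, hK⟩ := twelve_seven D hε h h35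
  have h70 : No 70 G := No.of_spec h (by rcases hε with rfl | rfl <;> decide +kernel)
  have h105 : No 105 G := No.of_spec h (by rcases hε with rfl | rfl <;> decide +kernel)
  have p7 : Nat.Prime 7 := by norm_num
  have hco : ∀ s : M, orderOf (s : G ⧸ K) = orderOf s := fun s => Subgroup.orderOf_coe s
  let _ : CommGroup (omZ 7 K) := commGroup 7 K
  -- a fixed vector of `x`
  obtain ⟨f, hfM, hf, hfn⟩ := D.frob5
  obtain ⟨v0, hv0, hfv0⟩ := (hfn 7 p7 h7).fix (by rw [← hf, pow_orderOf_eq_one])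
  obtain ⟨v, hv, hxv⟩ := fix_of_syl (by norm_num) M h25 x.2 hfM (by rw [hco, hx]) hf hv0 hfv0
  -- involutions of `⟨t, z⟩` invert the fixed vectors of `x`
  have hinv : ∀ s : M, orderOf s = 2 → x * s = s * x → ∀ w : omZ 7 K, act 7 K (x : G ⧸ K) w = w →
      act 7 K (s : G ⧸ K) w = w⁻¹ := by
    intro s hs hxs w hw
    have hxs' : (x : G ⧸ K) * s = s * x := congrArg Subtype.val hxs
    -- `u = w * s w` is fixed by `s` and by `x`
    have hsx : act 7 K (x : G ⧸ K) (act 7 K (s : G ⧸ K) w) = act 7 K (s : G ⧸ K) w := by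
      rw [← MulAut.mul_apply, ← map_mul, hxs', map_mul, MulAut.mul_apply, hw]
    have hs2 : (s : G ⧸ K) * s = 1 := by
      have := pow_orderOf_eq_one (s : G ⧸ K)
      rwa [hco, hs, sq] at this
    have hss : act 7 K (s : G ⧸ K) (act 7 K (s : G ⧸ K) w) = w := by
      rw [← MulAut.mul_apply, ← map_mul, hs2, map_one, MulAut.one_apply]
    by_contra hne
    set u : omZ 7 K := w * act 7 K (s : G ⧸ K) w with hu
    have hu1 : u ≠ 1 := by
      intro h1
      exact hne (eq_inv_of_mul_eq_one_right h1)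
    have hsu : act 7 K (s : G ⧸ K) u = u := by
      rw [hu, map_mul, hss, mul_comm]
    have hxu : act 7 K (x : G ⧸ K) u = u := by
      rw [hu, map_mul, hsx, hw]
    have c : Commute (x : G ⧸ K) (s : G ⧸ K) := hxs'
    have h10 : orderOf ((x : G ⧸ K) * s) = 10 := by
      rw [c.orderOf_mul_eq_mul_orderOf_of_coprime (by rw [hco, hco, hx, hs]; norm_num), hco, hco, hx, hs]
    obtain ⟨g, hg⟩ := lift_fix p7 (x := (x : G ⧸ K) * (s : G ⧸ K)) (by rw [h10]; norm_num) hu1 (by
      rw [map_mul (act 7 K), MulAut.mul_apply, hsu, hxu])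
    rw [h10] at hg
    exact h70 g (by rw [hg])
  have ht2 : t * t = 1 := by rw [← sq, ← ht, pow_orderOf_eq_one]
  have htz' : orderOf (t * z) = 2 := by
    have := Fact.mk Nat.prime_two
    apply orderOf_eq_prime
    · have h1 : t⁻¹ = t := inv_eq_of_mul_eq_one_left ht2
      rw [h1] at htz
      rw [sq, ← mul_assoc, htz, inv_mul_cancel]
    · intro h1
      have h3 : z = t := by
        have h4 : t * (t * z) = t := by rw [h1, mul_one]
        rwa [← mul_assoc, ht2, one_mul] at h4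
      rw [h3, ht] at hz
      omega
  have h1 := hinv t ht hxt v hxv
  have h2 := hinv (t * z) htz' (by rw [← mul_assoc, hxt, mul_assoc, hxz, mul_assoc]) v hxv
  -- so `z` fixes `v`
  have h3 : act 7 K (z : G ⧸ K) v = v := by
    have e1 : (z : G ⧸ K) = (t : G ⧸ K) * ((t * z : M) : G ⧸ K) := by
      have : z = t * (t * z) := by rw [← mul_assoc, ht2, one_mul]
      exact congrArg Subtype.val this
    rw [e1, map_mul, MulAut.mul_apply, h2, map_inv, h1, inv_inv]
  have c : Commute (x : G ⧸ K) (z : G ⧸ K) := congrArg Subtype.val hxz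
  have h15 : orderOf ((x : G ⧸ K) * z) = 15 := by
    rw [c.orderOf_mul_eq_mul_orderOf_of_coprime (by rw [hco, hco, hx, hz]; norm_num), hco, hco, hx, hz]
  obtain ⟨g, hg⟩ := lift_fix p7 (x := (x : G ⧸ K) * (z : G ⧸ K)) (by rw [h15]; norm_num) hv (by
    rw [map_mul (act 7 K), MulAut.mul_apply, h3, hxv])
  rw [h15] at hg
  exact h105 g (by rw [hg])

end twelve

section eleven

variable {G : Type} [Group G] [Finite G] {K : Subgroup G} [K.Normal] {M : Subgroup (G ⧸ K)} {ε : ℕ}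

theorem eleven_seven (D : Dat K M) (hε : ε = 0 ∨ ε = 2) (h : Spec ε 11 G) : ¬ 7 ∣ Nat.card K :=
  D.k_of_five (by norm_num) (No.of_spec h (by rcases hε with rfl | rfl <;> decide +kernel))

/-- `7` divides `|M|` -/
theorem eleven_dvd (D : Dat K M) (hε : ε = 0 ∨ ε = 2) (h : Spec ε 11 G) : 7 ∣ Nat.card M := by
  by_contra h7
  have p7 : Nat.Prime 7 := by norm_num
  obtain ⟨g, hg⟩ := h.down 7 (by norm_num) (by rcases hε with rfl | rfl <;> decide +kernel)
  have h1 : No 7 M := fun x hx => h7 (hx.trans (_root_.orderOf_dvd_natCard x))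
  apply D.no_of_odd h1 (by norm_num) (by norm_num) (QuotientGroup.mk g)
  rw [orderOf_mk, hg]
  rw [hg]
  exact p7.coprime_iff_not_dvd.2 (eleven_seven D hε h)

theorem eleven_three (D : Dat K M) (hε : ε = 0 ∨ ε = 2) (h : Spec ε 11 G) (h21 : No 21 M) : 3 ∣ Nat.card K := by
  have p7 : Nat.Prime 7 := by norm_num
  by_contra h3
  obtain ⟨g, hg⟩ := h.down 21 (by norm_num) (by rcases hε with rfl | rfl <;> decide +kernel)
  apply D.no_of_odd h21 (by norm_num) (by norm_num) (QuotientGroup.mk g)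
  rw [orderOf_mk, hg]
  rw [hg]
  exact Nat.Coprime.mul_left (m := 3) (n := 7) ((Nat.Prime.coprime_iff_not_dvd (by norm_num)).2 h3)
    (p7.coprime_iff_not_dvd.2 (eleven_seven D hε h))

/-- in the alternating case `K` is a `3`-group -/
theorem eleven_two (D : Dat K M) (h : Spec 2 11 G) (h21 : No 21 M) : ∀ t : ℕ, t.Prime → t ∣ Nat.card K → t = 3 := by
  have h3 := eleven_three D (Or.inr rfl) h h21
  intro t ht htK
  by_contra hne
  have h5 : ¬ 5 ∣ Nat.card K := D.k5 (No.of_spec h (by decide +kernel))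
  have h7 := eleven_seven D (Or.inr rfl) h
  have hle : t ≤ 11 := by
    have h1 : t ∣ Nat.card G := htK.trans (card_subgroup_dvd_card K)
    have := Fact.mk ht
    obtain ⟨g, hg⟩ := exists_prime_orderOf_dvd_card' (G := G) t h1
    have h2 := h.up g
    have h3 : W t = t := by
      unfold W
      rw [ht.primeFactors, Finset.sum_singleton, ht.factorization_self, pow_one]
    rw [hg, h3] at h2
    omega
  have h11 : t ≠ 11 := by
    rintro rfl
    exact D.k11 htK
  have h5' : t ≠ 5 := by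
    rintro rfl
    exact h5 htK
  have h7' : t ≠ 7 := by
    rintro rfl
    exact h7 htK
  have h2 : t = 2 := by
    interval_cases t <;> first | (exfalso; revert ht; norm_num; done) | simp only [_root_.Nat.reduceEqDiff, _root_.not_false_eq_true, _root_.Nat.reduceLeDiff, _root_.ne_eq, _root_.not_true_eq_false, _root_.Std.le_refl] at * 
  subst h2
  exact D.k_of_five_two (t := 3) (s := 2) (by norm_num) (by norm_num) (by norm_num) (by norm_num) (by norm_num)
    (No.of_spec h (by decide +kernel)) h3 htK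

/-- the alternating case: `20` -/
theorem eleven_ten (D : Dat K M) (h : Spec 2 11 G) (h21 : No 21 M) (h10 : No 10 M) : False := by
  obtain ⟨g, hg⟩ := h.down 20 (by norm_num) (by decide +kernel)
  apply D.no_of_two h10 (by norm_num) (QuotientGroup.mk g)
  rw [orderOf_mk, hg]
  rw [hg]
  exact coprime_card_of (eleven_two D h h21) (by norm_num)

/-- the symmetric case: `28` and `42` -/
theorem eleven_zero (D : Dat K M) (h : Spec 0 11 G) (h21 : No 21 M) (h14 : No 14 M) (h87 : Has87 M)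
    (h49 : ¬ 49 ∣ Nat.card M) : False := by
  have p7 : Nat.Prime 7 := by norm_num
  have p3 : Nat.Prime 3 := by norm_num
  have h3K := eleven_three D (Or.inl rfl) h h21
  have h7K := eleven_seven D (Or.inl rfl) h
  have h42 : No 42 G := No.of_spec h (by decide +kernel)
  obtain ⟨g, hg⟩ := h.down 28 (by norm_num) (by decide +kernel)
  have h28 : No (2 * 14) (G ⧸ K) := D.no_of_two h14 (by norm_num)
  -- the element of order `7`
  have ho : orderOf (g ^ 4) = 7 := by
    rw [orderOf_pow_of_dvd (by norm_num) (by rw [hg]; norm_num), hg]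
  have ho' : orderOf (QuotientGroup.mk (g ^ 4) : G ⧸ K) = 7 := by
    rw [orderOf_mk, ho]
    rw [ho]
    exact p7.coprime_iff_not_dvd.2 h7K
  obtain ⟨v, hv, hgv⟩ := D.fix7 h87 h49 p3 (by norm_num) h3K ho'
  have hc : Commute (g ^ 4) (v : G) := act_mk_eq hgv
  -- the involution
  have hu : orderOf (g ^ 14) = 2 := by
    rw [orderOf_pow_of_dvd (by norm_num) (by rw [hg]; norm_num), hg]
  have huK : g ^ 14 ∈ K := by
    rw [← QuotientGroup.eq_one_iff, QuotientGroup.mk_pow]
    apply orderOf_dvd_iff_pow_eq_one.1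
    have h1 : orderOf (QuotientGroup.mk g : G ⧸ K) ∣ 28 := by
      rw [← hg]
      exact orderOf_map_dvd (QuotientGroup.mk' K) g
    have h2 : ¬ 28 ∣ orderOf (QuotientGroup.mk g : G ⧸ K) := h28 _
    have h4 : ¬ orderOf (QuotientGroup.mk g : G ⧸ K) ∣ 4 := by
      intro h4
      have h5 := orderOf_dvd_iff_pow_eq_one.1 h4
      rw [← QuotientGroup.mk_pow] at h5
      rw [h5, orderOf_one] at ho'
      omega
    set m := orderOf (QuotientGroup.mk g : G ⧸ K)
    have hm : m ≤ 28 := Nat.le_of_dvd (by norm_num) h1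
    interval_cases m <;> (clear * - h1 h4 h2; omega)
  have hvu : Commute (g ^ 14) (v : G) := mem_centralizer_iff.1 v.2.1.2 _ huK
  have hov : orderOf (v : G) = 3 := by
    have := Fact.mk p3
    exact orderOf_eq_prime v.2.2 (fun h1 => hv (Subtype.ext h1))
  have hcu : Commute (g ^ 4) (g ^ 14) := (Commute.refl g).pow_pow 4 14
  have h14' : orderOf (g ^ 4 * g ^ 14) = 14 := by
    rw [hcu.orderOf_mul_eq_mul_orderOf_of_coprime (by rw [ho, hu]; norm_num), ho, hu]
  have hfin : orderOf (g ^ 4 * g ^ 14 * v) = 42 := by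
    rw [(hc.mul_left hvu).orderOf_mul_eq_mul_orderOf_of_coprime (by rw [h14', hov]; norm_num), h14', hov]
  exact h42 _ (by rw [hfin])

end eleven

end Cfsg.Agent.H559.Row
end

private theorem dce_44f39ab6bdfc : _root_.True := by
  try have : _root_.True := by simp only [_root_.Cfsg.Agent.H559.Row.L.eq_1]
  exact _root_.True.intro
end

-- part: H752/ExSec
section
set_option linter.all false
open scoped Cfsg.Agent.FastGrp

/-!
# Cocliques of the prime graph with at least three members (helper752)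

`core` : `ρ` a set of at least three pairwise non-adjacent prime divisors of `|G|`: there are normal subgroups `L ≤ H`
of `G` with `H / L` nonabelian simple such that at most one member of `ρ` divides `|L| |G : H|`; the solvability of the
outer automorphism groups of simple groups is a hypothesis.
-/

set_option autoImplicit false
set_option linter.unusedSectionVars false

namespace Cfsg.Agent.H752.ExSec

open Subgroup Cfsg.Agent.H414.Adj

universe u

variable {G : Type u} [Group G]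

theorem relIndex_eq_card (L X : Subgroup G) [L.Normal] :
    L.relIndex X = Nat.card ↥(X.map (QuotientGroup.mk' L)) := by
  have := Subgroup.relIndex_ker X (QuotientGroup.mk' L)
  rwa [QuotientGroup.ker_mk'] at this

variable [Finite G]

/-- a chain of normal subgroups with three primes in different sections -/
theorem key {ρ : Finset ℕ} (hp : ∀ p ∈ ρ, p.Prime)
    (hco : ∀ p ∈ ρ, ∀ q ∈ ρ, p ≠ q → ¬ ∃ x : G, orderOf x = p * q) (A B : Subgroup G) [A.Normal] [B.Normal]
    (hAB : A ≤ B) {t r s : ℕ} (ht : t ∈ ρ) (hr : r ∈ ρ) (hs : s ∈ ρ) (htr : t ≠ r) (hts : t ≠ s) (hrs : r ≠ s)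
    (h1 : t ∣ B.index) (h2 : r ∣ A.relIndex B) (h3 : s ∣ Nat.card ↥A) : False := by
  rcases Cfsg.Agent.H395.Coclique.main' A B hAB s r t (hp s hs) (hp r hr) (hp t ht) hrs.symm hts.symm htr.symm h3 h2 h1
    with h | h | h
  · exact hco s hs r hr hrs.symm h
  · exact hco s hs t ht hts.symm h
  · exact hco r hr t ht htr.symm h

/-- `G / M` solvable, three primes. -/
theorem no_three (M : Subgroup G) [M.Normal] (hs : Group.IsSolvable (G ⧸ M)) {p q r : ℕ} (hp : p.Prime) (hq : q.Prime)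
    (hr : r.Prime) (hpq : p ≠ q) (hpr : p ≠ r) (hqr : q ≠ r) (hpM : p ∣ Nat.card ↥M) (hqM : q ∣ M.index)
    (hrM : r ∣ M.index) :
    (∃ x : G, orderOf x = p * q) ∨ (∃ x : G, orderOf x = p * r) ∨ (∃ x : G, orderOf x = q * r) := by
  classical
  have hts : Group.IsSolvable ↥(⊤ : Subgroup (G ⧸ M)) :=
    Group.isSolvable_of_isSolvable_injective (Subgroup.subtype_injective _)
  obtain ⟨V, hV, -, hV1⟩ := Cfsg.Agent.H395.Coclique.exists_sep hq hr hqr (G := G ⧸ M) _ ⊤ inferInstance hts rfl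
    (Or.inl (by rw [Subgroup.card_top, ← Subgroup.index_eq_card]; exact hqM))
  set W : Subgroup G := V.comap (QuotientGroup.mk' M) with hW
  have hWn : W.Normal := inferInstance
  have hMW : M ≤ W := by
    intro k hk
    rw [hW, Subgroup.mem_comap]
    have h1 : QuotientGroup.mk' M k = 1 := (QuotientGroup.eq_one_iff k).2 hk
    rw [h1]
    exact one_mem V
  have hrel : M.relIndex W = Nat.card ↥V := by
    have h1 : W.map (QuotientGroup.mk' M) = V :=
      Subgroup.map_comap_eq_self_of_surjective (QuotientGroup.mk'_surjective M) V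
    rw [relIndex_eq_card, h1]
  have hidx : M.relIndex W * W.index = M.index := Subgroup.relIndex_mul_index hMW
  rcases hV1 with ⟨h1, h2⟩ | ⟨h1, h2⟩
  · have h3 : r ∣ W.index := by
      rw [← hidx, hrel] at hrM
      exact (hr.dvd_mul.1 hrM).resolve_left h2
    exact Cfsg.Agent.H395.Coclique.main' M W hMW p q r hp hq hr hpq hpr hqr hpM (by rw [hrel]; exact h1) h3
  · have h3 : q ∣ W.index := by
      rw [← hidx, hrel] at hqM
      exact (hq.dvd_mul.1 hqM).resolve_left h2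
    rcases Cfsg.Agent.H395.Coclique.main' M W hMW p r q hp hr hq hpr hpq hqr.symm hpM (by rw [hrel]; exact h1) h3
      with h4 | h4 | ⟨x, h4⟩
    · exact Or.inr (Or.inl h4)
    · exact Or.inl h4
    · exact Or.inr (Or.inr ⟨x, by rw [h4, mul_comm]⟩)

/-! ### Chief factors -/

/-- `H / L` is a chief factor -/
def Chief (L H : Subgroup G) : Prop :=
  ∀ N : Subgroup G, N.Normal → L ≤ N → N ≤ H → N = L ∨ N = H

/-- two distinct primes of `ρ` divide `|H : L|` -/
def Two (ρ : Finset ℕ) (L H : Subgroup G) : Prop :=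
  ∃ a ∈ ρ, ∃ b ∈ ρ, a ≠ b ∧ a ∣ L.relIndex H ∧ b ∣ L.relIndex H

theorem relIndex_lt {L N H : Subgroup G} (hLN : L ≤ N) (hNH : N ≤ H) (hN : N ≠ H) :
    L.relIndex N < L.relIndex H := by
  rw [← Subgroup.relIndex_mul_relIndex L N H hLN hNH]
  have h1 : N.relIndex H ≠ 1 := fun h => hN (le_antisymm hNH (Subgroup.relIndex_eq_one.1 h))
  have h2 : 0 < N.relIndex H := Nat.pos_of_dvd_of_pos (Subgroup.relIndex_dvd_card N H) Nat.card_pos
  have h3 : 0 < L.relIndex N := Nat.pos_of_dvd_of_pos (Subgroup.relIndex_dvd_card L N) Nat.card_pos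
  have h4 : 2 ≤ N.relIndex H := by omega
  nlinarith

theorem relIndex_lt' {L N H : Subgroup G} (hLN : L ≤ N) (hNH : N ≤ H) (hN : N ≠ L) :
    N.relIndex H < L.relIndex H := by
  rw [← Subgroup.relIndex_mul_relIndex L N H hLN hNH]
  have h1 : L.relIndex N ≠ 1 := fun h => hN (le_antisymm (Subgroup.relIndex_eq_one.1 h) hLN)
  have h2 : 0 < N.relIndex H := Nat.pos_of_dvd_of_pos (Subgroup.relIndex_dvd_card N H) Nat.card_pos
  have h3 : 0 < L.relIndex N := Nat.pos_of_dvd_of_pos (Subgroup.relIndex_dvd_card L N) Nat.card_pos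
  have h4 : 2 ≤ L.relIndex N := by omega
  nlinarith

theorem dvd_index_of_relIndex {A B : Subgroup G} (h : A ≤ B) {p : ℕ} (hp : p ∣ A.relIndex B) : p ∣ A.index := by
  rw [← Subgroup.relIndex_mul_index h]
  exact hp.mul_right _

theorem index_dvd_of_le' {A B : Subgroup G} (h : A ≤ B) {p : ℕ} (hp : p ∣ B.index) : p ∣ A.index :=
  hp.trans (Subgroup.index_dvd_of_le h)

theorem dvd_card_of_relIndex {A B : Subgroup G} {p : ℕ} (hp : p ∣ A.relIndex B) : p ∣ Nat.card ↥B :=
  hp.trans (Subgroup.relIndex_dvd_card A B)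

theorem exists_third {ρ : Finset ℕ} (h3 : 3 ≤ ρ.card) (a b : ℕ) : ∃ c ∈ ρ, c ≠ a ∧ c ≠ b := by
  classical
  by_contra hcon
  push Not at hcon
  have h1 : ρ ⊆ {a, b} := by
    intro c hc
    by_cases h : c = a
    · simp [h]
    · simp [hcon c hc h]
  have h2 := Finset.card_le_card h1
  have h4 : ({a, b} : Finset ℕ).card ≤ 2 := Finset.card_le_two
  omega

theorem card_eq (L N H : Subgroup G) (hLN : L ≤ N) (hNH : N ≤ H) :
    Nat.card G = Nat.card ↥L * L.relIndex N * N.relIndex H * H.index := by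
  rw [← Subgroup.relIndex_bot_left L, Subgroup.relIndex_mul_relIndex ⊥ L N bot_le hLN,
    Subgroup.relIndex_mul_relIndex ⊥ N H bot_le hNH, Subgroup.relIndex_bot_left, mul_comm, Subgroup.index_mul_card]

section main

variable {ρ : Finset ℕ} (hρ : ∀ p ∈ ρ, p.Prime ∧ p ∣ Nat.card G)
  (hco : ∀ p ∈ ρ, ∀ q ∈ ρ, p ≠ q → ¬ ∃ x : G, orderOf x = p * q)

include hρ hco

/-- a chief factor of order divisible by two primes of `ρ` -/
theorem exists_chief (h3 : 3 ≤ ρ.card) :
    ∃ L H : Subgroup G, L.Normal ∧ H.Normal ∧ L ≤ H ∧ Two ρ L H ∧ Chief L H := by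
  classical
  let P : ℕ → Prop := fun n => ∃ L H : Subgroup G, L.Normal ∧ H.Normal ∧ L ≤ H ∧ Two ρ L H ∧ L.relIndex H = n
  have hex : ∃ n, P n := by
    obtain ⟨a, ha, -, -⟩ := exists_third h3 0 0
    obtain ⟨b, hb, hba, -⟩ := exists_third h3 a a
    refine ⟨_, ⊥, ⊤, inferInstance, inferInstance, bot_le, ⟨a, ha, b, hb, hba.symm, ?_, ?_⟩, rfl⟩
    · rw [Subgroup.relIndex_bot_left, Subgroup.card_top]
      exact (hρ a ha).2
    · rw [Subgroup.relIndex_bot_left, Subgroup.card_top]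
      exact (hρ b hb).2
  obtain ⟨L, H, hL, hH, hLH, hT, hn⟩ := Nat.find_spec hex
  refine ⟨L, H, hL, hH, hLH, hT, ?_⟩
  intro N hN hLN hNH
  by_contra hcon
  push Not at hcon
  have hmin : ∀ A B : Subgroup G, A.Normal → B.Normal → A ≤ B → A.relIndex B < L.relIndex H → ¬ Two ρ A B := by
    intro A B hA hB hAB hlt h2
    rw [hn] at hlt
    exact Nat.find_min hex hlt ⟨A, B, hA, hB, hAB, h2, rfl⟩
  have m1 := hmin L N hL hN hLN (relIndex_lt hLN hNH hcon.2)
  have m2 := hmin N H hN hH hNH (relIndex_lt' hLN hNH hcon.1)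
  obtain ⟨a, ha, b, hb, hab, ha1, hb1⟩ := hT
  have hpr : ∀ p ∈ ρ, p.Prime := fun p hp => (hρ p hp).1
  -- one prime below, one above
  obtain ⟨x, hx, y, hy, hxy, hx1, hy1⟩ : ∃ x ∈ ρ, ∃ y ∈ ρ, x ≠ y ∧ x ∣ L.relIndex N ∧ y ∣ N.relIndex H := by
    rw [← Subgroup.relIndex_mul_relIndex L N H hLN hNH] at ha1 hb1
    rcases (hpr a ha).dvd_mul.1 ha1 with h | h <;> rcases (hpr b hb).dvd_mul.1 hb1 with h' | h'
    · exact absurd ⟨a, ha, b, hb, hab, h, h'⟩ m1
    · exact ⟨a, ha, b, hb, hab, h, h'⟩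
    · exact ⟨b, hb, a, ha, hab.symm, h', h⟩
    · exact absurd ⟨a, ha, b, hb, hab, h, h'⟩ m2
  obtain ⟨c, hc, hcx, hcy⟩ := exists_third h3 x y
  have h5 := (hρ c hc).2
  rw [card_eq L N H hLN hNH] at h5
  rcases (hpr c hc).dvd_mul.1 h5 with h5 | h5
  · rcases (hpr c hc).dvd_mul.1 h5 with h5 | h5
    · rcases (hpr c hc).dvd_mul.1 h5 with h5 | h5
      · exact key hpr hco L N hLN hy hx hc hxy.symm hcy.symm hcx.symm (dvd_index_of_relIndex hNH hy1) hx1 h5
      · exact m1 ⟨c, hc, x, hx, hcx, h5, hx1⟩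
    · exact m2 ⟨c, hc, y, hy, hcy, h5, hy1⟩
  · exact key hpr hco N H hNH hc hy hx hcy hcx hxy.symm h5 hy1 (dvd_card_of_relIndex hx1)

/-- a chief factor below `L`, for two primes dividing `|L|` and a third one dividing `|G : L|` -/
theorem exists_chief_le {L : Subgroup G} (hLn : L.Normal) {a b c : ℕ} (ha : a ∈ ρ) (hb : b ∈ ρ) (hc : c ∈ ρ)
    (hab : a ≠ b) (hac : a ≠ c) (hbc : b ≠ c) (haL : a ∣ Nat.card ↥L) (hbL : b ∣ Nat.card ↥L) (hcL : c ∣ L.index) :
    ∃ L' H' : Subgroup G, L'.Normal ∧ H'.Normal ∧ L' ≤ H' ∧ H' ≤ L ∧ a ∣ L'.relIndex H' ∧ b ∣ L'.relIndex H' ∧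
      Chief L' H' := by
  classical
  let P : ℕ → Prop := fun n => ∃ L' H' : Subgroup G, L'.Normal ∧ H'.Normal ∧ L' ≤ H' ∧ H' ≤ L ∧
    a ∣ L'.relIndex H' ∧ b ∣ L'.relIndex H' ∧ L'.relIndex H' = n
  have hex : ∃ n, P n :=
    ⟨_, ⊥, L, inferInstance, hLn, bot_le, le_rfl, by rwa [Subgroup.relIndex_bot_left],
      by rwa [Subgroup.relIndex_bot_left], rfl⟩
  obtain ⟨L', H', hL', hH', hLH', hHL, h1, h2, hn⟩ := Nat.find_spec hex
  refine ⟨L', H', hL', hH', hLH', hHL, h1, h2, ?_⟩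
  intro N hN hLN hNH
  by_contra hcon
  push Not at hcon
  have hmin : ∀ A B : Subgroup G, A.Normal → B.Normal → A ≤ B → B ≤ L → A.relIndex B < L'.relIndex H' →
      ¬ (a ∣ A.relIndex B ∧ b ∣ A.relIndex B) := by
    intro A B hA hB hAB hBL hlt h2
    rw [hn] at hlt
    exact Nat.find_min hex hlt ⟨A, B, hA, hB, hAB, hBL, h2.1, h2.2, rfl⟩
  have m1 := hmin L' N hL' hN hLN (hNH.trans hHL) (relIndex_lt hLN hNH hcon.2)
  have m2 := hmin N H' hN hH' hNH hHL (relIndex_lt' hLN hNH hcon.1)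
  have hpr : ∀ p ∈ ρ, p.Prime := fun p hp => (hρ p hp).1
  have hcH : c ∣ H'.index := index_dvd_of_le' hHL hcL
  rw [← Subgroup.relIndex_mul_relIndex L' N H' hLN hNH] at h1 h2
  rcases (hpr a ha).dvd_mul.1 h1 with h | h <;> rcases (hpr b hb).dvd_mul.1 h2 with h' | h'
  · exact m1 ⟨h, h'⟩
  · exact key hpr hco N H' hNH hc hb ha hbc.symm hac.symm hab.symm hcH h' (dvd_card_of_relIndex h)
  · exact key hpr hco N H' hNH hc ha hb hac.symm hbc.symm hab hcH h (dvd_card_of_relIndex h')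
  · exact m2 ⟨h, h'⟩

/-- a chief factor of order divisible by two primes of `ρ` is nonabelian simple -/
theorem simple_of_chief {L H : Subgroup G} (hL : L.Normal) (hH : H.Normal) (hLH : L ≤ H) (hC : Chief L H) {a b : ℕ}
    (ha : a ∈ ρ) (hb : b ∈ ρ) (hab : a ≠ b) (haH : a ∣ L.relIndex H) (hbH : b ∣ L.relIndex H) :
    IsSimpleGroup ↥(H.map (QuotientGroup.mk' L)) ∧ ¬ IsMulCommutative ↥(H.map (QuotientGroup.mk' L)) := by
  classical
  set M : Subgroup (G ⧸ L) := H.map (QuotientGroup.mk' L) with hM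
  have hMn : M.Normal := hH.map _ (QuotientGroup.mk'_surjective L)
  have hcard : L.relIndex H = Nat.card ↥M := relIndex_eq_card L H
  rw [hcard] at haH hbH
  have hap := (hρ a ha).1
  have hbp := (hρ b hb).1
  have hno : ¬ ∃ x : ↥M, orderOf x = a * b := by
    rintro ⟨x, hx⟩
    exact hco a ha b hb hab (exists_order_quot L (Nat.mul_ne_zero hap.ne_zero hbp.ne_zero)
      ⟨(x : G ⧸ L), by rw [Subgroup.orderOf_coe, hx]⟩)
  have hM1 : M ≠ ⊥ := by
    intro h
    rw [h, Subgroup.card_bot] at haH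
    exact hap.one_lt.ne' (Nat.dvd_one.1 haH)
  have hmin : ∀ N : Subgroup (G ⧸ L), N.Normal → N ≤ M → N = ⊥ ∨ N = M := by
    intro N hN hNM
    have h1 : L ≤ N.comap (QuotientGroup.mk' L) := by
      intro k hk
      rw [Subgroup.mem_comap]
      have h1 : QuotientGroup.mk' L k = 1 := (QuotientGroup.eq_one_iff k).2 hk
      rw [h1]
      exact one_mem N
    have h2 : N.comap (QuotientGroup.mk' L) ≤ H := by
      intro x hx
      obtain ⟨y, hy, hxy⟩ := hNM (Subgroup.mem_comap.1 hx)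
      have h3 : y⁻¹ * x ∈ L := QuotientGroup.eq.1 hxy
      have h4 : x = y * (y⁻¹ * x) := by group
      rw [h4]
      exact mul_mem hy (hLH h3)
    have h3 := Subgroup.map_comap_eq_self_of_surjective (QuotientGroup.mk'_surjective L) N
    rcases hC _ (hN.comap _) h1 h2 with h | h
    · left
      rw [← h3, h, eq_bot_iff]
      rintro _ ⟨x, hx, rfl⟩
      exact (QuotientGroup.eq_one_iff x).2 hx
    · right
      rw [← h3, h, hM]
  obtain ⟨T, _, m, hT, hm, ⟨e⟩⟩ := Cfsg.Agent.S0721.result M hM1 hmin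
  have : Finite ↥M := inferInstance
  have hfinF : Finite (Fin m → T) := Finite.of_equiv _ e.toEquiv
  have hfin : Finite T := by
    let i0 : Fin m := ⟨0, hm⟩
    exact Finite.of_surjective (fun f : Fin m → T => f i0) fun t => ⟨fun _ => t, rfl⟩
  have hcT : Nat.card ↥M = Nat.card T ^ m := by
    rw [Nat.card_congr e.toEquiv, Nat.card_pi]
    simp
  have haT : a ∣ Nat.card T := hap.dvd_of_dvd_pow (hcT ▸ haH)
  have hbT : b ∣ Nat.card T := hbp.dvd_of_dvd_pow (hcT ▸ hbH)
  have fa := Fact.mk hap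
  have fb := Fact.mk hbp
  obtain ⟨x, hx⟩ := exists_prime_orderOf_dvd_card' a haT
  obtain ⟨y, hy⟩ := exists_prime_orderOf_dvd_card' b hbT
  have hinj : ∀ i : Fin m, Function.Injective (MonoidHom.mulSingle (fun _ : Fin m => T) i) :=
    fun i => Pi.mulSingle_injective (M := fun _ : Fin m => T) i
  have hm1 : m = 1 := by
    by_contra hm1
    have hm2 : 1 < m := by omega
    let i0 : Fin m := ⟨0, hm⟩
    let i1 : Fin m := ⟨1, hm2⟩
    have hne : i0 ≠ i1 := by simp [i0, i1]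
    have hcomm : Commute (MonoidHom.mulSingle (fun _ : Fin m => T) i0 x)
        (MonoidHom.mulSingle (fun _ : Fin m => T) i1 y) :=
      Pi.mulSingle_commute (f := fun _ : Fin m => T) hne x y
    obtain ⟨z, hz⟩ := exists_order_mul_of_commute hap hbp hab
      ((orderOf_injective _ (hinj i0) x).trans hx) ((orderOf_injective _ (hinj i1) y).trans hy) hcomm
    exact hno ⟨e.symm z, by rw [MulEquiv.orderOf_eq, hz]⟩
  subst hm1
  let e1 : ↥M ≃* T := e.trans
    { toFun := fun f => f 0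
      invFun := fun t _ => t
      left_inv := fun f => by funext i; rw [Subsingleton.elim i 0]
      right_inv := fun _ => rfl
      map_mul' := fun _ _ => rfl }
  refine ⟨e1.isSimpleGroup_congr.2 hT, ?_⟩
  intro hc
  obtain ⟨x', hx'⟩ := exists_prime_orderOf_dvd_card' a haH
  obtain ⟨y', hy'⟩ := exists_prime_orderOf_dvd_card' b hbH
  exact hno (exists_order_mul_of_commute hap hbp hab hx' hy' (mul_comm' x' y'))

end main

/-! ### The Schreier argument -/

/-- the centralizer of a simple factor -/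
theorem exists_cent (hSch : ∀ (S : Type u) [Group S] [Finite S] [IsSimpleGroup S], Group.IsSolvable (Cfsg.Out S))
    {L H : Subgroup G} (hL : L.Normal) (hH : H.Normal)
    (hs : IsSimpleGroup ↥(H.map (QuotientGroup.mk' L))) :
    ∃ C : Subgroup G, C.Normal ∧ L ≤ C ∧ (∀ _ : (H ⊔ C).Normal, Group.IsSolvable (G ⧸ (H ⊔ C))) ∧
      ∀ x y : ℕ, x.Prime → y.Prime → x ≠ y → x ∣ L.relIndex H → y ∣ L.relIndex C → ∃ g : G, orderOf g = x * y := by
  classical
  set M : Subgroup (G ⧸ L) := H.map (QuotientGroup.mk' L) with hM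
  have hMn : M.Normal := hH.map _ (QuotientGroup.mk'_surjective L)
  set D : Subgroup (G ⧸ L) := centralizer (M : Set (G ⧸ L)) with hD
  have hDn : D.Normal := by
    refine ⟨fun d hd g => ?_⟩
    rw [hD, Subgroup.mem_centralizer_iff] at hd ⊢
    intro m hm
    have h1 := hd (g⁻¹ * m * g) (by simpa using hMn.conj_mem m hm g⁻¹)
    calc m * (g * d * g⁻¹) = g * ((g⁻¹ * m * g) * d) * g⁻¹ := by group
      _ = g * (d * (g⁻¹ * m * g)) * g⁻¹ := by rw [h1]
      _ = g * d * g⁻¹ * m := by group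
  refine ⟨D.comap (QuotientGroup.mk' L), hDn.comap _, ?_, ?_, ?_⟩
  · intro k hk
    rw [Subgroup.mem_comap]
    have h1 : QuotientGroup.mk' L k = 1 := (QuotientGroup.eq_one_iff k).2 hk
    rw [h1]
    exact one_mem D
  · intro hn
    have hout : Group.IsSolvable (Cfsg.Out ↥M) := hSch ↥M
    let ψ : G →* Cfsg.Out ↥M := ((QuotientGroup.mk' _).comp (MulAut.conjNormal (H := M))).comp (QuotientGroup.mk' L)
    have hker : ψ.ker ≤ H ⊔ D.comap (QuotientGroup.mk' L) := by
      intro x hx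
      have h1 : QuotientGroup.mk' _ (MulAut.conjNormal (H := M) (QuotientGroup.mk' L x)) = (1 : Cfsg.Out ↥M) := hx
      have h2 := (QuotientGroup.eq_one_iff (MulAut.conjNormal (H := M) (QuotientGroup.mk' L x))).1 h1
      obtain ⟨s, hs⟩ := h2
      obtain ⟨h, hh, hhs⟩ := s.2
      have h3 : h⁻¹ * x ∈ D.comap (QuotientGroup.mk' L) := by
        rw [Subgroup.mem_comap, hD, Subgroup.mem_centralizer_iff]
        intro t ht
        have h4 := congrArg (fun f : MulAut ↥M => ((f ⟨t, ht⟩ : ↥M) : G ⧸ L)) hs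
        have h5 : (s : G ⧸ L) * t * (s : G ⧸ L)⁻¹ = QuotientGroup.mk' L x * t * (QuotientGroup.mk' L x)⁻¹ := h4
        rw [map_mul, map_inv, hhs]
        have h6 : t = (s : G ⧸ L)⁻¹ * (QuotientGroup.mk' L x * t * (QuotientGroup.mk' L x)⁻¹) * s := by
          rw [← h5]; group
        calc t * ((s : G ⧸ L)⁻¹ * QuotientGroup.mk' L x) =
            ((s : G ⧸ L)⁻¹ * (QuotientGroup.mk' L x * t * (QuotientGroup.mk' L x)⁻¹) * s) *
              ((s : G ⧸ L)⁻¹ * QuotientGroup.mk' L x) := by rw [← h6]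
          _ = (s : G ⧸ L)⁻¹ * QuotientGroup.mk' L x * t := by group
      have h7 : x = h * (h⁻¹ * x) := by group
      rw [h7]
      exact mul_mem ((le_sup_left : H ≤ H ⊔ _) hh) ((le_sup_right : _ ≤ H ⊔ _) h3)
    have h1 : Group.IsSolvable (G ⧸ ψ.ker) :=
      Group.isSolvable_of_isSolvable_injective (f := QuotientGroup.kerLift ψ) (QuotientGroup.kerLift_injective ψ)
    refine Group.isSolvable_of_surjective
      (f := QuotientGroup.map ψ.ker (H ⊔ D.comap (QuotientGroup.mk' L)) (MonoidHom.id G) hker) ?_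
    intro y
    obtain ⟨x, rfl⟩ := QuotientGroup.mk'_surjective _ y
    exact ⟨QuotientGroup.mk' _ x, rfl⟩
  · intro x y hx hy hxy h1 h2
    rw [relIndex_eq_card] at h1 h2
    rw [Subgroup.map_comap_eq_self_of_surjective (QuotientGroup.mk'_surjective L) D] at h2
    have fx := Fact.mk hx
    have fy := Fact.mk hy
    obtain ⟨u, hu⟩ := exists_prime_orderOf_dvd_card' x h1
    obtain ⟨v, hv⟩ := exists_prime_orderOf_dvd_card' y h2
    have hcomm : Commute (u : G ⧸ L) (v : G ⧸ L) := (Subgroup.mem_centralizer_iff.1 v.2 (u : G ⧸ L) u.2)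
    exact exists_order_quot L (Nat.mul_ne_zero hx.ne_zero hy.ne_zero)
      (exists_order_mul_of_commute hx hy hxy (by rw [Subgroup.orderOf_coe, hu]) (by rw [Subgroup.orderOf_coe, hv]) hcomm)

/-- a section is solvable if it is covered by a solvable quotient -/
theorem solvable_of_inf_le {L H T : Subgroup G} [L.Normal] [T.Normal] (hT : Group.IsSolvable (G ⧸ T)) (h : H ⊓ T ≤ L) :
    Group.IsSolvable ↥(H.map (QuotientGroup.mk' L)) := by
  let f : ↥H →* G ⧸ T := (QuotientGroup.mk' T).comp H.subtype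
  let g : ↥H →* ↥(H.map (QuotientGroup.mk' L)) := (QuotientGroup.mk' L).subgroupMap H
  have hg : Function.Surjective g := (QuotientGroup.mk' L).subgroupMap_surjective H
  have hfg : f.ker ≤ g.ker := by
    intro x hx
    have h1 : (x : G) ∈ T := (QuotientGroup.eq_one_iff (x : G)).1 hx
    rw [MonoidHom.mem_ker]
    apply Subtype.ext
    exact (QuotientGroup.eq_one_iff (x : G)).2 (h ⟨x.2, h1⟩)
  have h1 : Group.IsSolvable (↥H ⧸ f.ker) :=
    Group.isSolvable_of_isSolvable_injective (f := QuotientGroup.kerLift f) (QuotientGroup.kerLift_injective f)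
  refine Group.isSolvable_of_surjective (f := QuotientGroup.lift f.ker g hfg) ?_
  intro y
  obtain ⟨x, rfl⟩ := hg y
  exact ⟨QuotientGroup.mk' f.ker x, rfl⟩

/-- **The core.** -/
theorem core (hSch : ∀ (S : Type u) [Group S] [Finite S] [IsSimpleGroup S], Group.IsSolvable (Cfsg.Out S))
    {ρ : Finset ℕ} (h3 : 3 ≤ ρ.card) (hρ : ∀ p ∈ ρ, p.Prime ∧ p ∣ Nat.card G)
    (hco : ∀ p ∈ ρ, ∀ q ∈ ρ, p ≠ q → ¬ ∃ x : G, orderOf x = p * q) :
    ∃ L H : Subgroup G, L.Normal ∧ H.Normal ∧ L ≤ H ∧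
      (∀ _ : L.Normal, IsSimpleGroup ↥(H.map (QuotientGroup.mk' L)) ∧
        ¬ IsMulCommutative ↥(H.map (QuotientGroup.mk' L))) ∧
      ∀ p ∈ ρ, ∀ q ∈ ρ, (p ∣ Nat.card ↥L ∨ p ∣ H.index) → (q ∣ Nat.card ↥L ∨ q ∣ H.index) → p = q := by
  classical
  obtain ⟨L, H, hL, hH, hLH, ⟨a, ha, b, hb, hab, haH, hbH⟩, hC⟩ := exists_chief hρ hco h3
  obtain ⟨hs, hna⟩ := simple_of_chief hρ hco hL hH hLH hC ha hb hab haH hbH
  refine ⟨L, H, hL, hH, hLH, fun _ => ⟨hs, hna⟩, ?_⟩
  have hpr : ∀ p ∈ ρ, p.Prime := fun p hp => (hρ p hp).1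
  have hfac : ∀ p ∈ ρ, p ∣ Nat.card ↥L ∨ p ∣ L.relIndex H ∨ p ∣ H.index := by
    intro p hp
    have h1 := (hρ p hp).2
    rw [card_eq L L H le_rfl hLH, Subgroup.relIndex_self, mul_one] at h1
    rcases (hpr p hp).dvd_mul.1 h1 with h | h
    · rcases (hpr p hp).dvd_mul.1 h with h | h
      · exact Or.inl h
      · exact Or.inr (Or.inl h)
    · exact Or.inr (Or.inr h)
  -- a prime of the simple factor different from two given ones, or the two given ones divide its order
  have hD : ∀ p q : ℕ, p ≠ q → (∃ c ∈ ρ, c ≠ p ∧ c ≠ q ∧ c ∣ L.relIndex H) ∨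
      (p ∣ L.relIndex H ∧ q ∣ L.relIndex H) := by
    intro p q hpq
    by_cases h1 : a ≠ p ∧ a ≠ q
    · exact Or.inl ⟨a, ha, h1.1, h1.2, haH⟩
    · by_cases h2 : b ≠ p ∧ b ≠ q
      · exact Or.inl ⟨b, hb, h2.1, h2.2, hbH⟩
      · right
        have h1' : a = p ∨ a = q := by
          by_contra h
          push Not at h
          exact h1 h
        have h2' : b = p ∨ b = q := by
          by_contra h
          push Not at h
          exact h2 h
        rcases h1' with rfl | rfl <;> rcases h2' with rfl | rfl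
        · exact absurd rfl hab
        · exact ⟨haH, hbH⟩
        · exact ⟨hbH, haH⟩
        · exact absurd rfl hab
  -- one above and one below
  have claim1 : ∀ p ∈ ρ, ∀ q ∈ ρ, p ≠ q → p ∣ H.index → q ∣ Nat.card ↥L → False := by
    intro p hp q hq hpq h1 h2
    rcases hD p q hpq with ⟨c, hc, hcp, hcq, hcH⟩ | ⟨h4, h5⟩
    · exact key hpr hco L H hLH hp hc hq hcp.symm hpq hcq h1 hcH h2
    · obtain ⟨c, hc, hcp, hcq⟩ := exists_third h3 p q
      rcases hfac c hc with h | h | h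
      · exact key hpr hco L H hLH hp hq hc hpq hcp.symm hcq.symm h1 h5 h
      · exact key hpr hco L H hLH hp hc hq hcp.symm hpq hcq h1 h h2
      · exact key hpr hco L H hLH hc hp hq hcp hcq hpq h h4 h2
  -- two above
  have claim2 : ∀ p ∈ ρ, ∀ q ∈ ρ, p ≠ q → p ∣ H.index → q ∣ H.index → False := by
    intro p hp q hq hpq h1 h2
    obtain ⟨C, hCn, hLC, hsol, hadj⟩ := exists_cent hSch hL hH hs
    have hTn : (H ⊔ C).Normal := inferInstance
    have hsol' := hsol hTn
    have hnC : ∀ x ∈ ρ, ¬ x ∣ L.relIndex C := by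
      intro x hx hxC
      obtain ⟨y, hy, hyx, hyH⟩ : ∃ y ∈ ρ, y ≠ x ∧ y ∣ L.relIndex H := by
        by_cases h : a = x
        · exact ⟨b, hb, fun h' => hab (h.trans h'.symm), hbH⟩
        · exact ⟨a, ha, h, haH⟩
      exact hco y hy x hx hyx (hadj y x (hpr y hy) (hpr x hx) hyx hyH hxC)
    have hT : ∀ x ∈ ρ, x ∣ H.index → x ∣ (H ⊔ C).index := by
      intro x hx hxH
      rw [← Subgroup.relIndex_mul_index (le_sup_left : H ≤ H ⊔ C)] at hxH
      rcases (hpr x hx).dvd_mul.1 hxH with h | h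
      · exfalso
        apply hnC x hx
        rw [Subgroup.relIndex_sup_left] at h
        exact h.trans (Subgroup.relIndex_dvd_of_le_left C hLH)
      · exact h
    have hp' := hT p hp h1
    have hq' := hT q hq h2
    obtain ⟨c, hc, hcp, hcq⟩ := exists_third h3 p q
    have h5 := (hρ c hc).2
    rw [← Subgroup.index_mul_card (H ⊔ C)] at h5
    rcases (hpr c hc).dvd_mul.1 h5 with h5 | h5
    · -- all three divide the order of a solvable quotient
      have hcard : ({p, q, c} : Finset ℕ).card = 3 := by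
        rw [Finset.card_insert_of_notMem, Finset.card_insert_of_notMem, Finset.card_singleton]
        · simpa using hcq.symm
        · simp only [Finset.mem_insert, Finset.mem_singleton, not_or]
          exact ⟨hpq, hcp.symm⟩
      have hsub : ∀ t ∈ ({p, q, c} : Finset ℕ), t ∈ ρ ∧ t ∣ (H ⊔ C).index := by
        intro t ht
        simp only [Finset.mem_insert, Finset.mem_singleton] at ht
        rcases ht with rfl | rfl | rfl
        · exact ⟨hp, hp'⟩
        · exact ⟨hq, hq'⟩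
        · exact ⟨hc, h5⟩
      have hbs : Group.IsSolvable ↥(⊥ : Subgroup (G ⧸ (H ⊔ C))) := inferInstance
      refine (Cfsg.Agent.S3633.result {p, q, c} hcard.ge ⟨fun t ht => ⟨hpr t (hsub t ht).1, ?_⟩,
        fun t ht u hu htu hx => ?_⟩ ⊥ hbs).2 hsol'
      · rw [← Subgroup.index_eq_card]
        exact (hsub t ht).2
      · exact hco t (hsub t ht).1 u (hsub u hu).1 htu (exists_order_quot (H ⊔ C)
          (Nat.mul_ne_zero (hpr t (hsub t ht).1).ne_zero (hpr u (hsub u hu).1).ne_zero) hx)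
    · rcases no_three (H ⊔ C) hsol' (hpr c hc) (hpr p hp) (hpr q hq) hcp hcq hpq h5 hp' hq' with h | h | h
      · exact hco c hc p hp hcp h
      · exact hco c hc q hq hcq h
      · exact hco p hp q hq hpq h
  -- two below
  have claim3' : ∀ p ∈ ρ, ∀ q ∈ ρ, ∀ c ∈ ρ, p ≠ q → p ≠ c → q ≠ c → p ∣ Nat.card ↥L → q ∣ Nat.card ↥L →
      c ∣ L.relIndex H → False := by
    intro p hp q hq c hc hpq hpc hqc h1 h2 h4
    obtain ⟨L', H', hL', hH', hLH', hHL, hpH, hqH, hC'⟩ := exists_chief_le hρ hco hL hp hq hc hpq hpc hqc h1 h2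
      (dvd_index_of_relIndex hLH h4)
    obtain ⟨hs', -⟩ := simple_of_chief hρ hco hL' hH' hLH' hC' hp hq hpq hpH hqH
    obtain ⟨C, hCn, hLC, hsol, hadj⟩ := exists_cent hSch hL' hH' hs'
    have hTn : (H' ⊔ C).Normal := inferInstance
    have hsol' := hsol hTn
    have hN1 : ((H ⊓ (H' ⊔ C)) ⊔ L).Normal := inferInstance
    have hsupLC : H' ⊔ C ≤ L ⊔ C := sup_le_sup_right hHL C
    rcases hC ((H ⊓ (H' ⊔ C)) ⊔ L) hN1 le_sup_right (sup_le inf_le_left hLH) with h | h
    · -- the simple factor would be solvable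
      have h5 : H ⊓ (H' ⊔ C) ≤ L := by
        rw [← h]
        exact le_sup_left
      have h6 := solvable_of_inf_le hsol' h5
      apply hna
      have h7 := IsSimpleGroup.comm_iff_isSolvable.2 h6
      exact ⟨⟨h7⟩⟩
    · have h5 : H ≤ L ⊔ C := by
        rw [← h]
        exact sup_le (inf_le_right.trans hsupLC) le_sup_left
      have h6 : c ∣ L.relIndex (L ⊔ C) := by
        rw [← Subgroup.relIndex_mul_relIndex L H (L ⊔ C) hLH h5]
        exact h4.mul_right _
      rw [Subgroup.relIndex_sup_left] at h6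
      have h7 : c ∣ L'.relIndex C := h6.trans (Subgroup.relIndex_dvd_of_le_left C (hLH'.trans hHL))
      exact hco p hp c hc hpc (hadj p c (hpr p hp) (hpr c hc) hpc hpH h7)
  have claim3 : ∀ p ∈ ρ, ∀ q ∈ ρ, p ≠ q → p ∣ Nat.card ↥L → q ∣ Nat.card ↥L → False := by
    intro p hp q hq hpq h1 h2
    rcases hD p q hpq with ⟨c, hc, hcp, hcq, hcH⟩ | ⟨h4, h5⟩
    · exact claim3' p hp q hq c hc hpq hcp.symm hcq.symm h1 h2 hcH
    · obtain ⟨c, hc, hcp, hcq⟩ := exists_third h3 p q
      rcases hfac c hc with h | h | h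
      · exact claim3' q hq c hc p hp hcq.symm hpq.symm hcp h2 h h4
      · exact claim3' p hp q hq c hc hpq hcp.symm hcq.symm h1 h2 h
      · exact claim1 c hc p hp hcp h h1
  intro p hp q hq h1 h2
  by_contra hpq
  rcases h1 with h1 | h1 <;> rcases h2 with h2 | h2
  · exact claim3 p hp q hq hpq h1 h2
  · exact claim1 q hq p hp (Ne.symm hpq) h2 h1
  · exact claim1 p hp q hq hpq h1 h2
  · exact claim2 p hp q hq hpq h1 h2

/-- **The section.** -/
theorem exists_section_of (hSch : ∀ (S : Type u) [Group S] [Finite S] [IsSimpleGroup S], Group.IsSolvable (Cfsg.Out S))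
    (ρ : Finset ℕ) (h3 : 3 ≤ ρ.card)
    (hρ : ∀ p ∈ ρ, p.Prime ∧ p ∣ Nat.card G) (hco : ∀ p ∈ ρ, ∀ q ∈ ρ, p ≠ q → ¬ ∃ x : G, orderOf x = p * q) :
    ∃ (K : Subgroup G) (_ : K.Normal) (M : Subgroup (G ⧸ K)), M.Normal ∧ IsSimpleGroup ↥M ∧ ¬ IsMulCommutative ↥M ∧
      ∃ t₀ : ℕ, ∀ p ∈ ρ, p ≠ t₀ → p ∣ Nat.card ↥M ∧ ¬ p ∣ Nat.card ↥K ∧ ¬ p ∣ M.index := by
  classical
  obtain ⟨L, H, hL, hH, hLH, hs, hu⟩ := core hSch h3 hρ hco
  obtain ⟨hs1, hs2⟩ := hs hL
  refine ⟨L, hL, H.map (QuotientGroup.mk' L), hH.map _ (QuotientGroup.mk'_surjective L), hs1, hs2, ?_⟩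
  have hidx : (H.map (QuotientGroup.mk' L)).index = H.index := by
    refine Subgroup.index_map_eq H (QuotientGroup.mk'_surjective L) ?_
    rw [QuotientGroup.ker_mk']
    exact hLH
  have key2 : ∀ p ∈ ρ, ¬ p ∣ Nat.card ↥L → ¬ p ∣ H.index →
      p ∣ Nat.card ↥(H.map (QuotientGroup.mk' L)) ∧ ¬ p ∣ Nat.card ↥L ∧
        ¬ p ∣ (H.map (QuotientGroup.mk' L)).index := by
    intro p hp h1 h2
    refine ⟨?_, h1, by rwa [hidx]⟩
    have h4 := (hρ p hp).2
    rw [card_eq L L H le_rfl hLH, Subgroup.relIndex_self, mul_one] at h4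
    rw [← relIndex_eq_card]
    rcases (hρ p hp).1.dvd_mul.1 h4 with h | h
    · exact ((hρ p hp).1.dvd_mul.1 h).resolve_left h1
    · exact absurd h h2
  by_cases hex : ∃ t ∈ ρ, t ∣ Nat.card ↥L ∨ t ∣ H.index
  · obtain ⟨t, ht, ht1⟩ := hex
    refine ⟨t, fun p hp hpt => key2 p hp (fun h => hpt (hu p hp t ht (Or.inl h) ht1))
      (fun h => hpt (hu p hp t ht (Or.inr h) ht1))⟩
  · push Not at hex
    exact ⟨0, fun p hp _ => key2 p hp (hex p hp).1 (hex p hp).2⟩

end Cfsg.Agent.H752.ExSec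
end

-- part: H825/Cov/Pred_mg
section
set_option linter.all false
open scoped Cfsg.Agent.FastGrp

-- part: H825/Cov/Pred
section
/-!
# The predicates `FixC`, `RegC` (helper825, for helper367's project S3397 / S3446)

* `FixC t k m` : every non-zero `𝔽_t`-module of `A_k` has a non-zero vector fixed by an element of order `m`;
* `RegC t k a` : `A_k` contains a Frobenius group whose complement is cyclic of order `t ^ a`.
-/

set_option autoImplicit false

namespace Cfsg.Agent.H825.Cov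

inductive FixC (t : ℕ) : ℕ → ℕ → Prop
  | one : FixC t 0 1
  | mono {k l m : ℕ} : FixC t k m → k ≤ l → FixC t l m
  | cyc {s b : ℕ} : s.Prime → s ≠ 2 → s ≠ t → 1 ≤ b → FixC t (2 * s ^ b) (s ^ b)
  | two3 {b : ℕ} : t ≠ 2 → t ≠ 3 → FixC t (3 * 2 ^ b + 2) (2 ^ (b + 1))
  | two9 {b : ℕ} : t ≠ 2 → t ≠ 3 → FixC t (9 * 2 ^ b + 2) (2 ^ (b + 3))
  | two5 {b : ℕ} : t ≠ 2 → t ≠ 5 → FixC t (5 * 2 ^ b + 2) (2 ^ (b + 2))
  | two17 {b : ℕ} : t ≠ 2 → t ≠ 17 → FixC t (17 * 2 ^ b + 2) (2 ^ (b + 4))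
  | three {b k : ℕ} : t ≠ 2 → t ≠ 3 → 5 ≤ k → 4 * 3 ^ b ≤ k → FixC t k (3 ^ (b + 1))
  | seven {b : ℕ} : t ≠ 2 → t ≠ 7 → FixC t (8 * 7 ^ b) (7 ^ (b + 1))
  | mul {k l m m' : ℕ} : FixC t k m → FixC t l m' → m.Coprime m' → FixC t (k + l) (m * m')

inductive RegC (t : ℕ) : ℕ → ℕ → Prop
  | zero : RegC t 0 0
  | odd {a : ℕ} : t ≠ 2 → 1 ≤ a → RegC t (2 * t ^ a) a
  | two3 {b : ℕ} : t = 2 → RegC t (3 * 2 ^ b + 2) (b + 1)
  | two9 {b : ℕ} : t = 2 → RegC t (9 * 2 ^ b + 2) (b + 3)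
  | two5 {b : ℕ} : t = 2 → RegC t (5 * 2 ^ b + 2) (b + 2)
  | two17 {b : ℕ} : t = 2 → RegC t (17 * 2 ^ b + 2) (b + 4)
  | three {b : ℕ} : t = 3 → RegC t (4 * 3 ^ b) (b + 1)
  | seven {b : ℕ} : t = 7 → RegC t (8 * 7 ^ b) (b + 1)

end Cfsg.Agent.H825.Cov
end

-- part: H221/Sp/Deg
section
/-!
# S3397 / S3446 (TEAM SPEC-ALT), task MGE: the degree of the top (helper221)

* `not_dvd_nc` : a prime `t` with `n < s + t`, `2 s ≤ m`, `s` odd, does not divide `|N|`;
* `ktrick` : `W k ≤ m` for odd `k` prime to `|N|` with `W k ≤ n`.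
-/

set_option autoImplicit false

namespace Cfsg.Agent.H221.Sp

open Cfsg Cfsg.Agent.H357.Sp Equiv Subgroup Cfsg.Agent.H267.Sp.SpecAlt

theorem exists_alt_hom {m : ℕ} {G : Type*} [Group G] {N : Subgroup G} [N.Normal] (hT : Top m N) :
    ∃ f : alternatingGroup (Fin m) →* G ⧸ N, Function.Injective f := by
  rcases hT with h | h
  · obtain ⟨e⟩ := h
    exact ⟨e.symm.toMonoidHom, e.symm.injective⟩
  · obtain ⟨e⟩ := h
    exact ⟨e.symm.toMonoidHom.comp (alternatingGroup (Fin m)).subtype,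
      e.symm.injective.comp (alternatingGroup (Fin m)).subtype_injective⟩

theorem exists_perm_hom {m : ℕ} {G : Type*} [Group G] {N : Subgroup G} [N.Normal] (hT : Top m N) :
    ∃ f : G ⧸ N →* Perm (Fin m), Function.Injective f := by
  rcases hT with h | h
  · obtain ⟨e⟩ := h
    exact ⟨(alternatingGroup (Fin m)).subtype.comp e.toMonoidHom,
      (alternatingGroup (Fin m)).subtype_injective.comp e.injective⟩
  · obtain ⟨e⟩ := h
    exact ⟨e.toMonoidHom, e.injective⟩

/-- two disjoint `s`-cycles -/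
theorem exists_pair {s m : ℕ} [NeZero s] (hs : Odd s) (hsm : 2 * s ≤ m) :
    ∃ f : Multiplicative (ZMod s) × Multiplicative (ZMod s) →* alternatingGroup (Fin m), Function.Injective f := by
  classical
  let θ : Multiplicative (ZMod s) →* Perm (ZMod s) := MulAction.toPermHom (Multiplicative (ZMod s)) (ZMod s)
  have hθ : Function.Injective θ := by
    intro a b h
    have h1 : θ a 0 = θ b 0 := by rw [h]
    have h2 : Multiplicative.toAdd a + 0 = Multiplicative.toAdd b + 0 := h1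
    rw [add_zero, add_zero] at h2
    exact h2
  have hcard : Fintype.card (ZMod s ⊕ ZMod s) ≤ Fintype.card (Fin m) := by
    rw [Fintype.card_sum, ZMod.card, Fintype.card_fin]
    omega
  obtain ⟨ι⟩ := Function.Embedding.nonempty_of_card_le hcard
  let Φ : Multiplicative (ZMod s) × Multiplicative (ZMod s) →* Perm (Fin m) :=
    (Perm.viaEmbeddingHom ι).comp ((Perm.sumCongrHom _ _).comp (MonoidHom.prodMap θ θ))
  have hΦ : Function.Injective Φ :=
    (Perm.viaEmbeddingHom_injective ι).comp (Perm.sumCongrHom_injective.comp (hθ.prodMap hθ))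
  have hpow : ∀ x : Multiplicative (ZMod s) × Multiplicative (ZMod s), x ^ s = 1 := by
    intro x
    have h1 : ∀ y : Multiplicative (ZMod s), y ^ s = 1 := by
      intro y
      have h2 : s • Multiplicative.toAdd y = 0 := by
        rw [nsmul_eq_mul, ZMod.natCast_self, zero_mul]
      exact h2
    exact Prod.ext (h1 _) (h1 _)
  have hsign : ∀ x, Φ x ∈ alternatingGroup (Fin m) := by
    intro x
    rw [Perm.mem_alternatingGroup]
    have h1 : (Perm.sign (Φ x)) ^ s = 1 := by rw [← map_pow, ← map_pow, hpow, map_one, map_one]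
    rcases Int.units_eq_one_or (Perm.sign (Φ x)) with h | h
    · exact h
    · rw [h, hs.neg_one_pow] at h1
      exact absurd h1 (by decide)
  exact ⟨Φ.codRestrict _ hsign, fun a b h => hΦ (congrArg Subtype.val h)⟩

variable {ε n m : ℕ} {G : Type} [Group G] [Finite G]

theorem not_dvd_nc (h : Spec ε n G) {N : Subgroup G} [N.Normal] (hT : Top m N) {t s : ℕ} (ht : t.Prime) (hs : s.Prime)
    (hs2 : s ≠ 2) (hst : s ≠ t) (hsm : 2 * s ≤ m) (hnt : n < s + t) : ¬ t ∣ Nat.card ↥N := by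
  intro hd
  have : NeZero s := ⟨hs.ne_zero⟩
  obtain ⟨f, hf⟩ := exists_pair (hs.odd_of_ne_two hs2) hsm
  obtain ⟨g, hg⟩ := exists_alt_hom hT
  have hfg : Function.Injective (g.comp f) := hg.comp hf
  obtain ⟨x, hx⟩ := Cfsg.Agent.H813.NonCyc.adj_of_noncyclic ht hs hs2 hst hd (g.comp f).range
    (by
      rw [← Nat.card_congr (MonoidHom.ofInjective hfg).toEquiv, Nat.card_prod, sq]
      have h1 : Nat.card (Multiplicative (ZMod s)) = s := Nat.card_zmod s
      rw [h1])
    (by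
      rintro _ ⟨y, rfl⟩
      have h1 : ∀ y : Multiplicative (ZMod s), y ^ s = 1 := by
        intro y
        have h2 : s • Multiplicative.toAdd y = 0 := by
          rw [nsmul_eq_mul, ZMod.natCast_self, zero_mul]
        exact h2
      rw [← map_pow, show y ^ s = 1 from Prod.ext (h1 _) (h1 _), map_one])
  have h1 := h.up x
  rw [hx, W_mul hs.ne_zero ht.ne_zero ((Nat.coprime_primes hs ht).2 hst)] at h1
  have h2 := W_pow hs one_ne_zero
  have h3 := W_pow ht one_ne_zero
  rw [pow_one] at h2 h3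
  omega

omit [Finite G] in
theorem ktrick (h : Spec ε n G) {N : Subgroup G} [N.Normal] (hT : Top m N) {k : ℕ} (hk : Odd k)
    (hkN : ∀ p : ℕ, p.Prime → p ∣ k → ¬ p ∣ Nat.card ↥N) (hW : W k ≤ n) : W k ≤ m := by
  obtain ⟨x, hx⟩ := h.down k hk.pos (by rw [if_neg (Nat.not_even_iff_odd.2 hk)]; omega)
  obtain ⟨f, hf⟩ := exists_perm_hom hT
  have h1 : orderOf (QuotientGroup.mk' N x) = k := by
    refine Nat.dvd_antisymm (hx ▸ orderOf_map_dvd _ _) ?_
    rw [← hx]
    refine orderOf_dvd_of_pow_eq_one ?_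
    have h2 : x ^ orderOf (QuotientGroup.mk' N x) ∈ N := by
      rw [← QuotientGroup.eq_one_iff]
      exact pow_orderOf_eq_one (QuotientGroup.mk' N x)
    have h3 : Nat.Coprime k (Nat.card ↥N) := Nat.coprime_of_dvd fun p hp hpk => hkN p hp hpk
    have h4 : orderOf (x ^ orderOf (QuotientGroup.mk' N x)) ∣ k := hx ▸ orderOf_pow_dvd _
    have h5 : orderOf (x ^ orderOf (QuotientGroup.mk' N x)) ∣ Nat.card ↥N := by
      have h6 := orderOf_dvd_natCard (⟨_, h2⟩ : ↥N)
      rwa [← Subgroup.orderOf_coe] at h6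
    exact orderOf_eq_one_iff.1 (Nat.eq_one_of_dvd_coprimes h3 h4 h5)
  have h2 : orderOf (f (QuotientGroup.mk' N x)) = k := by rw [orderOf_injective f hf, h1]
  have h3 := up_perm (f (QuotientGroup.mk' N x))
  rwa [h2] at h3

omit [Finite G] in
/-- `ktrick` for a product of two odd primes -/
theorem ktwo (h : Spec ε n G) {N : Subgroup G} [N.Normal] (hT : Top m N) {p q : ℕ} (hp : p.Prime) (hq : q.Prime)
    (hp2 : p ≠ 2) (hq2 : q ≠ 2) (hpq : p ≠ q) (hpN : ¬ p ∣ Nat.card ↥N) (hqN : ¬ q ∣ Nat.card ↥N) (hn : p + q ≤ n) :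
    p + q ≤ m := by
  have h1 : W (p * q) = p + q := by
    rw [W_mul hp.ne_zero hq.ne_zero ((Nat.coprime_primes hp hq).2 hpq)]
    have h2 := W_pow hp one_ne_zero
    have h3 := W_pow hq one_ne_zero
    rw [pow_one] at h2 h3
    rw [h2, h3]
  rw [← h1]
  refine ktrick h hT ((hp.odd_of_ne_two hp2).mul (hq.odd_of_ne_two hq2)) ?_ (by rw [h1]; exact hn)
  intro r hr hd
  rcases (Nat.Prime.dvd_mul hr).1 hd with hd | hd
  · rwa [(Nat.prime_dvd_prime_iff_eq hr hp).1 hd]
  · rwa [(Nat.prime_dvd_prime_iff_eq hr hq).1 hd]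


/-- the statements of the task KILL which are used below -/
structure Kill (n m : ℕ) {G : Type} [Group G] [Finite G] (N : Subgroup G) : Prop where
  seven : 8 ≤ m → n < 49 → ∀ {q : ℕ}, q.Prime → q ≤ m → q ≠ 7 → n < q + 7 → ¬ 7 ∣ Nat.card ↥N
  of_seven : ∀ {t : ℕ}, t.Prime → t ≠ 2 → t ≠ 7 → 8 ≤ m → n < 49 → n < 7 + t → ¬ t ∣ Nat.card ↥N
  five : 11 ≤ m → n < 25 → ∀ {q : ℕ}, q.Prime → q ≤ m → q ≠ 5 → n < q + 5 → ¬ 5 ∣ Nat.card ↥N
  sixteen : ∀ {t : ℕ}, t.Prime → t ≠ 17 → 19 ≤ m → n < 32 → n < 16 + t → ¬ t ∣ Nat.card ↥N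
  eleven : 23 ≤ m → n < 121 → ∀ {q : ℕ}, q.Prime → q ≤ m → q ≠ 11 → n < q + 11 → ¬ 11 ∣ Nat.card ↥N

section
variable {N : Subgroup G} [N.Normal]

theorem m16' (h : Spec ε 16 G) (hT : Top m N) (K : Kill 16 m N) (hm : 13 ≤ m) : 16 ≤ m :=
  ktwo h hT (p := 5) (q := 11) (by norm_num) (by norm_num) (by norm_num) (by norm_num) (by norm_num)
    (K.five (by omega) (by norm_num) (q := 13) (by norm_num) hm (by norm_num) (by norm_num))
    (K.of_seven (by norm_num) (by norm_num) (by norm_num) (by omega) (by norm_num) (by norm_num)) (by norm_num)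

theorem m22' (h : Spec ε 22 G) (hT : Top m N) (K : Kill 22 m N) (hm : 19 ≤ m) : 22 ≤ m :=
  ktwo h hT (p := 5) (q := 17) (by norm_num) (by norm_num) (by norm_num) (by norm_num) (by norm_num)
    (K.five (by omega) (by norm_num) (q := 19) (by norm_num) hm (by norm_num) (by norm_num))
    (not_dvd_nc h hT (s := 7) (by norm_num) (by norm_num) (by norm_num) (by norm_num) (by omega) (by norm_num))
    (by norm_num)

end

end Cfsg.Agent.H221.Sp
end
end

-- part: H357/Sp/End
section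
prune_inst 0xa0000c00002200000000000080000000100000000000000000000200020100000000800000000000000000000000002002000000400000000a000000000000001000800000000000000000000000000000000000000000000000000000000000000000000
set_option linter.all false
open scoped Cfsg.Agent.FastGrp

-- part: H896/SpAlt/SubTwo
section
/-!
# Lie type in characteristic two with a large coclique : a large `SL_k(E)` inside (helper896, task 1528 of TEAM SPEC-ALT;
the characteristic two version of helper621's `Cfsg.Agent.H621.LN.big_of_coclique`)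
-/

set_option autoImplicit false

namespace Cfsg.Agent.H896.SpAlt

open Matrix Cfsg Cfsg.Agent.H357.Sp Cfsg.Agent.H376.Coc Cfsg.Agent.H621.LN Cfsg.Agent.H621.TwoElt
open Cfsg.Agent.H376.WordEmb

theorem Sub.congr {c : ℕ} {S T : Type*} [Group S] [Group T] (e : S ≃* T) (h : Sub c S) : Sub c T := by
  obtain ⟨E, h1, h2, k, h3, f, hf⟩ := h
  refine ⟨E, h1, h2, k, h3, e.toMonoidHom.comp f, fun x hx => hf x ?_⟩
  exact (map_eq_one_iff e e.injective).1 hx

variable {F : Type} [Field F] [Fintype F]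

/-- cocliques of `PSL₂(q)` -/
theorem coc_psl_two {C : Finset ℕ}
    (hC : IsCoc (Matrix.ProjectiveSpecialLinearGroup (Fin 2) F) C) (h3 : ∀ p ∈ C, 3 < p) : C.card ≤ 3 := by
  classical
  obtain ⟨p, hp, -, hqp⟩ := Cfsg.Agent.H72.AdjCoc.prime_dvd_card F
  rw [Nat.card_eq_fintype_card] at hqp
  have hq1 := Fintype.one_lt_card (α := F)
  have key : C.card ≤ (Finset.range 3).card := by
    refine Finset.card_le_card_of_injOn
      (fun s => if s ∣ Fintype.card F then 0 else Cfsg.Agent.H72.AdjOrth.ee (Fintype.card F) s) ?_ ?_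
    · intro s hs
      have hs' : s ∈ C := hs
      change (if s ∣ Fintype.card F then 0 else _) ∈ (Finset.range 3 : Set ℕ)
      rw [Finset.coe_range, Set.mem_Iio]
      split_ifs with h
      · norm_num
      · have := Cfsg.Agent.H72.AdjPSL.ee_le (hC.prime s hs') h (hC.dvd s hs')
        omega
    · intro s hs t ht hst
      have hs' : s ∈ C := hs
      have ht' : t ∈ C := ht
      change (if s ∣ Fintype.card F then 0 else _) = (if t ∣ Fintype.card F then 0 else _) at hst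
      by_contra hne
      by_cases h1 : s ∣ Fintype.card F
      · by_cases h2 : t ∣ Fintype.card F
        · exact hne ((hqp s (hC.prime s hs') h1).trans (hqp t (hC.prime t ht') h2).symm)
        · rw [if_pos h1, if_neg h2] at hst
          have := Cfsg.Agent.H72.AdjOrth.ee_pos (hC.prime t ht') h2
          omega
      · by_cases h2 : t ∣ Fintype.card F
        · rw [if_neg h1, if_pos h2] at hst
          have := Cfsg.Agent.H72.AdjOrth.ee_pos (hC.prime s hs') h1
          omega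
        · rw [if_neg h1, if_neg h2] at hst
          have h4 := Cfsg.Agent.H72.AdjOrth.ee_pos (hC.prime s hs') h1
          have h5 := Cfsg.Agent.H72.AdjPSL.ee_le (hC.prime s hs') h1 (hC.dvd s hs')
          refine hC.indep s hs' t ht' hne ?_
          by_cases h6 : Cfsg.Agent.H72.AdjOrth.ee (Fintype.card F) s = 1
          · have h7 := (Cfsg.Agent.H72.AdjPSL.ee_eq_one_iff (by omega)).1 h6
            have h8 := (Cfsg.Agent.H72.AdjPSL.ee_eq_one_iff (by omega)).1 (hst.symm.trans h6)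
            have hco : Nat.Coprime s t := (Nat.coprime_primes (hC.prime s hs') (hC.prime t ht')).2 hne
            obtain ⟨A, hdet, hA1, hA2⟩ :=
              Cfsg.Agent.H72.AdjPSL.hasBlock_two (hco.mul_dvd_of_dvd_of_dvd h7 h8)
            refine Cfsg.Agent.H72.AdjPSL.exists_order A hdet (N := s * t) ?_ _ dvd_rfl
            intro k c hk
            have h9 : c ^ 2 = 1 := by
              have := congrArg Matrix.det hk
              rw [Matrix.det_pow, hdet, one_pow, Matrix.det_smul, Matrix.det_one, mul_one,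
                Fintype.card_fin] at this
              exact this.symm
            have h10 : A ^ (k * 2) = 1 := by
              rw [pow_mul, hk, smul_pow, one_pow, h9, one_smul]
            have h11 := hA2 _ h10
            have h12 : Nat.Coprime (s * t) 2 := by
              rw [Nat.coprime_two_right]
              have := h3 s hs'
              have := h3 t ht'
              exact ((hC.prime s hs').odd_of_ne_two (by omega)).mul ((hC.prime t ht').odd_of_ne_two (by omega))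
            exact h12.dvd_of_dvd_mul_right h11
          · have h7 : Cfsg.Agent.H72.AdjOrth.ee (Fintype.card F) s = 2 := by omega
            exact psl_adj_same (hC.prime s hs') (hC.prime t ht') hne (j := 2) le_rfl le_rfl h7 (hst.symm.trans h7)
  rwa [Finset.card_range] at key

theorem sub_psl {l : ℕ} {C : Finset ℕ}
    (hC : IsCoc (Matrix.ProjectiveSpecialLinearGroup (Fin l) F) C) (h3 : ∀ p ∈ C, 3 < p) (h14 : 14 ≤ C.card)
    (hl : 2 ≤ l) :
    Sub C.card (Matrix.ProjectiveSpecialLinearGroup (Fin l) F) := by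
  classical
  -- small ranks
  have hl4 : 4 ≤ l ∧ C.card ≤ 1 + (l - l / 2) := by
    by_cases h4 : 4 ≤ l
    · exact ⟨h4, psl_coclique_gen hC h4⟩
    · exfalso
      obtain ⟨x, hx⟩ : C.Nonempty := by
        rw [← Finset.card_pos]
        omega
      have h5 : l = 2 ∨ l = 3 := by omega
      rcases h5 with rfl | rfl
      · have := coc_psl_two hC h3
        omega
      · have := (Cfsg.Agent.H72.AdjPSL.card_coclique (F := F) le_rfl
          (fun r hr => ⟨hC.prime r hr, hC.dvd r hr⟩) hC.indep hx).1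
        omega
  obtain ⟨φ, hφi, hφ⟩ := exists_phi (F := F) (a := l - 1) (b := 1) (n := l) (by omega)
  refine ⟨F, inferInstance, inferInstance, l - 1, by omega, (QuotientGroup.mk' _).comp (φ.comp (MonoidHom.inl _ _)), ?_⟩
  intro x hx
  have h1 : φ (x, 1) ∈ Subgroup.center (Matrix.SpecialLinearGroup (Fin l) F) := by
    have h2 : (QuotientGroup.mk (φ (x, 1)) : Matrix.SpecialLinearGroup (Fin l) F ⧸
      Subgroup.center (Matrix.SpecialLinearGroup (Fin l) F)) = 1 := hx
    exact (QuotientGroup.eq_one_iff _).1 h2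
  obtain ⟨r, hr⟩ := center_scalar h1
  obtain ⟨h2, h3⟩ := hφ _ r hr
  have h4 : r = 1 := by
    have := congrFun (congrFun h3 0) 0
    simpa using this.symm
  have h5 : x = 1 := by
    apply Subtype.ext
    change x.1 = _ at h2
    rw [h4, one_smul] at h2
    exact h2
  rw [h5, one_pow]

theorem sub_psp {l : ℕ} {C : Finset ℕ}
    (hC : IsCoc (Cfsg.PSp l F) C) (hl : 2 ≤ l) : Sub C.card (Cfsg.PSp l F) := by
  classical
  have h1 := psp_coclique_half hC hl
  have h2 := labels_window (m := l) (a := l - l / 2) (by omega)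
  have h3 := labels_window (m := l) (a := l / 2) (by omega)
  rw [show l - (l - l / 2) = l / 2 by omega] at h2
  refine ⟨F, inferInstance, inferInstance, l, by omega, (QuotientGroup.mk' _).comp (Cfsg.Agent.H376.WordEmb.leviSp l), ?_⟩
  intro x hx
  have h4 : Cfsg.Agent.H376.WordEmb.leviSp l x ∈ Subgroup.center (Matrix.symplecticGroup (Fin l) F) := by
    have h2 : (QuotientGroup.mk (Cfsg.Agent.H376.WordEmb.leviSp l x) : Matrix.symplecticGroup (Fin l) F ⧸
      Subgroup.center (Matrix.symplecticGroup (Fin l) F)) = 1 := hx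
    exact (QuotientGroup.eq_one_iff _).1 h2
  have h5 := Cfsg.Agent.H376.SpEmb.center_pow _ h4
  apply Cfsg.Agent.H376.WordEmb.leviSp_injective l
  rw [map_pow, h5, map_one]

theorem sub_psu {q n : ℕ} (hF : Fintype.card F = q ^ 2) (hn : 3 ≤ n) {C : Finset ℕ}
    (hC : IsCoc (Cfsg.PSU n F q) C) (h14 : 14 ≤ C.card) : Sub C.card (Cfsg.PSU n F q) := by
  obtain ⟨h1, h2⟩ := psu_bound hF hn hC h14
  obtain ⟨f, hf⟩ := exists_hom_psu hF hn (k := (n - 1) / 2) (r := n - 2 * ((n - 1) / 2)) (by omega) (by omega)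
  exact ⟨F, inferInstance, inferInstance, (n - 1) / 2, h1, f, hf⟩

theorem sub_plus {l : ℕ} {C : Finset ℕ}
    (hC : IsCoc (Cfsg.POmega F (Cfsg.quadFormPlus l F)) C) (h3 : ∀ p ∈ C, 3 < p) (h14 : 14 ≤ C.card)
    (hl : 4 ≤ l) : Sub C.card (Cfsg.POmega F (Cfsg.quadFormPlus l F)) := by
  have h2 : 2 ∉ C := fun h => by have := h3 2 h; omega
  have hb : 4 * C.card ≤ 3 * l + 12 := by
    rcases plus_bound hl hC h2 with h | h <;> omega
  obtain ⟨f, hf⟩ := exists_hom_pomega (quadFormPlus l F) (toIso _ (leviMat l) (levi_plus' l))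
    (Cfsg.Agent.H372.sl_perfect (by omega)) (fun z hz => Cfsg.Agent.H708.RFam.center_plus F l (by omega) z hz)
    (fun x r hr => levi_scalar hr)
  exact ⟨F, inferInstance, inferInstance, l, by omega, f, hf⟩

theorem sub_minus {l : ℕ} {a b : F}
    (hab : ∀ z₁ z₂ : F, z₁ ^ 2 + a * z₁ * z₂ + b * z₂ ^ 2 = 0 → z₁ = 0 ∧ z₂ = 0) {C : Finset ℕ}
    (hC : IsCoc (Cfsg.POmega F (Cfsg.quadFormMinus (l - 1) F a b)) C) (h3 : ∀ p ∈ C, 3 < p)
    (h14 : 14 ≤ C.card) (hl : 4 ≤ l) : Sub C.card (Cfsg.POmega F (Cfsg.quadFormMinus (l - 1) F a b)) := by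
  have h2 : 2 ∉ C := fun h => by have := h3 2 h; omega
  have hb : 4 * C.card ≤ 3 * (l - 1) + 12 := by
    rcases minus_bound hl hab hC h2 with h | h <;> omega
  obtain ⟨m, hm⟩ : ∃ m, m = l - 1 := ⟨_, rfl⟩
  rw [← hm] at hb ⊢
  have hinv : ∀ (x : Matrix.SpecialLinearGroup (Fin m) F) (v : (Fin m ⊕ Fin m) ⊕ Fin 2 → F),
      quadFormMinus m F a b (((blockL (Fin 2) (Fin m ⊕ Fin m)).comp (leviMat m)) x *ᵥ v) =
        quadFormMinus m F a b v := by
    intro x v
    change quadFormMinus m F a b (fromBlocks (leviMat m x) 0 0 1 *ᵥ v) = _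
    rw [fromBlocks_mulVec]
    have h := levi_plus' m x (v ∘ Sum.inl)
    simp only [quadFormPlus] at h
    simp only [quadFormMinus, Sum.elim_inl, Sum.elim_inr, Matrix.zero_mulVec, add_zero, zero_add,
      one_mulVec, h, Function.comp]
  obtain ⟨f, hf⟩ := exists_hom_pomega (quadFormMinus m F a b)
    (toIso _ ((blockL (Fin 2) (Fin m ⊕ Fin m)).comp (leviMat m)) hinv)
    (Cfsg.Agent.H372.sl_perfect (by omega))
    (fun z hz => Cfsg.Agent.H708.RFam.center_minus F m (by omega) a b hab z hz)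
    (fun x r hr => levi_scalar (r := r) (fromBlocks_eq_smul_one (B := (1 : Matrix (Fin 2) (Fin 2) F)) hr).1)
  exact ⟨F, inferInstance, inferInstance, m, by omega, f, hf⟩

/-- **Lie type in characteristic two with a large coclique** -/
theorem sub_of_coclique_two {S : Type*} [Group S] [Finite S] [IsSimpleGroup S] (hS : IsLieTypeChar 2 S) {C : Finset ℕ}
    (hC : Cfsg.Agent.H376.Coc.IsCoc S C) (h3 : ∀ p ∈ C, 3 < p) (h14 : 14 ≤ C.card) : Sub C.card S := by
  have hexc : ∀ h : Cfsg.Agent.H168.ExcCoc.IsExc S, False := fun h => by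
    have := Cfsg.Agent.H168.ExcCoc.exc_coc_big h hC h3
    omega
  rcases hS with h | h | h | h | h | h | h | h | h | h | h
  · obtain ⟨F, _, _, hc, n, hn, -, ⟨e⟩⟩ := h
    exact Sub.congr e.symm (sub_psl (hC.congr e) h3 h14 hn)
  · obtain ⟨F, _, _, hc, n, hn, -, ⟨e⟩⟩ := h
    exact Sub.congr e.symm (sub_psp (hC.congr e) hn)
  · obtain ⟨F, _, _, hc, n, q, hF, hn, -, ⟨e⟩⟩ := h
    exact Sub.congr e.symm (sub_psu hF hn (hC.congr e) h14)
  · exfalso
    obtain ⟨F, _, _, hc, n, hn, ho, -⟩ := h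
    obtain ⟨m, -, hm⟩ := FiniteField.card F 2
    rw [hm] at ho
    exact (Nat.not_odd_iff_even.2 ((Nat.even_pow.2 ⟨even_two, m.ne_zero⟩))) ho
  · obtain ⟨F, _, _, hc, n, hn, ⟨e⟩⟩ := h
    exact Sub.congr e.symm (sub_plus (hC.congr e) h3 h14 hn)
  · obtain ⟨F, _, _, hc, n, a, b, hn, hab, ⟨e⟩⟩ := h
    exact Sub.congr e.symm (sub_minus hab (hC.congr e) h3 h14 hn)
  · exfalso
    obtain ⟨F, i1, i2, hc, h | h | h | h | h⟩ := h
    · exact hexc (Or.inl ⟨F, i1, i2, h⟩)
    · exact hexc (Or.inr (Or.inl ⟨F, i1, i2, h⟩))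
    · exact hexc (Or.inr (Or.inr (Or.inl ⟨F, i1, i2, h⟩)))
    · exact hexc (Or.inr (Or.inr (Or.inr (Or.inl ⟨F, i1, i2, h⟩))))
    · exact hexc (Or.inr (Or.inr (Or.inr (Or.inr (Or.inl ⟨F, i1, i2, h⟩)))))
  · exfalso
    obtain ⟨K, i1, i2, hc, q, hq, h | h⟩ := h
    · exact hexc (Or.inr (Or.inr (Or.inr (Or.inr (Or.inr (Or.inl ⟨K, i1, i2, q, hq, h.1, h.2⟩))))))
    · exact hexc (Or.inr (Or.inr (Or.inr (Or.inr (Or.inr (Or.inr (Or.inl ⟨K, i1, i2, q, hq, h.1, h.2⟩)))))))
  · exfalso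
    exact hexc (Or.inr (Or.inr (Or.inr (Or.inr (Or.inr (Or.inr (Or.inr (Or.inl h.2))))))))
  · exfalso
    exact hexc (Or.inr (Or.inr (Or.inr (Or.inr (Or.inr (Or.inr (Or.inr (Or.inr (Or.inr (Or.inl h.2))))))))))
  · exact absurd h.1 (by norm_num)

end Cfsg.Agent.H896.SpAlt
end

-- part: H267/Sp/NoSub
section
/-!
# S3397 / S3446, task B3: no big `SL_k(E)` in a group with small orders
-/

set_option autoImplicit false

namespace Cfsg.Agent.H267.Sp.NoSub

open Cfsg Cfsg.Agent.H357.Sp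

/-! ### elementary number theory -/

theorem pow_le_pow_swap {a x : ℕ} (ha : 3 ≤ a) (hx : a ≤ x) : x ^ a ≤ a ^ x := by
  have he : Real.exp 1 ≤ (a : ℝ) := by
    have h1 := Real.exp_one_lt_d9
    have h2 : (3 : ℝ) ≤ a := by exact_mod_cast ha
    linarith only [h1, h2]
  have hxa : (a : ℝ) ≤ x := by exact_mod_cast hx
  have h0 : (0 : ℝ) < a := by have : (3 : ℝ) ≤ a := by exact_mod_cast ha
                              linarith
  have h0x : (0 : ℝ) < x := lt_of_lt_of_le h0 hxa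
  have h := Real.log_div_self_antitoneOn (a := (a : ℝ)) (b := x) he (he.trans hxa) hxa
  simp only at h
  rw [div_le_div_iff₀ h0x h0] at h
  have h3 : Real.log ((x : ℝ) ^ a) ≤ Real.log ((a : ℝ) ^ x) := by
    rw [Real.log_pow, Real.log_pow]
    linarith
  have h4 : (x : ℝ) ^ a ≤ (a : ℝ) ^ x :=
    (Real.log_le_log_iff (by positivity) (by positivity)).1 h3
  exact_mod_cast h4

/-- the weight of `N` against its size -/
theorem pow_le_W {N a e : ℕ} (hN : N ≠ 0) (ha : 3 ≤ a) (he : 1 ≤ e)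
    (h : ∀ p, p.Prime → p ∣ N → p ≠ e → a ≤ p ^ N.factorization p)
    (h1 : N.factorization e ≤ 1) : N ^ a ≤ e ^ a * a ^ W N := by
  classical
  have hprod : N = ∏ p ∈ N.primeFactors, p ^ N.factorization p := by
    conv_lhs => rw [← Nat.prod_factorization_pow_eq_self hN]
    rfl
  by_cases hmem : e ∈ N.primeFactors
  · have e1 : N = e ^ N.factorization e * ∏ p ∈ N.primeFactors.erase e, p ^ N.factorization p := by
      rw [Finset.mul_prod_erase _ (fun p => p ^ N.factorization p) hmem]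
      exact hprod
    have e2 : W N = e ^ N.factorization e + ∑ p ∈ N.primeFactors.erase e, p ^ N.factorization p := by
      rw [Finset.add_sum_erase _ (fun p => p ^ N.factorization p) hmem]
      rfl
    have e3 : (∏ p ∈ N.primeFactors.erase e, p ^ N.factorization p) ^ a ≤
        a ^ ∑ p ∈ N.primeFactors.erase e, p ^ N.factorization p := by
      rw [← Finset.prod_pow, ← Finset.prod_pow_eq_pow_sum]
      apply Finset.prod_le_prod' 
      intro p hp
      rw [Finset.mem_erase, Nat.mem_primeFactors] at hp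
      exact pow_le_pow_swap ha (h p hp.2.1 hp.2.2.1 hp.1)
    calc N ^ a = (e ^ N.factorization e) ^ a *
          (∏ p ∈ N.primeFactors.erase e, p ^ N.factorization p) ^ a := by
          rw [← mul_pow, ← e1]
      _ ≤ e ^ a * a ^ ∑ p ∈ N.primeFactors.erase e, p ^ N.factorization p := by
          apply Nat.mul_le_mul _ e3
          apply Nat.pow_le_pow_left
          calc e ^ N.factorization e ≤ e ^ 1 := Nat.pow_le_pow_right he h1
            _ = e := pow_one e
      _ ≤ e ^ a * a ^ W N := by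
          apply Nat.mul_le_mul le_rfl
          apply Nat.pow_le_pow_right (by omega)
          rw [e2]; omega
  · calc N ^ a = (∏ p ∈ N.primeFactors, p ^ N.factorization p) ^ a := by rw [← hprod]
      _ ≤ a ^ W N := by
        rw [← Finset.prod_pow, W, ← Finset.prod_pow_eq_pow_sum]
        apply Finset.prod_le_prod'
        intro p hp
        have hpe : p ≠ e := by rintro rfl; exact hmem hp
        rw [Nat.mem_primeFactors] at hp
        exact pow_le_pow_swap ha (h p hp.1 hp.2.1 hpe)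
      _ ≤ e ^ a * a ^ W N := Nat.le_mul_of_pos_left _ (Nat.pow_pos he)

/-- `1 + Q + ... + Q ^ (e - 1)` -/
def N1 (Q e : ℕ) : ℕ := ∑ i ∈ Finset.range e, Q ^ i

theorem N1_mul {Q e : ℕ} (hQ : 2 ≤ Q) : N1 Q e * (Q - 1) = Q ^ e - 1 := by
  rw [N1]
  have := Nat.geomSum_eq hQ e
  rw [this]
  exact Nat.div_mul_cancel (by simpa only [_root_.one_pow] using Nat.sub_dvd_pow_sub_pow Q 1 e)

theorem two_pow_le_N1 {Q e : ℕ} (hQ : 2 ≤ Q) (he : 1 ≤ e) : 2 ^ (e - 1) ≤ N1 Q e := by
  calc 2 ^ (e - 1) ≤ Q ^ (e - 1) := Nat.pow_le_pow_left hQ _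
    _ ≤ N1 Q e := Finset.single_le_sum (f := fun i => Q ^ i) (fun i _ => Nat.zero_le _)
      (Finset.mem_range.2 (by omega))

theorem odd_N1 {Q e : ℕ} (he : Odd e) : Odd (N1 Q e) := by
  rcases Nat.even_or_odd Q with hQ | hQ
  · obtain ⟨m, rfl⟩ := he
    rw [N1, Finset.sum_range_succ']
    rw [pow_zero]
    apply Even.add_one
    apply Finset.even_sum
    intro i _
    exact hQ.pow_of_ne_zero (by omega) 
  · rw [N1, Finset.odd_sum_iff_odd_card_odd]
    have : (Finset.range e).filter (fun i => Odd (Q ^ i)) = Finset.range e := by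
      apply Finset.filter_true_of_mem
      intro i _
      exact hQ.pow
    rw [this, Finset.card_range]
    exact he

/-- prime divisors of `N1` -/
theorem prime_N1 {Q e r : ℕ} (hQ : 2 ≤ Q) (he : e.Prime) (he2 : Odd e) (hr : r.Prime) (h : r ∣ N1 Q e)
    (hre : r ≠ e) : 2 * e + 1 ≤ r := by
  have := Fact.mk hr
  have h1 : (Q : ZMod r) ^ e = 1 := by
    have h2 : r ∣ Q ^ e - 1 := by rw [← N1_mul hQ]; exact h.mul_right _
    have h3 : ((Q ^ e - 1 : ℕ) : ZMod r) = 0 := (ZMod.natCast_eq_zero_iff _ _).2 h2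
    rw [Nat.cast_sub (Nat.one_le_pow _ _ (by omega)), Nat.cast_pow, Nat.cast_one, sub_eq_zero] at h3
    exact h3
  have h0 : (Q : ZMod r) ≠ 0 := by
    intro h0
    rw [h0, zero_pow he.ne_zero] at h1
    exact zero_ne_one h1
  rcases (Nat.dvd_prime he).1 (orderOf_dvd_of_pow_eq_one h1) with h2 | h2
  · exfalso
    rw [orderOf_eq_one_iff] at h2
    have h3 : ((N1 Q e : ℕ) : ZMod r) = 0 := (ZMod.natCast_eq_zero_iff _ _).2 h
    rw [N1, Nat.cast_sum] at h3
    simp only [Nat.cast_pow, h2, one_pow, Finset.sum_const, Finset.card_range, nsmul_eq_mul,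
      mul_one] at h3
    have h4 := (ZMod.natCast_eq_zero_iff _ _).1 h3
    exact hre ((Nat.prime_dvd_prime_iff_eq hr he).1 h4)
  · have h3 : e ∣ r - 1 := by
      rw [← h2]
      exact orderOf_dvd_of_pow_eq_one (ZMod.pow_card_sub_one_eq_one h0)
    have hr2 : r ≠ 2 := by
      rintro rfl
      have := odd_N1 (Q := Q) he2
      rw [← Nat.not_even_iff_odd] at this
      exact this (even_iff_two_dvd.2 h)
    have h4 : 2 ∣ r - 1 := by
      have := hr.odd_of_ne_two hr2
      rcases this with ⟨m, hm⟩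
      exact ⟨m, by omega⟩
    have h5 : 2 * e ∣ r - 1 := by
      apply Nat.Coprime.mul_dvd_of_dvd_of_dvd _ h4 h3
      exact (Nat.coprime_two_left).2 he2
    have h6 := hr.two_le
    have h7 := Nat.le_of_dvd (by omega) h5
    omega

/-- `e` divides `N1` at most once -/
theorem fact_N1 {Q e : ℕ} (hQ : 2 ≤ Q) (he : e.Prime) (he2 : Odd e) :
    (N1 Q e).factorization e ≤ 1 := by
  have := Fact.mk he
  have hN0 : N1 Q e ≠ 0 := by
    have := two_pow_le_N1 hQ he.one_lt.le
    have h2 : 0 < 2 ^ (e - 1) := by positivity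
    omega
  by_cases h : e ∣ Q - 1
  · have hQe : ¬ e ∣ Q := by
      intro h1
      have := (Nat.dvd_sub h1 h)
      have h3 : Q - (Q - 1) = 1 := by omega
      rw [h3] at this
      exact he.one_lt.ne' (Nat.dvd_one.1 this)
    have h1 := padicValNat.pow_sub_pow (x := Q) (y := 1) (p := e) he2 (by omega) h hQe (n := e)
      he.ne_zero
    rw [one_pow, padicValNat_self, ← N1_mul hQ, padicValNat.mul hN0 (by omega)] at h1
    rw [Nat.factorization_def _ he]
    omega
  · rw [Nat.factorization_eq_zero_of_not_dvd]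
    · omega
    · intro h1
      apply h
      have h2 : e ∣ Q ^ e - 1 := by rw [← N1_mul hQ]; exact h1.mul_right _
      have h3 : ((Q ^ e - 1 : ℕ) : ZMod e) = 0 := (ZMod.natCast_eq_zero_iff _ _).2 h2
      rw [Nat.cast_sub (Nat.one_le_pow _ _ (by omega)), Nat.cast_pow, ZMod.pow_card] at h3
      apply (ZMod.natCast_eq_zero_iff _ _).1
      rw [Nat.cast_sub (by omega)]
      exact h3

theorem weight_N1 {Q e : ℕ} (hQ : 2 ≤ Q) (he : e.Prime) (he2 : Odd e) :
    2 ^ ((e - 1) * (2 * e + 1)) ≤ e ^ (2 * e + 1) * (2 * e + 1) ^ W (N1 Q e) := by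
  have hN0 : N1 Q e ≠ 0 := by
    have := two_pow_le_N1 hQ he.one_lt.le
    have h2 : 0 < 2 ^ (e - 1) := by positivity
    omega
  have h1 := pow_le_W (N := N1 Q e) (a := 2 * e + 1) (e := e) hN0 (by have := he.two_le; omega)
    he.one_lt.le (fun p hp hpN hpe => by
      refine (prime_N1 hQ he he2 hp hpN hpe).trans ?_
      apply Nat.le_self_pow
      exact (hp.factorization_pos_of_dvd hN0 hpN).ne') (fact_N1 hQ he he2)
  refine le_trans ?_ h1
  rw [pow_mul]
  exact Nat.pow_le_pow_left (two_pow_le_N1 hQ he.one_lt.le) _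

/-! ### the numerical end -/

theorem num {n c e : ℕ} (hc : 60 ≤ c) (hnum : 20 * n * (Nat.log 2 c + 2) ≤ 19 * c ^ 2)
    (he1 : 4 * (c - 3) + 5 < 5 * e) (he2 : e ≤ c - 3)
    (h : 2 ^ ((e - 1) * (2 * e + 1)) ≤ e ^ (2 * e + 1) * (2 * e + 1) ^ n) : False := by
  set l := Nat.log 2 c with hl
  have hlc : c < 2 ^ (l + 1) := Nat.lt_pow_succ_log_self (by omega) c
  have hlc' : 2 ^ l ≤ c := Nat.pow_log_le_self 2 (by omega)
  have h1 : e ≤ 2 ^ (l + 1) := by omega
  have h2 : 2 * e + 1 ≤ 2 ^ (l + 2) := by rw [pow_succ]; omega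
  have h3 : 2 ^ ((e - 1) * (2 * e + 1)) ≤ 2 ^ ((l + 1) * (2 * e + 1) + (l + 2) * n) := by
    refine h.trans ?_
    have g1 : e ^ (2 * e + 1) ≤ 2 ^ ((l + 1) * (2 * e + 1)) := by
      rw [pow_mul]; exact Nat.pow_le_pow_left h1 _
    have g2 : (2 * e + 1) ^ n ≤ 2 ^ ((l + 2) * n) := by
      rw [pow_mul]; exact Nat.pow_le_pow_left h2 _
    calc e ^ (2 * e + 1) * (2 * e + 1) ^ n ≤ 2 ^ ((l + 1) * (2 * e + 1)) * 2 ^ ((l + 2) * n) :=
          Nat.mul_le_mul g1 g2
      _ = _ := (pow_add _ _ _).symm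
  have h4 : (e - 1) * (2 * e + 1) ≤ (l + 1) * (2 * e + 1) + (l + 2) * n :=
    (Nat.pow_le_pow_iff_right (by omega)).1 h3
  have h5 : 20 * ((e - 1) * (2 * e + 1)) ≤ 20 * ((l + 1) * (2 * e + 1)) + 19 * c ^ 2 := by
    have : 20 * ((l + 2) * n) = 20 * n * (l + 2) := by ring
    (clear * - hnum h4 this; omega)
  have hl8 : 8 * (l + 2) ≤ c := by
    by_cases h6 : l ≤ 5
    · omega
    · have h7 : ∀ m, 6 ≤ m → 8 * (m + 2) ≤ 2 ^ m := by
        intro m hm
        induction m, hm using Nat.le_induction with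
        | base => norm_num
        | succ m hm ih => rw [pow_succ]; omega
      exact (h7 l (by omega)).trans hlc'
  clear_value l
  obtain ⟨d, rfl⟩ : ∃ d, c = d + 60 := ⟨c - 60, by omega⟩
  obtain ⟨b, rfl⟩ : ∃ b, e = b + 1 := ⟨e - 1, by omega⟩
  simp only [Nat.add_sub_cancel] at h5
  have hb : 4 * d + 229 ≤ 5 * b := by omega
  -- `8 * 20 * b * (2 b + 3) ≤ 20 * (c - 8) * (2 b + 3) + 8 * 19 * c ^ 2`
  have h6 : 160 * (b * (2 * (b + 1) + 1)) ≤ 20 * ((d + 60 - 8) * (2 * (b + 1) + 1)) + 152 * (d + 60) ^ 2 := by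
    have : 8 * (l + 1) ≤ d + 60 - 8 := by omega
    linarith only [h5, Nat.mul_le_mul_right (2 * (b + 1) + 1) this]
  have e1 : d + 60 - 8 = d + 52 := by omega
  rw [e1] at h6
  nlinarith only [hl8, h5, hb, Nat.mul_le_mul hb hb]

/-! ### the embedding -/

open Matrix

/-- the block embedding -/
noncomputable def eb {E : Type} [Field E] {e k : ℕ} (h : e ≤ k) (M : Matrix (Fin e) (Fin e) E) :
    Matrix (Fin k) (Fin k) E :=
  Matrix.reindex (finSumFinEquiv.trans (finCongr (Nat.add_sub_cancel' h)))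
    (finSumFinEquiv.trans (finCongr (Nat.add_sub_cancel' h)))
    (fromBlocks M 0 0 (1 : Matrix (Fin (k - e)) (Fin (k - e)) E))

section eb

variable {E : Type} [Field E] {e k : ℕ} (h : e ≤ k)

theorem eb_one : eb h (1 : Matrix (Fin e) (Fin e) E) = 1 := by
  rw [eb, fromBlocks_one, Matrix.reindex_apply, Matrix.submatrix_one_equiv]

theorem eb_mul (M N : Matrix (Fin e) (Fin e) E) : eb h (M * N) = eb h M * eb h N := by
  rw [eb, eb, eb, Matrix.reindex_apply, Matrix.reindex_apply, Matrix.reindex_apply,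
    Matrix.submatrix_mul_equiv, fromBlocks_multiply]
  simp

theorem det_eb (M : Matrix (Fin e) (Fin e) E) : (eb h M).det = M.det := by
  rw [eb, Matrix.det_reindex_self, det_fromBlocks_zero₂₁, det_one, mul_one]

theorem eb_inj {M N : Matrix (Fin e) (Fin e) E} (hM : eb h M = eb h N) : M = N := by
  have h2 := (Matrix.reindex (α := E) (finSumFinEquiv.trans (finCongr (Nat.add_sub_cancel' h)))
    (finSumFinEquiv.trans (finCongr (Nat.add_sub_cancel' h)))).injective hM
  exact (fromBlocks_inj.1 h2).1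

end eb

/-- `SL_e` in `SL_k` -/
noncomputable def emb (E : Type) [Field E] {e k : ℕ} (h : e ≤ k) :
    Matrix.SpecialLinearGroup (Fin e) E →* Matrix.SpecialLinearGroup (Fin k) E where
  toFun A := ⟨eb h (A : Matrix (Fin e) (Fin e) E), by rw [det_eb]; exact A.2⟩
  map_one' := by
    apply Subtype.ext
    show eb h ((1 : Matrix.SpecialLinearGroup (Fin e) E) : Matrix (Fin e) (Fin e) E) = 1
    rw [Matrix.SpecialLinearGroup.coe_one, eb_one]
  map_mul' A B := by
    apply Subtype.ext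
    show eb h ((A * B : Matrix.SpecialLinearGroup (Fin e) E) : Matrix (Fin e) (Fin e) E) =
      eb h (A : Matrix (Fin e) (Fin e) E) * eb h (B : Matrix (Fin e) (Fin e) E)
    rw [Matrix.SpecialLinearGroup.coe_mul, eb_mul]

theorem emb_injective (E : Type) [Field E] {e k : ℕ} (h : e ≤ k) :
    Function.Injective (emb E h) := by
  intro A B hAB
  have h1 : eb h (A : Matrix (Fin e) (Fin e) E) = eb h (B : Matrix (Fin e) (Fin e) E) :=
    congrArg Subtype.val hAB
  exact Subtype.ext (eb_inj h h1)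

/-- an element of `SL_e` of order `N1` -/
theorem exists_sl (E : Type) [Field E] [Fintype E] {e : ℕ} (he : e ≠ 0) :
    ∃ y : Matrix.SpecialLinearGroup (Fin e) E, orderOf y = N1 (Fintype.card E) e := by
  have hQ : 2 ≤ Fintype.card E := Fintype.one_lt_card
  obtain ⟨A, hA⟩ := Cfsg.Agent.H72.AdjPSU.exists_singer E he
  have hdet : (((A ^ (Fintype.card E - 1) : (Matrix (Fin e) (Fin e) E)ˣ)) : Matrix (Fin e) (Fin e) E).det = 1 := by
    rw [Units.val_pow_eq_pow_val, det_pow]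
    exact FiniteField.pow_card_sub_one_eq_one _ (by
      have : IsUnit (A : Matrix (Fin e) (Fin e) E) := A.isUnit
      exact ((Matrix.isUnit_iff_isUnit_det _).1 this).ne_zero)
  let y : Matrix.SpecialLinearGroup (Fin e) E := ⟨_, hdet⟩
  refine ⟨y, ?_⟩
  have h1 : orderOf (A ^ (Fintype.card E - 1)) = N1 (Fintype.card E) e := by
    have h3 : N1 (Fintype.card E) e * (Fintype.card E - 1) = Fintype.card E ^ e - 1 := N1_mul hQ
    rw [orderOf_pow, hA, ← h3, Nat.gcd_mul_left_left]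
    exact Nat.mul_div_cancel _ (by omega)
  rw [← h1]
  have h2 : ∀ m : ℕ, y ^ m = 1 ↔ (A ^ (Fintype.card E - 1)) ^ m = 1 := by
    intro m
    have h4 : ((y ^ m : Matrix.SpecialLinearGroup (Fin e) E) : Matrix (Fin e) (Fin e) E) =
        (((A ^ (Fintype.card E - 1)) ^ m : (Matrix (Fin e) (Fin e) E)ˣ) : Matrix (Fin e) (Fin e) E) := by
      rw [Matrix.SpecialLinearGroup.coe_pow, Units.val_pow_eq_pow_val]
    constructor
    · intro h
      apply Units.ext
      rw [← h4, h, Matrix.SpecialLinearGroup.coe_one, Units.val_one]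
    · intro h
      apply Subtype.ext
      show ((y ^ m : Matrix.SpecialLinearGroup (Fin e) E) : Matrix (Fin e) (Fin e) E) = 1
      rw [h4, h, Units.val_one]
  apply Nat.dvd_antisymm
  · exact orderOf_dvd_of_pow_eq_one ((h2 _).2 (pow_orderOf_eq_one _))
  · exact orderOf_dvd_of_pow_eq_one ((h2 _).1 (pow_orderOf_eq_one _))

/-- **S3397 / S3446, task B3.** -/
theorem no_sub {n c : ℕ} {S : Type*} [Group S] [Finite S] (hB : Bnd n S) (hS : Sub c S) (hc : 60 ≤ c)
    (hnum : 20 * n * (Nat.log 2 c + 2) ≤ 19 * c ^ 2) : False := by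
  obtain ⟨E, _, _, k, hk, f, hf⟩ := hS
  obtain ⟨r, e, hr, he, h1, h2, h3⟩ := Cfsg.Agent.H357.NT.two_primes (n := c - 3) (by omega)
  have hQ : 2 ≤ Fintype.card E := Fintype.one_lt_card
  have he2 : Odd e := he.odd_of_ne_two (by omega)
  obtain ⟨y, hy⟩ := exists_sl E he.ne_zero
  have hodd := odd_N1 (Q := Fintype.card E) he2
  have hord : orderOf (f (emb E (show e ≤ k by omega) y)) = N1 (Fintype.card E) e := by
    apply Nat.dvd_antisymm
    · rw [← hy]
      exact (orderOf_map_dvd _ _).trans (orderOf_map_dvd _ _)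
    · have h4 := hf ((emb E (show e ≤ k by omega) y) ^ orderOf (f (emb E (show e ≤ k by omega) y))) (by
        rw [map_pow, pow_orderOf_eq_one])
      rw [← pow_mul, ← map_pow, ← map_one (emb E (show e ≤ k by omega))] at h4
      have h5 := orderOf_dvd_of_pow_eq_one (emb_injective E _ h4)
      rw [hy] at h5
      exact Nat.Coprime.dvd_of_dvd_mul_right (Nat.Coprime.symm ((Nat.coprime_two_left).2 hodd)) h5
  have hW := hB (f (emb E (show e ≤ k by omega) y))
  rw [hord] at hW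
  have hw := weight_N1 hQ he he2
  refine num hc hnum (by omega) h3 (hw.trans ?_)
  apply Nat.mul_le_mul le_rfl
  exact Nat.pow_le_pow_right (by omega) hW

end Cfsg.Agent.H267.Sp.NoSub
end

-- part: H870/CardT
section
/-!
# Primes in `(n / 2, n]` (helper870, task B4 of TEAM SPEC-ALT)

`card_T` : for `n ≥ 3000` and `c = |T n| - 1`: `60 ≤ c` and `20 n (log₂ c + 2) ≤ 19 c²`.
-/

set_option autoImplicit false

namespace Cfsg.Agent.H870.CardT

open Finset Cfsg.Agent.H357.Cheb Cfsg.Agent.H357.Sp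

local notation "ψ" => Chebyshev.psi
local notation "θ" => Chebyshev.theta

/-! ### the inequality is stable -/

theorem mono {n c0 c : ℕ} (h0 : 60 ≤ c0) (hc : c0 ≤ c) (h : 20 * n * (Nat.log 2 c0 + 3) ≤ 19 * c0 ^ 2) :
    60 ≤ c ∧ 20 * n * (Nat.log 2 c + 2) ≤ 19 * c ^ 2 := by
  refine ⟨h0.trans hc, ?_⟩
  obtain ⟨k, hk⟩ : ∃ k, Nat.log 2 c = Nat.log 2 c0 + k := Nat.exists_eq_add_of_le (Nat.log_mono_right hc)
  rcases Nat.lt_or_ge k 2 with hk2 | hk2
  · calc 20 * n * (Nat.log 2 c + 2) ≤ 20 * n * (Nat.log 2 c0 + 3) := Nat.mul_le_mul_left _ (by omega)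
      _ ≤ 19 * c0 ^ 2 := h
      _ ≤ 19 * c ^ 2 := Nat.mul_le_mul_left _ (Nat.pow_le_pow_left hc 2)
  · have h1 : c0 < 2 ^ (Nat.log 2 c0 + 1) := Nat.lt_pow_succ_log_self (by norm_num) _
    have h2 : 2 ^ Nat.log 2 c ≤ c := Nat.pow_log_le_self 2 (by omega)
    obtain ⟨j, rfl⟩ : ∃ j, k = j + 1 := ⟨k - 1, by omega⟩
    have h3 : 2 ^ j * c0 ≤ c := by
      calc 2 ^ j * c0 ≤ 2 ^ j * 2 ^ (Nat.log 2 c0 + 1) := Nat.mul_le_mul_left _ h1.le
        _ = 2 ^ Nat.log 2 c := by rw [hk, ← pow_add]; congr 1; ring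
        _ ≤ c := h2
    have h4 : Nat.log 2 c + 2 ≤ (Nat.log 2 c0 + 3) * (2 ^ j) ^ 2 := by
      have h5 : j + 1 ≤ 2 ^ j := Nat.lt_two_pow_self
      have h6 : 1 ≤ 2 ^ j := Nat.one_le_two_pow
      have h7 : 2 ^ j ≤ (2 ^ j) ^ 2 := by nlinarith only []
      have h8 : (Nat.log 2 c0 + 3) * (j + 1) ≤ (Nat.log 2 c0 + 3) * (2 ^ j) ^ 2 :=
        Nat.mul_le_mul_left _ (h5.trans h7)
      nlinarith only [hk, h8]
    calc 20 * n * (Nat.log 2 c + 2) ≤ 20 * n * ((Nat.log 2 c0 + 3) * (2 ^ j) ^ 2) := Nat.mul_le_mul_left _ h4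
      _ = (20 * n * (Nat.log 2 c0 + 3)) * (2 ^ j) ^ 2 := by ring
      _ ≤ 19 * c0 ^ 2 * (2 ^ j) ^ 2 := Nat.mul_le_mul_right _ h
      _ = 19 * (2 ^ j * c0) ^ 2 := by ring
      _ ≤ 19 * c ^ 2 := Nat.mul_le_mul_left _ (Nat.pow_le_pow_left h3 2)

/-! ### counting primes in an interval -/

/-- a lower bound for the number of the primes in `(A, B]` -/
def cntF : ℕ → ℕ → ℕ → ℕ
  | 0, _, _ => 0
  | f + 1, A, B => bif Nat.blt A B then
      (bif Nat.blt A ((A + B) / 2) then cntF f A ((A + B) / 2) + cntF f ((A + B) / 2) B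
        else (bif isP B then 1 else 0)) else 0

theorem cntF_le : ∀ f A B : ℕ, cntF f A B ≤ ((Ioc A B).filter Nat.Prime).card
  | 0, _, _ => Nat.zero_le _
  | f + 1, A, B => by
    unfold cntF
    by_cases h : Nat.blt A B = true
    · rw [h, cond_true]
      have hAB : A < B := by simpa using h
      by_cases h2 : Nat.blt A ((A + B) / 2) = true
      · rw [h2, cond_true]
        have h3 : A < (A + B) / 2 := by simpa using h2
        have h4 := cntF_le f A ((A + B) / 2)
        have h5 := cntF_le f ((A + B) / 2) B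
        have h6 : (Ioc A B).filter Nat.Prime = (Ioc A ((A + B) / 2)).filter Nat.Prime ∪
            (Ioc ((A + B) / 2) B).filter Nat.Prime := by
          rw [← filter_union, Ioc_union_Ioc_eq_Ioc (by omega) (by omega)]
        rw [h6, card_union_of_disjoint]
        · omega
        · rw [Finset.disjoint_left]
          intro x hx hy
          rw [mem_filter, mem_Ioc] at hx hy
          omega
      · rw [Bool.not_eq_true] at h2
        rw [h2, cond_false]
        by_cases h3 : isP B = true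
        · rw [h3, cond_true, Nat.one_le_iff_ne_zero, ← Nat.pos_iff_ne_zero, card_pos]
          exact ⟨B, mem_filter.2 ⟨mem_Ioc.2 ⟨hAB, le_rfl⟩, prime_of_isP h3⟩⟩
        · rw [Bool.not_eq_true] at h3
          rw [h3, cond_false]
          exact Nat.zero_le _
    · rw [Bool.not_eq_true] at h
      rw [h, cond_false]
      exact Nat.zero_le _

theorem card_T_ge {n a b c0 : ℕ} (h1 : a ≤ n) (h2 : n < b) (h : Nat.ble (c0 + 1) (cntF 20 ((b - 1) / 2) a) = true) :
    c0 ≤ (T n).card - 1 := by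
  have h3 := Nat.le_of_ble_eq_true h
  have h4 := cntF_le 20 ((b - 1) / 2) a
  have h5 : (Ioc ((b - 1) / 2) a).filter Nat.Prime ⊆ T n := by
    intro x hx
    unfold T
    rw [mem_filter, mem_Ioc] at hx ⊢
    exact ⟨⟨by omega, by omega⟩, hx.2⟩
  have h6 := card_le_card h5
  omega

private theorem _root_.Cfsg.Agent.KO927f2dd.e0.{ku} {M : Nat → Sort ku} (φ : ∀ n, M n) {z : M Nat.zero} {s : ∀ n, M n → M (Nat.succ n)} (h0 : φ Nat.zero = z) (hs : ∀ n, φ (Nat.succ n) = s n (φ n)) (n : Nat) : φ n = @Nat.rec M z s n := Nat.rec h0 (fun n ih => (hs n).trans (congrArg (s n) ih)) n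
private noncomputable def _root_.Cfsg.Agent.KO927f2dd.k1 : (by first | exact type_of% @Cfsg.Agent.H357.Cheb.isP | exact Unit : Sort _) := by first | (refine @Subtype.val _ (fun g => @Cfsg.Agent.H357.Cheb.isP = @g) (@Subtype.mk _ _ (@(fun x0 => @Bool.rec.{1} @(fun x1 => @Bool) (@Bool.rec.{1} @(fun x1 => @Bool) @Bool.false (@Nat.beq (@Nat.gcd @x0 @Cfsg.Agent.H357.ChebTab.fac250) (nat_lit 1)) (@Bool.rec.{1} @(fun x1 => @Bool) @Bool.false (@Nat.ble (@Nat.succ @x0) (nat_lit 63001)) (@Nat.ble (@Nat.succ (nat_lit 250)) @x0))) @Bool.true (@Bool.rec.{1} @(fun x1 => @Bool) (@Bool.rec.{1} @(fun x1 => @Bool) @Bool.false (@Nat.beq (@Nat.gcd @x0 (nat_lit 20922789888000)) (nat_lit 1)) (@Bool.rec.{1} @(fun x1 => @Bool) @Bool.false (@Nat.ble (@Nat.succ @x0) (nat_lit 289)) (@Nat.ble (@Nat.succ (nat_lit 16)) @x0))) @Bool.true (@Bool.rec.{1} @(fun x1 => @Bool) @Bool.false (@Nat.beq (@Nat.gcd @x0 (nat_lit 24)) (nat_lit 1)) (@Bool.rec.{1} @(fun x1 => @Bool) @Bool.false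 (@Nat.ble (@Nat.succ @x0) (nat_lit 25)) (@Nat.ble (@Nat.succ (nat_lit 4)) @x0)))))) ?_); (try delta Cfsg.Agent.H357.Cheb.isP); (try generalize @Cfsg.Agent.H357.ChebTab.fac250 = g0); rfl') | exact @Cfsg.Agent.H357.Cheb.isP | exact ()
private theorem _root_.Cfsg.Agent.KO927f2dd.e1 : (by first | exact @Cfsg.Agent.H357.Cheb.isP = @_root_.Cfsg.Agent.KO927f2dd.k1 | exact True : Prop) := by first | (delta _root_.Cfsg.Agent.KO927f2dd.k1; exact @Subtype.property _ (fun g => @Cfsg.Agent.H357.Cheb.isP = @g) _) | rfl | trivial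
private noncomputable def _root_.Cfsg.Agent.KO927f2dd.k2 : (by first | exact type_of% @Cfsg.Agent.H870.CardT.cntF | exact Unit : Sort _) := by first | (refine @Subtype.val _ (fun g => @Cfsg.Agent.H870.CardT.cntF = @g) (@Subtype.mk _ _ (@(fun x0 x1 x2 => @Nat.rec.{1} @(fun x3 => ℕ → ℕ → ℕ) @(fun x3 x4 => nat_lit 0) @(fun x3 x4 x5 x6 => @Bool.rec.{1} @(fun x7 => ℕ) (nat_lit 0) (@Bool.rec.{1} @(fun x7 => ℕ) (@Bool.rec.{1} @(fun x7 => ℕ) (nat_lit 0) (nat_lit 1) (@Cfsg.Agent.KO927f2dd.k1 @x6)) (@Nat.add (@x4 @x5 (@Nat.div (@Nat.add @x5 @x6) (nat_lit 2))) (@x4 (@Nat.div (@Nat.add @x5 @x6) (nat_lit 2)) @x6)) (@Nat.ble (@Nat.succ @x5) (@Nat.div (@Nat.add @x5 @x6) (nat_lit 2)))) (@Nat.ble (@Nat.succ @x5) @x6)) @x0 @x1 @x2)) ?_); rewrite [← Cfsg.Agent.KO927f2dd.e1]; funext a0 a1 a2; refine (congrFun (congrFun (_root_.Cfsg.Agent.KO927f2dd.e0 (fun a0 a1 a2 => @Cfsg.Agent.H870.CardT.cntF a0 a1 a2) ?_ (fun c0 => ?_) a0) a1) a2 :) <;> ((try delta Cfsg.Agent.H870.CardT.cntF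 Cfsg.Agent.H870.CardT.cntF._f); (try generalize @Cfsg.Agent.H357.Cheb.isP = g0); rfl')) | exact @Cfsg.Agent.H870.CardT.cntF | exact ()
private theorem _root_.Cfsg.Agent.KO927f2dd.e2 : (by first | exact @Cfsg.Agent.H870.CardT.cntF = @_root_.Cfsg.Agent.KO927f2dd.k2 | exact True : Prop) := by first | (delta _root_.Cfsg.Agent.KO927f2dd.k2; exact @Subtype.property _ (fun g => @Cfsg.Agent.H870.CardT.cntF = @g) _) | rfl | trivial

/-- the medium range -/
theorem m0 : Nat.ble (182 + 1) (cntF 20 ((3142 - 1) / 2) 3000) = true := by (first | (rewrite [Cfsg.Agent.KO927f2dd.e2]; decide +kernel) | decide +kernel)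
theorem m1 : Nat.ble (186 + 1) (cntF 20 ((3287 - 1) / 2) 3142) = true := by (first | (rewrite [Cfsg.Agent.KO927f2dd.e2]; decide +kernel) | decide +kernel)
theorem m2 : Nat.ble (192 + 1) (cntF 20 ((3466 - 1) / 2) 3287) = true := by (first | (rewrite [Cfsg.Agent.KO927f2dd.e2]; decide +kernel) | decide +kernel)
theorem m3 : Nat.ble (199 + 1) (cntF 20 ((3742 - 1) / 2) 3466) = true := by (first | (rewrite [Cfsg.Agent.KO927f2dd.e2]; decide +kernel) | decide +kernel)
theorem m4 : Nat.ble (209 + 1) (cntF 20 ((4150 - 1) / 2) 3742) = true := by (first | (rewrite [Cfsg.Agent.KO927f2dd.e2]; decide +kernel) | decide +kernel)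
theorem m5 : Nat.ble (223 + 1) (cntF 20 ((4682 - 1) / 2) 4150) = true := by (first | (rewrite [Cfsg.Agent.KO927f2dd.e2]; decide +kernel) | decide +kernel)
theorem m6 : Nat.ble (239 + 1) (cntF 20 ((5414 - 1) / 2) 4682) = true := by (first | (rewrite [Cfsg.Agent.KO927f2dd.e2]; decide +kernel) | decide +kernel)
theorem m7 : Nat.ble (269 + 1) (cntF 20 ((6242 - 1) / 2) 5414) = true := by (first | (rewrite [Cfsg.Agent.KO927f2dd.e2]; decide +kernel) | decide +kernel)
theorem m8 : Nat.ble (293 + 1) (cntF 20 ((7415 - 1) / 2) 6242) = true := by (first | (rewrite [Cfsg.Agent.KO927f2dd.e2]; decide +kernel) | decide +kernel)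
theorem m9 : Nat.ble (324 + 1) (cntF 20 ((9067 - 1) / 2) 7415) = true := by (first | (rewrite [Cfsg.Agent.KO927f2dd.e2]; decide +kernel) | decide +kernel)
theorem m10 : Nat.ble (367 + 1) (cntF 20 ((11582 - 1) / 2) 9067) = true := by (first | (rewrite [Cfsg.Agent.KO927f2dd.e2]; decide +kernel) | decide +kernel)
theorem m11 : Nat.ble (421 + 1) (cntF 20 ((15308 - 1) / 2) 11582) = true := by (first | (rewrite [Cfsg.Agent.KO927f2dd.e2]; decide +kernel) | decide +kernel)
theorem m12 : Nat.ble (513 + 1) (cntF 20 ((20835 - 1) / 2) 15308) = true := by (first | (rewrite [Cfsg.Agent.KO927f2dd.e2]; decide +kernel) | decide +kernel)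
theorem m13 : Nat.ble (612 + 1) (cntF 20 ((29558 - 1) / 2) 20835) = true := by (first | (rewrite [Cfsg.Agent.KO927f2dd.e2]; decide +kernel) | decide +kernel)
theorem m14 : Nat.ble (745 + 1) (cntF 20 ((43940 - 1) / 2) 29558) = true := by (first | (rewrite [Cfsg.Agent.KO927f2dd.e2]; decide +kernel) | decide +kernel)
theorem m15 : Nat.ble (928 + 1) (cntF 20 ((68078 - 1) / 2) 43940) = true := by (first | (rewrite [Cfsg.Agent.KO927f2dd.e2]; decide +kernel) | decide +kernel)

theorem one_step {n a b c0 : ℕ} (h1 : a ≤ n) (h2 : n < b) (h : Nat.ble (c0 + 1) (cntF 20 ((b - 1) / 2) a) = true)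
    (h0 : 60 ≤ c0) {k : ℕ} (hk : Nat.log 2 c0 = k) (h3 : 20 * (b - 1) * (k + 3) ≤ 19 * c0 ^ 2) :
    60 ≤ (T n).card - 1 ∧ 20 * n * (Nat.log 2 ((T n).card - 1) + 2) ≤ 19 * ((T n).card - 1) ^ 2 := by
  refine mono h0 (card_T_ge h1 h2 h) ?_
  rw [hk]
  refine le_trans ?_ h3
  gcongr
  omega

theorem card_T_mid {n : ℕ} (hn : 3000 ≤ n) (hn2 : n < 68078) : 60 ≤ (T n).card - 1 ∧
    20 * n * (Nat.log 2 ((T n).card - 1) + 2) ≤ 19 * ((T n).card - 1) ^ 2 := by
  rcases Nat.lt_or_ge n 3142 with h0 | h0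
  · exact one_step (a := 3000) hn h0 m0 (by norm_num) (k := 7) (by rw [Nat.log_eq_iff (by norm_num)]; norm_num) (by norm_num)
  rcases Nat.lt_or_ge n 3287 with h1 | h1
  · exact one_step (a := 3142) h0 h1 m1 (by norm_num) (k := 7) (by rw [Nat.log_eq_iff (by norm_num)]; norm_num) (by norm_num)
  rcases Nat.lt_or_ge n 3466 with h2 | h2
  · exact one_step (a := 3287) h1 h2 m2 (by norm_num) (k := 7) (by rw [Nat.log_eq_iff (by norm_num)]; norm_num) (by norm_num)
  rcases Nat.lt_or_ge n 3742 with h3 | h3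
  · exact one_step (a := 3466) h2 h3 m3 (by norm_num) (k := 7) (by rw [Nat.log_eq_iff (by norm_num)]; norm_num) (by norm_num)
  rcases Nat.lt_or_ge n 4150 with h4 | h4
  · exact one_step (a := 3742) h3 h4 m4 (by norm_num) (k := 7) (by rw [Nat.log_eq_iff (by norm_num)]; norm_num) (by norm_num)
  rcases Nat.lt_or_ge n 4682 with h5 | h5
  · exact one_step (a := 4150) h4 h5 m5 (by norm_num) (k := 7) (by rw [Nat.log_eq_iff (by norm_num)]; norm_num) (by norm_num)
  rcases Nat.lt_or_ge n 5414 with h6 | h6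
  · exact one_step (a := 4682) h5 h6 m6 (by norm_num) (k := 7) (by rw [Nat.log_eq_iff (by norm_num)]; norm_num) (by norm_num)
  rcases Nat.lt_or_ge n 6242 with h7 | h7
  · exact one_step (a := 5414) h6 h7 m7 (by norm_num) (k := 8) (by rw [Nat.log_eq_iff (by norm_num)]; norm_num) (by norm_num)
  rcases Nat.lt_or_ge n 7415 with h8 | h8
  · exact one_step (a := 6242) h7 h8 m8 (by norm_num) (k := 8) (by rw [Nat.log_eq_iff (by norm_num)]; norm_num) (by norm_num)
  rcases Nat.lt_or_ge n 9067 with h9 | h9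
  · exact one_step (a := 7415) h8 h9 m9 (by norm_num) (k := 8) (by rw [Nat.log_eq_iff (by norm_num)]; norm_num) (by norm_num)
  rcases Nat.lt_or_ge n 11582 with h10 | h10
  · exact one_step (a := 9067) h9 h10 m10 (by norm_num) (k := 8) (by rw [Nat.log_eq_iff (by norm_num)]; norm_num) (by norm_num)
  rcases Nat.lt_or_ge n 15308 with h11 | h11
  · exact one_step (a := 11582) h10 h11 m11 (by norm_num) (k := 8) (by rw [Nat.log_eq_iff (by norm_num)]; norm_num) (by norm_num)
  rcases Nat.lt_or_ge n 20835 with h12 | h12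
  · exact one_step (a := 15308) h11 h12 m12 (by norm_num) (k := 9) (by rw [Nat.log_eq_iff (by norm_num)]; norm_num) (by norm_num)
  rcases Nat.lt_or_ge n 29558 with h13 | h13
  · exact one_step (a := 20835) h12 h13 m13 (by norm_num) (k := 9) (by rw [Nat.log_eq_iff (by norm_num)]; norm_num) (by norm_num)
  rcases Nat.lt_or_ge n 43940 with h14 | h14
  · exact one_step (a := 29558) h13 h14 m14 (by norm_num) (k := 9) (by rw [Nat.log_eq_iff (by norm_num)]; norm_num) (by norm_num)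
  exact one_step (a := 43940) h14 hn2 m15 (by norm_num) (k := 9) (by rw [Nat.log_eq_iff (by norm_num)]; norm_num) (by norm_num)

/-! ### the large range -/

theorem log_cube {n : ℕ} (hn : 60000 ≤ n) : Real.log n ^ 3 ≤ 0.023 * (n : ℝ) := by
  have hn' : (60000 : ℝ) ≤ n := by exact_mod_cast hn
  obtain ⟨r, hr0, hr⟩ : ∃ r : ℝ, 0 < r ∧ r ^ 3 = n := by
    refine ⟨(n : ℝ) ^ (3 : ℝ)⁻¹, Real.rpow_pos_of_pos (by linarith) _, ?_⟩
    rw [← Real.rpow_natCast, ← Real.rpow_mul (by linarith)]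
    norm_num
  have hr1 : 39.1 ≤ r := by
    by_contra h
    rw [not_le] at h
    have h1 : r ^ 3 < 39.1 ^ 3 := pow_lt_pow_left₀ h hr0.le (by norm_num)
    rw [hr] at h1
    norm_num at h1
    linarith only [hn', h1]
  have h1 := log_le_tangent (x := r) hr0 (show (0 : ℝ) < 40 by norm_num)
  have h2 : Real.log 40 ≤ 3.689 := by
    have e : Real.log 40 = 3 * Real.log 2 + Real.log 5 := by
      rw [show (40 : ℝ) = 2 ^ 3 * 5 by norm_num, Real.log_mul (by norm_num) (by norm_num), Real.log_pow]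
      push_cast
      ring
    rw [e]
    have := Real.log_two_lt_d9
    have := Real.log_five_lt_d9
    linarith
  have h3 : Real.log n = 3 * Real.log r := by
    rw [← hr, Real.log_pow]
    push_cast
    ring
  have h4 : Real.log n ≤ 0.2815 * r := by
    rw [h3]
    linarith
  have h5 : 0 ≤ Real.log n := Real.log_nonneg (by linarith only [hn'])
  calc Real.log n ^ 3 ≤ (0.2815 * r) ^ 3 := pow_le_pow_left₀ h5 h4 3
    _ = 0.2815 ^ 3 * n := by rw [mul_pow, hr]
    _ ≤ 0.023 * n := by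
      apply mul_le_mul_of_nonneg_right _ (by linarith only [hn'])
      norm_num

theorem card_T_large {n : ℕ} (hn : 60000 ≤ n) : 60 ≤ (T n).card - 1 ∧
    20 * n * (Nat.log 2 ((T n).card - 1) + 2) ≤ 19 * ((T n).card - 1) ^ 2 := by
  have hn' : (60000 : ℝ) ≤ n := by exact_mod_cast hn
  have h1 := theta_lower (m := n) (by omega)
  have h2 := psi_upper (n := n / 2) (by omega)
  have h3 := Chebyshev.theta_le_psi ((n / 2 : ℕ) : ℝ)
  have h4 : ((n / 2 : ℕ) : ℝ) ≤ 0.5 * (n : ℝ) := by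
    have := Nat.cast_div_le (α := ℝ) (m := n) (n := 2)
    push_cast at this
    linarith only [this]
  have h5 : Real.log ((n / 2 : ℕ) : ℝ) ≤ Real.log n := by
    apply Real.log_le_log
    · have : 0 < n / 2 := by omega
      exact_mod_cast this
    · linarith only [h4]
  have h6 := log_le_lin hn
  have h7 := sqrt_le_lin hn
  have h8 : 0.3499 * (n : ℝ) ≤ θ n - θ (n / 2 : ℕ) := by linarith
  rw [theta_sub (by omega)] at h8
  change 0.3499 * (n : ℝ) ≤ ∑ t ∈ T n, Real.log t at h8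
  have h9 : ∑ t ∈ T n, Real.log t ≤ ∑ t ∈ T n, Real.log n := by
    refine sum_le_sum fun t ht => ?_
    unfold T at ht
    rw [mem_filter, mem_Ioc] at ht
    apply Real.log_le_log
    · exact_mod_cast ht.2.pos
    · exact_mod_cast ht.1.2
  rw [sum_const, nsmul_eq_mul] at h9
  have hcn : (T n).card ≤ n := by
    calc (T n).card ≤ (Ioc (n / 2) n).card := card_filter_le _ _
      _ ≤ n := by rw [Nat.card_Ioc]; omega
  generalize hC : (T n).card = C at h9 hcn ⊢
  have hL0 : 11 ≤ Real.log n := by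
    have e : Real.log 60000 = 5 * Real.log 2 + Real.log 3 + 4 * Real.log 5 := by
      rw [show (60000 : ℝ) = 2 ^ 5 * 3 * 5 ^ 4 by norm_num, Real.log_mul (by norm_num) (by norm_num),
        Real.log_mul (by norm_num) (by norm_num), Real.log_pow, Real.log_pow]
      push_cast
      ring
    have h10 : Real.log 60000 ≤ Real.log n := Real.log_le_log (by norm_num) hn'
    have := Real.log_two_gt_d9
    have := Real.log_three_gt_d9
    have := Real.log_five_gt_d9
    linarith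
  have hL3 := log_cube hn
  set L := Real.log n with hL
  have hC1 : 1 ≤ C := by
    by_contra h
    have : C = 0 := by omega
    subst this
    push_cast at h9
    linarith only [hn', h8, h9]
  obtain ⟨c, rfl⟩ : ∃ c, C = c + 1 := ⟨C - 1, by omega⟩
  rw [Nat.add_sub_cancel]
  push_cast at h9
  have h10 : 0.3497 * (n : ℝ) ≤ c * L := by linarith only [h8, h6, h9]
  have h60 : 60 ≤ c := by
    by_contra h
    have h11 : (c : ℝ) ≤ 60 := by
      have : c ≤ 60 := by omega
      exact_mod_cast this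
    have h12 : (c : ℝ) * L ≤ 60 * L := mul_le_mul_of_nonneg_right h11 (by linarith only [hL0])
    linarith only [hn', h8, h6, h9, h12]
  refine ⟨h60, ?_⟩
  have h11 : (Nat.log 2 c : ℝ) * Real.log 2 ≤ L := by
    have h12 : 2 ^ Nat.log 2 c ≤ n := (Nat.pow_log_le_self 2 (by omega)).trans (by omega)
    have h13 : ((2 : ℝ)) ^ Nat.log 2 c ≤ n := by exact_mod_cast h12
    have h14 := Real.log_le_log (by positivity) h13
    rwa [Real.log_pow] at h14
  have h12 : (Nat.log 2 c : ℝ) ≤ 1.443 * L := by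
    have h13 := Real.log_two_gt_d9
    have h14 : (0 : ℝ) ≤ Nat.log 2 c := Nat.cast_nonneg _
    nlinarith only [h11, h13]
  have h13 : (20 * n * (Nat.log 2 c + 2) : ℝ) ≤ 19 * (c : ℝ) ^ 2 := by
    have hcL : (0.3497 * (n : ℝ)) ^ 2 ≤ (c * L) ^ 2 := pow_le_pow_left₀ (by linarith only []) h10 2
    have h14 : (Nat.log 2 c + 2 : ℝ) ≤ 1.625 * L := by linarith only [hL0, h12]
    have h15 : (20 * n * (Nat.log 2 c + 2) : ℝ) ≤ 20 * n * (1.625 * L) :=
      mul_le_mul_of_nonneg_left h14 (by linarith only [hn'])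
    refine h15.trans ?_
    have hL2 : (0 : ℝ) < L ^ 2 := by positivity
    have h16 : 20 * n * (1.625 * L) * L ^ 2 ≤ 19 * (c : ℝ) ^ 2 * L ^ 2 := by
      calc 20 * (n : ℝ) * (1.625 * L) * L ^ 2 = 32.5 * (n : ℝ) * L ^ 3 := by ring
        _ ≤ 32.5 * (n : ℝ) * (0.023 * (n : ℝ)) := mul_le_mul_of_nonneg_left hL3 (by linarith only [])
        _ ≤ 19 * (0.3497 * (n : ℝ)) ^ 2 := by linarith only [_root_.sq_nonneg (1 * 3497 * (1 * ↑n) : ℝ)]
        _ ≤ 19 * (c * L) ^ 2 := by linarith only [hcL]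
        _ = _ := by ring
    exact le_of_mul_le_mul_right h16 hL2
  exact_mod_cast h13

/-- **task B4** -/
theorem card_T {n : ℕ} (hn : 3000 ≤ n) : 60 ≤ (T n).card - 1 ∧
    20 * n * (Nat.log 2 ((T n).card - 1) + 2) ≤ 19 * ((T n).card - 1) ^ 2 := by
  rcases Nat.lt_or_ge n 60000 with h | h
  · exact card_T_mid hn (by omega)
  · exact card_T_large h

end Cfsg.Agent.H870.CardT
end

-- part: H511/Sp/Fin
section
/-!
# Groups with the spectrum of `Alt n`, `Sym n`: the solvable radical is trivial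
-/

set_option autoImplicit false
set_option linter.unusedVariables false
set_option linter.unusedSectionVars false

namespace Cfsg.Agent.H511.Sp

open Cfsg Cfsg.Agent.H357.Sp Subgroup

/-- element orders of quotients are element orders -/
theorem exists_order_of_quot {G : Type*} [Group G] [Finite G] {L : Subgroup G} [L.Normal] (x : G ⧸ L) :
    ∃ y : G, orderOf y = orderOf x := by
  obtain ⟨g, rfl⟩ := QuotientGroup.mk_surjective x
  have h1 : orderOf (QuotientGroup.mk g : G ⧸ L) ∣ orderOf g := orderOf_map_dvd (QuotientGroup.mk' L) g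
  obtain ⟨c, hc⟩ := h1
  have h0 : 0 < orderOf g := orderOf_pos g
  have hc0 : c ≠ 0 := by rintro rfl; rw [hc] at h0; simp at h0
  refine ⟨g ^ c, ?_⟩
  rw [orderOf_pow' g hc0]
  have h2 : Nat.gcd (orderOf g) c = c := by
    rw [hc]; exact Nat.gcd_eq_right (Dvd.intro_left _ rfl)
  rw [h2, hc, Nat.mul_div_cancel _ (Nat.pos_of_ne_zero hc0)]

section core

variable {G : Type} [Group G] [Finite G] {V : Subgroup G} [V.Normal] {m t : ℕ}

/-- the abelian group structure -/
@[reducible] def commV (hab : ∀ x ∈ V, ∀ y ∈ V, x * y = y * x) : CommGroup ↥V :=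
  { (inferInstance : Group ↥V) with mul_comm := fun a b => Subtype.ext (hab _ a.2 _ b.2) }

/-- conjugation of the quotient on the abelian normal subgroup -/
theorem exists_action (hab : ∀ x ∈ V, ∀ y ∈ V, x * y = y * x) :
    ∃ θ : (G ⧸ V) →* MulAut ↥V, ∀ (g : G) (v : ↥V), ((θ (QuotientGroup.mk g) v : ↥V) : G) = g * v * g⁻¹ := by
  refine ⟨QuotientGroup.lift V (MulAut.conjNormal : G →* MulAut ↥V) ?_, ?_⟩
  · intro x hx
    ext v
    rw [MulAut.conjNormal_apply, MulAut.one_apply, hab x hx v v.2, mul_inv_cancel_right]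
  · intro g v
    exact MulAut.conjNormal_apply g v

/-- **the core**: a quotient with elementary abelian kernel contains an element of forbidden order -/
theorem core {ε n : ℕ} (ht : t.Prime) (hV : V ≠ ⊥) (hab : ∀ x ∈ V, ∀ y ∈ V, x * y = y * x) (hexp : ∀ x ∈ V, x ^ t = 1)
    (ι : alternatingGroup (Fin m) →* G ⧸ V) (hι : Function.Injective ι)
    (hhit : ∀ (V : Type) [AddCommGroup V] [Finite V], (∀ v : V, t • v = 0) →
      ∀ ρ : alternatingGroup (Fin m) →* AddMonoid.End V,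
      (∃ a v, ρ a v ≠ v) → ∃ a, n < W (t * orderOf a) + (if Even (t * orderOf a) then ε else 0) ∧ ∃ v, nrm ρ a v ≠ 0)
    (hcen : ∃ k, 0 < k ∧ ¬ t ∣ k ∧ (∃ a : alternatingGroup (Fin m), orderOf a = k) ∧
      n < W (t * k) + (if Even (t * k) then ε else 0)) :
    ∃ x : G, n < W (orderOf x) + (if Even (orderOf x) then ε else 0) := by
  obtain ⟨θ, hθ⟩ := exists_action (V := V) hab
  have hft := Fact.mk ht
  -- elements above `a` with `x ^ o ≠ 1`
  have key : ∀ (a : alternatingGroup (Fin m)) (x : G), (QuotientGroup.mk x : G ⧸ V) = ι a → x ^ orderOf a ≠ 1 →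
      orderOf x = t * orderOf a := by
    intro a x hx hne
    have h1 : orderOf (QuotientGroup.mk x : G ⧸ V) = orderOf a := by rw [hx, orderOf_injective ι hι]
    have h2 : orderOf a ∣ orderOf x := by rw [← h1]; exact orderOf_map_dvd (QuotientGroup.mk' V) x
    have h3 : x ^ orderOf a ∈ V := by
      rw [← QuotientGroup.eq_one_iff, QuotientGroup.mk_pow, ← h1, pow_orderOf_eq_one]
    have h4 : orderOf (x ^ orderOf a) = t := orderOf_eq_prime (hexp _ h3) hne
    have h5 : 0 < orderOf a := orderOf_pos a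
    rw [orderOf_pow' x h5.ne', Nat.gcd_eq_right h2] at h4
    rw [← h4, Nat.div_mul_cancel h2]
  let _ : CommGroup ↥V := commV hab
  let ρ : alternatingGroup (Fin m) →* AddMonoid.End (Additive ↥V) :=
    { toFun := fun a => MonoidHom.toAdditive ((θ (ι a) : MulAut ↥V) : ↥V ≃* ↥V).toMonoidHom
      map_one' := by
        ext v
        simp only [_root_.map_one, _root_.MulEquiv.toMonoidHom_eq_coe, _root_.AddMonoid.End.coe_one, _root_.id_eq, _root_.SetLike.coe_eq_coe, _root_.EmbeddingLike.apply_eq_iff_eq]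
        rfl
      map_mul' := by
        intro a b
        ext v
        simp
        rfl }
  have hρ : ∀ (a : alternatingGroup (Fin m)) (v : ↥V), ρ a (Additive.ofMul v) = Additive.ofMul (θ (ι a) v) :=
    fun a v => rfl
  by_cases hact : ∃ a v, ρ a v ≠ v
  · obtain ⟨a, ha, v, hv⟩ := hhit (Additive ↥V) (by
      intro v
      have : (Additive.toMul v : ↥V) ^ t = 1 := Subtype.ext (hexp _ (Additive.toMul v).2)
      exact this) ρ hact
    obtain ⟨g, hg⟩ := QuotientGroup.mk_surjective (ι a)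
    -- the norm
    have hnrm : (Additive.toMul (nrm ρ a v) : ↥V) =
        ∏ i ∈ Finset.range (orderOf a), θ (QuotientGroup.mk (g ^ i)) (Additive.toMul v) := by
      rw [nrm, toMul_sum]
      refine Finset.prod_congr rfl fun i _ => ?_
      have : ι (a ^ i) = QuotientGroup.mk (g ^ i) := by rw [map_pow, ← hg, QuotientGroup.mk_pow]
      rw [← this]
      rfl
    have hpow : ∀ k : ℕ, (((Additive.toMul v : ↥V) : G) * g) ^ k =
        ((∏ i ∈ Finset.range k, θ (QuotientGroup.mk (g ^ i)) (Additive.toMul v) : ↥V) : G) * g ^ k := by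
      intro k
      induction k with
      | zero => simp only [_root_.pow_zero, _root_.Finset.range_zero, _root_.QuotientGroup.mk_pow, _root_.map_pow, _root_.Finset.prod_empty, _root_.OneMemClass.coe_one, _root_.mul_one]
      | succ k ih =>
        have h1 : ((∏ i ∈ Finset.range (k + 1), θ (QuotientGroup.mk (g ^ i)) (Additive.toMul v) : ↥V) : G) =
            ((∏ i ∈ Finset.range k, θ (QuotientGroup.mk (g ^ i)) (Additive.toMul v) : ↥V) : G) *
              (g ^ k * ((Additive.toMul v : ↥V) : G) * (g ^ k)⁻¹) := by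
          rw [Finset.prod_range_succ, ← hθ]
          rfl
        rw [pow_succ, ih, h1, pow_succ]
        group
    have hex : ∃ x : G, (QuotientGroup.mk x : G ⧸ V) = ι a ∧ x ^ orderOf a ≠ 1 := by
      by_cases hg1 : g ^ orderOf a = 1
      · refine ⟨((Additive.toMul v : ↥V) : G) * g, ?_, ?_⟩
        · rw [← hg, QuotientGroup.eq]
          have : (((Additive.toMul v : ↥V) : G) * g)⁻¹ * g = g⁻¹ * (((Additive.toMul v : ↥V) : G))⁻¹ * g := by group
          rw [this]
          have h2 := (inferInstance : V.Normal).conj_mem _ (inv_mem (Additive.toMul v : ↥V).2) g⁻¹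
          rwa [inv_inv] at h2
        · rw [hpow, ← hnrm, hg1, mul_one]
          intro h2
          apply hv
          have h3 : (Additive.toMul (nrm ρ a v) : ↥V) = 1 := Subtype.ext h2
          exact h3
      · exact ⟨g, hg, hg1⟩
    obtain ⟨x, hx1, hx2⟩ := hex
    exact ⟨x, by rw [key a x hx1 hx2]; exact ha⟩
  · push Not at hact
    obtain ⟨k, hk0, htk, ⟨a, ha⟩, hk⟩ := hcen
    obtain ⟨g, hg⟩ := QuotientGroup.mk_surjective (ι a)
    by_cases hg1 : g ^ orderOf a = 1
    · obtain ⟨⟨v, hv⟩, hv0⟩ := Subgroup.ne_bot_iff_exists_ne_one.1 hV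
      have hv1 : v ≠ 1 := fun h => hv0 (Subtype.ext h)
      have hgv : g * v = v * g := by
        have h1 := hact a (Additive.ofMul ⟨v, hv⟩)
        have h2 : θ (ι a) ⟨v, hv⟩ = ⟨v, hv⟩ := h1
        have h3 := hθ g ⟨v, hv⟩
        rw [hg, h2] at h3
        exact (mul_inv_eq_iff_eq_mul.1 h3.symm)
      refine ⟨v * g, ?_⟩
      rw [key a (v * g) ?_ ?_, ha]
      · exact hk
      · rw [← hg, QuotientGroup.eq]
        have : (v * g)⁻¹ * g = g⁻¹ * v⁻¹ * g := by group
        rw [this]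
        have h2 := (inferInstance : V.Normal).conj_mem _ (inv_mem hv) g⁻¹
        rwa [inv_inv] at h2
      · have hc : Commute v g := hgv.symm
        rw [hc.mul_pow, hg1, mul_one, ha]
        intro h2
        have h3 : orderOf v = t := orderOf_eq_prime (hexp v hv) hv1
        have h4 := orderOf_dvd_of_pow_eq_one h2
        rw [h3] at h4
        exact htk h4
    · exact ⟨g, by rw [key a g hg hg1, ha]; exact hk⟩

end core

/-- a non-trivial solvable normal subgroup has an elementary abelian quotient -/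
theorem exists_lower {G : Type*} [Group G] [Finite G] {N : Subgroup G} [N.Normal] (hN : Group.IsSolvable ↥N)
    (h : N ≠ ⊥) : ∃ (t : ℕ) (L : Subgroup G) (_ : L.Normal), t.Prime ∧ L < N ∧ (∀ x ∈ N, x ^ t ∈ L) ∧
      ∀ x ∈ N, ∀ y ∈ N, x * y * x⁻¹ * y⁻¹ ∈ L := by
  have hnt : Nontrivial ↥N := (Subgroup.nontrivial_iff_ne_bot N).2 h
  have hsol : Group.IsSolvable ↥N := hN
  have hlt : commutator ↥N < ⊤ := Group.IsSolvable.commutator_lt_top_of_nontrivial ↥N
  have hcard : Nat.card (Abelianization ↥N) ≠ 1 := by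
    intro h1
    apply hlt.ne
    exact Subgroup.index_eq_one.1 h1
  obtain ⟨t, ht, hd⟩ := Nat.exists_prime_and_dvd hcard
  have := Fact.mk ht
  let L' : Subgroup ↥N := (powMonoidHom t : Abelianization ↥N →* Abelianization ↥N).range.comap Abelianization.of
  have hsurj : Function.Surjective (Abelianization.of : ↥N →* Abelianization ↥N) := QuotientGroup.mk_surjective
  refine ⟨t, L'.map N.subtype, ⟨?_⟩, ht, ?_, ?_, ?_⟩
  · rintro _ ⟨y, ⟨z, hz⟩, rfl⟩ g
    refine ⟨(MulAut.conjNormal g : MulAut ↥N) y, ⟨Abelianization.map (MulAut.conjNormal g : MulAut ↥N).toMonoidHom z, ?_⟩, ?_⟩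
    · have h1 : Abelianization.of ((MulAut.conjNormal g : MulAut ↥N) y) =
          Abelianization.map (MulAut.conjNormal g : MulAut ↥N).toMonoidHom (Abelianization.of y) := rfl
      rw [h1, ← hz, powMonoidHom_apply, powMonoidHom_apply, map_pow]
    · exact MulAut.conjNormal_apply g y
  · refine lt_of_le_of_ne (Subgroup.map_subtype_le _) ?_
    intro h1
    obtain ⟨z, hz⟩ := exists_prime_orderOf_dvd_card' t hd
    have htop : L' = ⊤ := by
      have h2 : L'.map N.subtype = (⊤ : Subgroup ↥N).map N.subtype := by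
        rw [h1, ← MonoidHom.range_eq_map, Subgroup.range_subtype]
      exact Subgroup.map_injective N.subtype_injective h2
    have hsu : Function.Surjective (powMonoidHom t : Abelianization ↥N →* Abelianization ↥N) := by
      intro w
      obtain ⟨y, rfl⟩ := hsurj w
      have h3 : y ∈ L' := by rw [htop]; trivial
      exact h3
    have hinj := Finite.injective_iff_surjective.2 hsu
    have h4 : z = 1 := hinj (by
      show z ^ t = 1 ^ t
      rw [← hz, pow_orderOf_eq_one, one_pow])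
    rw [h4, orderOf_one] at hz
    exact ht.one_lt.ne hz
  · intro x hx
    refine ⟨⟨x, hx⟩ ^ t, ⟨Abelianization.of ⟨x, hx⟩, ?_⟩, rfl⟩
    rw [powMonoidHom_apply, map_pow]
  · intro x hx y hy
    refine ⟨⟨x, hx⟩ * ⟨y, hy⟩ * ⟨x, hx⟩⁻¹ * ⟨y, hy⟩⁻¹, ⟨1, ?_⟩, rfl⟩
    rw [map_one, map_mul, map_mul, map_mul, map_inv, map_inv]
    rw [mul_comm (Abelianization.of (⟨x, hx⟩ : ↥N)), mul_inv_cancel_right, mul_inv_cancel]

theorem eq_bot_of_solvable {ε n m : ℕ} (hε : ε = 0 ∨ ε = 2) {G : Type} [Group G] [Finite G] (h : Spec ε n G) {N : Subgroup G} [N.Normal]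
    (hN : Group.IsSolvable ↥N) (hm : 5 ≤ m) (hT : Top m N)
    (hhit : ∀ t : ℕ, t.Prime → ∀ (V : Type) [AddCommGroup V] [Finite V], (∀ v : V, t • v = 0) → ∀ ρ : alternatingGroup (Fin m) →* AddMonoid.End V,
      (∃ a v, ρ a v ≠ v) → ∃ a, n < W (t * orderOf a) + (if Even (t * orderOf a) then ε else 0) ∧ ∃ v, nrm ρ a v ≠ 0)
    (hcen : ∀ t : ℕ, t.Prime → ∃ k, 0 < k ∧ ¬ t ∣ k ∧ (∃ a : alternatingGroup (Fin m), orderOf a = k) ∧ n < W (t * k) + (if Even (t * k) then ε else 0)) : N = ⊥ := by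
  by_contra hne
  obtain ⟨t, L, hL, ht, hLN, hpow, hcomm⟩ := exists_lower hN hne
  -- the quotient by `L`
  have hVn : (N.map (QuotientGroup.mk' L)).Normal := Subgroup.Normal.map inferInstance _ (QuotientGroup.mk'_surjective L)
  have hV : N.map (QuotientGroup.mk' L) ≠ ⊥ := by
    intro h1
    rw [Subgroup.map_eq_bot_iff, QuotientGroup.ker_mk'] at h1
    exact absurd h1 (not_le_of_gt hLN)
  have hab : ∀ x ∈ N.map (QuotientGroup.mk' L), ∀ y ∈ N.map (QuotientGroup.mk' L), x * y = y * x := by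
    rintro _ ⟨x, hx, rfl⟩ _ ⟨y, hy, rfl⟩
    have h1 := hcomm x hx y hy
    rw [← QuotientGroup.eq_one_iff] at h1
    have h2 : QuotientGroup.mk' L x * QuotientGroup.mk' L y * (QuotientGroup.mk' L x)⁻¹ * (QuotientGroup.mk' L y)⁻¹ = 1 := h1
    rw [mul_inv_eq_one, mul_inv_eq_iff_eq_mul] at h2
    exact h2
  have hexp : ∀ x ∈ N.map (QuotientGroup.mk' L), x ^ t = 1 := by
    rintro _ ⟨x, hx, rfl⟩
    rw [← map_pow]
    exact (QuotientGroup.eq_one_iff _).2 (hpow x hx)
  let e1 : (G ⧸ L) ⧸ N.map (QuotientGroup.mk' L) ≃* G ⧸ N := QuotientGroup.quotientQuotientEquivQuotient L N hLN.le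
  obtain ⟨ι, hι⟩ : ∃ ι : alternatingGroup (Fin m) →* (G ⧸ L) ⧸ N.map (QuotientGroup.mk' L), Function.Injective ι := by
    rcases hT with hT | hT <;> obtain ⟨e⟩ := hT
    · exact ⟨(e.symm.trans e1.symm).toMonoidHom, (e.symm.trans e1.symm).injective⟩
    · exact ⟨(e.symm.trans e1.symm).toMonoidHom.comp (alternatingGroup (Fin m)).subtype,
        (e.symm.trans e1.symm).injective.comp Subtype.val_injective⟩
  obtain ⟨x, hx⟩ := core (ε := ε) (n := n) ht hV hab hexp ι hι (hhit t ht) (hcen t ht)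
  obtain ⟨y, hy⟩ := exists_order_of_quot x
  have h1 := h.up y
  rw [hy] at h1
  omega

/-- a group with a fixed-point-free element of prime order acting is nilpotent -/
theorem nilpotent_of_centralizer {G : Type*} [Group G] [Finite G] {N : Subgroup G} [N.Normal] {r : ℕ} (hr : r.Prime) (x : G) (hx : orderOf x = r)
    (hC : ∀ y ∈ N, x * y = y * x → y = 1) : Group.IsNilpotent ↥N := by
  by_cases hN : N = ⊥
  · subst hN
    infer_instance
  · have hfp : ∀ y : ↥N, (MulAut.conjNormal x : MulAut ↥N) y = y → y = 1 := by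
      intro y hy
      apply Subtype.ext
      apply hC y y.2
      have h1 := congrArg Subtype.val hy
      rw [MulAut.conjNormal_apply] at h1
      exact mul_inv_eq_iff_eq_mul.1 h1
    refine Cfsg.Agent.S0033.result (MulAut.conjNormal x : MulAut ↥N) ?_ r hr ?_
    · intro y hy
      exact hfp y hy
    · have := Fact.mk hr
      refine orderOf_eq_prime ?_ ?_
      · rw [← map_pow, ← hx, pow_orderOf_eq_one, map_one]
      · intro h1
        obtain ⟨y, hy⟩ := Subgroup.ne_bot_iff_exists_ne_one.1 hN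
        exact hy (hfp y (by rw [h1]; rfl))

end Cfsg.Agent.H511.Sp
end

-- part: H357/Sp/Gen
section
/-!
# Recognition of `Alt n` and `Sym n` by their spectra: the generic degrees `n ≥ 31` (helper357, TEAM SPEC-ALT)
-/

set_option autoImplicit false

namespace Cfsg.Agent.H357.Sp.Gen

open Cfsg Cfsg.Agent.H357.Sp Cfsg.Agent.H102.SpCent

variable {ε n m : ℕ} {G : Type} [Group G] [Finite G]

/-- the hypothesis on the norms of `eq_bot_of_solvable` -/
def HH (ε n m : ℕ) : Prop :=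
  ∀ t : ℕ, t.Prime → ∀ (V : Type) [AddCommGroup V] [Finite V], (∀ v : V, t • v = 0) →
    ∀ ρ : alternatingGroup (Fin m) →* AddMonoid.End V,
      (∃ a v, ρ a v ≠ v) → ∃ a, n < W (t * orderOf a) + (if Even (t * orderOf a) then ε else 0) ∧ ∃ v, nrm ρ a v ≠ 0

/-- the hypothesis on the centralizers of `eq_bot_of_solvable` -/
def HC (ε n m : ℕ) : Prop :=
  ∀ t : ℕ, t.Prime → ∃ k, 0 < k ∧ ¬ t ∣ k ∧ (∃ a : alternatingGroup (Fin m), orderOf a = k) ∧
    n < W (t * k) + (if Even (t * k) then ε else 0)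

theorem spec_bnd (h : Spec ε n G) : Bnd n G := fun g => le_trans (Nat.le_add_right _ _) (h.up g)

theorem bnd_quot {K : Subgroup G} [K.Normal] (h : Bnd n G) : Bnd n (G ⧸ K) := by
  intro x
  obtain ⟨y, hy⟩ := H511.Sp.exists_order_of_quot x
  rw [← hy]
  exact h y

theorem bnd_sub {Q : Type*} [Group Q] (h : Bnd n Q) (M : Subgroup Q) : Bnd n ↥M := by
  intro x
  rw [← Subgroup.orderOf_coe]
  exact h _

theorem bnd_congr {Q R : Type*} [Group Q] [Group R] (h : Bnd n Q) (e : Q ≃* R) : Bnd n R := by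
  intro x
  rw [← orderOf_injective e.symm.toMonoidHom e.symm.injective x]
  exact h _

theorem le_of_bnd {Q : Type*} [Group Q] [Finite Q] (h : Bnd n Q) {p : ℕ} (hp : p.Prime) (hd : p ∣ Nat.card Q) : p ≤ n := by
  have := Fact.mk hp
  obtain ⟨x, hx⟩ := exists_prime_orderOf_dvd_card' p hd
  have h1 := h x
  rwa [hx, W_prime hp] at h1

theorem mem_T {p : ℕ} : p ∈ T n ↔ n / 2 < p ∧ p ≤ n ∧ p.Prime := H964.SpAlt.mem_T'

theorem dvd_of_mem (h : Spec ε n G) (hn : 4 ≤ n) {p : ℕ} (hp : p ∈ T n) : p ∣ Nat.card G := by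
  obtain ⟨h1, h2, h3⟩ := mem_T.1 hp
  obtain ⟨x, hx⟩ := exists_x h h3 (by omega) h2
  rw [← hx]
  exact orderOf_dvd_natCard x

theorem not_adj (h : Bnd n G) {p q : ℕ} (hp : p ∈ T n) (hq : q ∈ T n) (hpq : p ≠ q) : ¬ ∃ x : G, orderOf x = p * q := by
  rintro ⟨x, hx⟩
  obtain ⟨h1, h2, h3⟩ := mem_T.1 hp
  obtain ⟨k1, k2, k3⟩ := mem_T.1 hq
  have h4 := h x
  rw [hx, W_mul ((Nat.coprime_primes h3 k3).2 hpq), W_prime h3, W_prime k3] at h4
  omega

theorem sub_of_big {c : ℕ} {S : Type*} [Group S] (h : H346.LN.Big c S) (hc : 60 ≤ c) : Sub c S := by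
  obtain ⟨E, i1, i2, u, a, k, h1, h2, h3, h4, f, hf⟩ := h
  refine ⟨E, i1, i2, k, ?_, f, hf⟩
  rcases h4 with ⟨-, h4⟩ | ⟨-, h4⟩ <;> omega

/-- no simple group of Lie type occurs -/
theorem no_lie (hn : 29 ≤ n) {S : Type} [Group S] [Finite S] [IsSimpleGroup S] (hB : Bnd n S) {t₀ : ℕ}
    (hT : ∀ p ∈ T n, p ≠ t₀ → p ∣ Nat.card S) {r : ℕ} (hr : r.Prime) (hS : IsLieTypeChar r S) : False := by
  rcases Nat.lt_or_ge n 3000 with h | h
  · exact H149.Sa.no_lie_small hn h hr (H414.LieShape.shape_of_lie hr hS) (fun p hp hd => le_of_bnd hB hp hd) t₀ hT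
  · obtain ⟨h1, h2⟩ := H870.CardT.card_T h
    have h3 : (T n).card - 1 ≤ ((T n).erase t₀).card := Finset.pred_card_le_card_erase
    obtain ⟨D, hD, hDc⟩ := Finset.exists_subset_card_eq h3
    have hco : H376.Coc.IsCoc S D := by
      refine ⟨fun p hp => ?_, fun p hp => ?_, fun p hp q hq hpq => ?_⟩
      · exact (mem_T.1 (Finset.mem_erase.1 (hD hp)).2).2.2
      · obtain ⟨k1, k2⟩ := Finset.mem_erase.1 (hD hp)
        exact hT p k2 k1
      · exact not_adj hB (Finset.mem_erase.1 (hD hp)).2 (Finset.mem_erase.1 (hD hq)).2 hpq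
    have h3' : ∀ p ∈ D, 3 < p := fun p hp => by
      have := mem_T.1 (Finset.mem_erase.1 (hD hp)).2
      omega
    have hsub : Sub D.card S := by
      by_cases hr2 : r = 2
      · subst hr2
        exact Cfsg.Agent.H896.SpAlt.sub_of_coclique_two hS hco h3' (by omega)
      · exact sub_of_big (H621.LN.big_of_coclique hr hr2 hS hco h3' (by omega)) (by omega)
    rw [hDc] at hsub
    exact H267.Sp.NoSub.no_sub hB hsub h1 h2

/-- the order of `J4` -/
def cJ4 : ℕ := 86775571046077562880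

/-- the top of a group with the spectrum of `Alt n` or `Sym n`, `n ≥ 31` -/
theorem exists_top_gen (hS : ∀ (S : Type) [Group S] [Finite S] [IsSimpleGroup S], IsKnownSimple' S)
    (hSch : ∀ (S : Type) [Group S] [Finite S] [IsSimpleGroup S], Group.IsSolvable (Cfsg.Out S))
    (hJ4 : ∀ {K : Subgroup G} [K.Normal] {M : Subgroup (G ⧸ K)} [M.Normal] [IsSimpleGroup ↥M], 43 ≤ n → n ≤ 46 →
      ¬ IsMulCommutative ↥M → Nat.card ↥M = cJ4 → False)
    (hn : 31 ≤ n) (h : Spec ε n G) : ∃ (N : Subgroup G) (_ : N.Normal) (m t₀ : ℕ), m ≤ n ∧ 7 ≤ m ∧ Top m N ∧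
      ∀ p ∈ T n, p ≠ t₀ → p ≤ m ∧ ¬ p ∣ Nat.card ↥N := by
  have hB := spec_bnd h
  obtain ⟨K, hK, M, hM, hMs, hMc, t₀, hT⟩ := H752.ExSec.exists_section_of hSch (T n) (H964.SpAlt.card_T_ge (by omega))
    (fun p hp => ⟨(mem_T.1 hp).2.2, dvd_of_mem h (by omega) hp⟩) (fun p hp q hq hpq => not_adj hB hp hq hpq)
  have hBM : Bnd n ↥M := bnd_sub (bnd_quot hB) M
  have hT' : ∀ p ∈ T n, p ≠ t₀ → p ∣ Nat.card ↥M := fun p hp hpt => (hT p hp hpt).1
  have hc : ¬ IsPrimeCyclic ↥M := by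
    intro h0
    have h0 : (Nat.card ↥M).Prime := h0
    have := Fact.mk h0
    have hcyc : IsCyclic ↥M := isCyclic_of_prime_card (p := Nat.card ↥M) rfl
    exact hMc hcyc.isMulCommutative
  rcases H912.Known.known_split (hS ↥M) hc with h4 | ⟨r, hr, h4⟩ | h4
  · obtain ⟨m, hm5, ⟨e⟩⟩ := h4
    have hmn : m ≤ n := H964.SpAlt.alt_bound (by omega) (bnd_congr hBM e)
    have hpm : ∀ p ∈ T n, p ≠ t₀ → p ≤ m := by
      intro p hp hpt
      have h5 : p ∣ m.factorial := by
        have h6 : Nat.card ↥M ∣ Nat.card (Equiv.Perm (Fin m)) := by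
          rw [Nat.card_congr e.toEquiv]
          exact Subgroup.card_subgroup_dvd_card _
        rw [Nat.card_eq_fintype_card (α := Equiv.Perm (Fin m)), Fintype.card_perm, Fintype.card_fin] at h6
        exact (hT' p hp hpt).trans h6
      exact (mem_T.1 hp).2.2.dvd_factorial.1 h5
    have hm7 : 7 ≤ m := by
      have h3 : 3 ≤ (T n).card := H964.SpAlt.card_T_ge (by omega)
      obtain ⟨p, hp, hpt⟩ : ∃ p ∈ T n, p ≠ t₀ := by
        by_contra hcon
        push Not at hcon
        have h5 : T n ⊆ {t₀} := fun p hp => Finset.mem_singleton.2 (hcon p hp)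
        have h6 := Finset.card_le_card h5
        rw [Finset.card_singleton] at h6
        omega
      have := hpm p hp hpt
      have := (mem_T.1 hp).1
      omega
    obtain ⟨N, hN, hTop, -, h6, -⟩ := H511.Sp.exists_top (K := K) (M := M) hm7 ⟨e⟩
    exact ⟨N, hN, m, t₀, hmn, hm7, hTop, fun p hp hpt =>
      ⟨hpm p hp hpt, h6 p (mem_T.1 hp).2.2 (hT p hp hpt).2.1 (hT p hp hpt).2.2⟩⟩
  · exact (no_lie (by omega) hBM hT' hr h4).elim
  · have h5 : IsSporadicGroup ↥M ∨ Lie.IsoTits ↥M := h4.symm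
    rcases H964.SpAlt.spor_numeric (by omega) (H964.SpAlt.card_mem_orders h5) (fun p hp hd => le_of_bnd hBM hp hd) t₀ hT'
      with ⟨h6, h7, h8⟩ | ⟨-, h6⟩
    · exact (hJ4 h7 h8 hMc h6).elim
    · omega

theorem spec_equiv {H : Type*} [Group H] (h : Spec ε n G) (e : G ≃* H) : Spec ε n H := by
  constructor
  · intro x
    rw [← orderOf_injective e.symm.toMonoidHom e.symm.injective x]
    exact h.up _
  · intro k hk hW
    obtain ⟨x, hx⟩ := h.down k hk hW
    exact ⟨e x, by rw [← hx]; exact orderOf_injective e.toMonoidHom e.injective x⟩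

/-- the end: `N` solvable -/
theorem finish (hε : ε = 0 ∨ ε = 2) (h : Spec ε n G) {N : Subgroup G} [N.Normal] (hN : Group.IsSolvable ↥N) (hn : 7 ≤ n) (hm : 5 ≤ m)
    (hT : Top m N) (hH : HH ε n m) (hC : HC ε n m) : Std ε n G := by
  have hb : N = ⊥ := H511.Sp.eq_bot_of_solvable hε h hN hm hT hH hC
  subst hb
  rcases hT with ⟨⟨e⟩⟩ | ⟨⟨e⟩⟩
  · have e' : G ≃* alternatingGroup (Fin m) := (QuotientGroup.quotientBot (G := G)).symm.trans e
    obtain ⟨h1, h2⟩ := H267.Sp.SpecAlt.spec_ne_alt hε (by omega) (spec_equiv h e')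
    subst h2
    exact ⟨fun _ => ⟨e'⟩, fun h0 => by omega⟩
  · have e' : G ≃* Equiv.Perm (Fin m) := (QuotientGroup.quotientBot (G := G)).symm.trans e
    obtain ⟨h1, h2⟩ := H267.Sp.SpecAlt.spec_ne_perm hε hn (spec_equiv h e')
    subst h2
    exact ⟨fun h0 => by omega, fun _ => ⟨e'⟩⟩

/-- the induction step for one prime -/
theorem step_finish (hε : ε = 0 ∨ ε = 2) (h : Spec ε n G) {r : ℕ} (hr : r.Prime) (hrn : r + 5 ≤ n) (hn : n < 2 * r)
    {N : Subgroup G} [N.Normal] (hrN : ¬ r ∣ Nat.card ↥N) (hmr : r + 3 ≤ m) (hmn : m ≤ n) (hT : Top m N)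
    (IH : ∀ (H : Type) [Group H] [Finite H], Spec ε (n - r) H → Std ε (n - r) H) (hH : HH ε n n) (hC : HC ε n n) : Std ε n G := by
  obtain ⟨h1, -, -, x, hx, hx'⟩ := step hε h hr hrn hn hrN hmr hmn hT IH
  subst h1
  have h2 : Group.IsNilpotent ↥N := H511.Sp.nilpotent_of_centralizer hr x hx hx'
  have h3 : Group.IsSolvable ↥N := inferInstance
  exact finish hε h h3 (by omega) (by omega) hT hH hC

/-- the generic degrees -/
theorem gen (hS : ∀ (S : Type) [Group S] [Finite S] [IsSimpleGroup S], IsKnownSimple' S)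
    (hSch : ∀ (S : Type) [Group S] [Finite S] [IsSimpleGroup S], Group.IsSolvable (Cfsg.Out S))
    (hJ4 : ∀ {K : Subgroup G} [K.Normal] {M : Subgroup (G ⧸ K)} [M.Normal] [IsSimpleGroup ↥M], 43 ≤ n → n ≤ 46 →
      ¬ IsMulCommutative ↥M → Nat.card ↥M = cJ4 → False)
    (hnc : ∀ {N : Subgroup G} [N.Normal] {m t s : ℕ}, Top m N → t.Prime → s.Prime → s ≠ 2 → s ≠ t → 2 * s ≤ m → n < s + t →
      ¬ t ∣ Nat.card ↥N)
    (hε : ε = 0 ∨ ε = 2) (hn : 31 ≤ n) (h : Spec ε n G) (hH : HH ε n n) (hC : HC ε n n)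
    (IH : ∀ k, 7 ≤ k → k < n → k ≠ 8 → k ≠ 10 → ∀ (H : Type) [Group H] [Finite H], Spec ε k H → Std ε k H) : Std ε n G := by
  obtain ⟨N, hN, m, t₀, hmn, hm7, hT, hp⟩ := exists_top_gen hS hSch hJ4 hn h
  by_cases h39 : n = 39 ∧ t₀ = 23
  · obtain ⟨rfl, rfl⟩ := h39
    have h37 : (37 : ℕ) ∈ T 39 := mem_T.2 ⟨by norm_num, by norm_num, by norm_num⟩
    have h1 : 37 ≤ m := (hp 37 h37 (by norm_num)).1
    have h2 : ¬ 23 ∣ Nat.card ↥N := hnc (s := 17) hT (by norm_num) (by norm_num) (by norm_num) (by norm_num) (by omega) (by norm_num)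
    exact step_finish hε h (r := 23) (by norm_num) (by norm_num) (by norm_num) h2 (by omega) hmn hT
      (IH _ (by norm_num) (by norm_num) (by norm_num) (by norm_num)) hH hC
  · obtain ⟨r, p, a1, a2, a3, a4, a5, a6, a7, a8⟩ := H964.SpAlt.exists_prime_T_strong (n := n) (by omega) t₀ (by omega) h39
    obtain ⟨b1, b2, b3⟩ := mem_T.1 a1
    have b4 := (hp r a1 a3).2
    have b5 := (hp p a2 a4).1
    exact step_finish hε h b3 (by omega) (by omega) b4 (by omega) hmn hT (IH _ a6 (by omega) a7 a8) hH hC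

end Cfsg.Agent.H357.Sp.Gen
end

-- part: H221/RecCost
section
/-!
# Element orders of small cost in `V.A_n` (task REC-COST of the project S3397 + S3446; helper221)

`exists_cost`: for `n ≥ 7`, `n ≠ 10` and a prime `t ≤ n` there is a configuration of gadgets (predicates `RegC`, `FixC`) of
cost `≤ n` which gives a number `t ^ (a + 1) * m` that is not an element order of `A_n` (`b = 2`), `S_n` (`b = 0`).
For `n < 320` this is a table, for `n ≥ 320` prime numbers in `(4x/5, x]` are used.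
-/

set_option autoImplicit false

namespace Cfsg.Agent.H221.RecCost

open Cfsg.Agent.H367.Rec Cfsg.Agent.H825.Cov

/-! ### `sg` -/

theorem sg_mul' {a b : ℕ} (h : Nat.Coprime a b) : sg (a * b) = sg a + sg b := by
  classical
  by_cases ha : a = 0
  · subst ha
    rw [Nat.coprime_zero_left] at h
    subst h
    simp [sg]
  by_cases hb : b = 0
  · subst hb
    rw [Nat.coprime_zero_right] at h
    subst h
    simp [sg]
  unfold sg
  rw [h.primeFactors_mul, Finset.sum_union h.disjoint_primeFactors]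
  congr 1
  · refine Finset.sum_congr rfl fun p hp => ?_
    rw [Nat.factorization_eq_of_coprime_left h (Nat.mem_primeFactors_iff_mem_primeFactorsList.1 hp)]
  · refine Finset.sum_congr rfl fun p hp => ?_
    rw [Nat.factorization_eq_of_coprime_right h (Nat.mem_primeFactors_iff_mem_primeFactorsList.1 hp)]

theorem sg_pow {p k : ℕ} (hp : p.Prime) (hk : k ≠ 0) : sg (p ^ k) = p ^ k := by
  unfold sg
  rw [Nat.primeFactors_prime_pow hk hp, Finset.sum_singleton, hp.factorization_pow]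
  simp

theorem sg_one : sg 1 = 0 := by simp [sg]

/-! ### configurations -/

/-- a configuration of cost `c` and value `v` -/
def Cf (t c v : ℕ) : Prop := ∃ k a l m : ℕ, RegC t k a ∧ FixC t l m ∧ k + l = c ∧ Nat.Coprime t m ∧ m ≠ 0 ∧
  sg (t ^ (a + 1) * m) = v

/-- the fixed point part -/
def Fx (t : ℕ) (B : List ℕ) (c v : ℕ) : Prop := ∃ m : ℕ, FixC t c m ∧ m ≠ 0 ∧ sg m = v ∧
  (∀ p : ℕ, p.Prime → p ∣ m → p ∈ B) ∧ t ∉ B

theorem Fx.cf {t : ℕ} (ht : t.Prime) {B : List ℕ} {c v k a : ℕ} (h : Fx t B c v) (hr : RegC t k a) :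
    Cf t (k + c) (t ^ (a + 1) + v) := by
  obtain ⟨m, h1, h2, h3, h4, h5⟩ := h
  have hco : Nat.Coprime t m := (Nat.Prime.coprime_iff_not_dvd ht).2 fun hd => h5 (h4 t ht hd)
  refine ⟨k, a, c, m, hr, h1, rfl, hco, h2, ?_⟩
  rw [sg_mul' (Nat.Coprime.pow_left _ hco), sg_pow ht (Nat.succ_ne_zero a), h3]

theorem Fx.nil (t : ℕ) : Fx t [] 0 0 := by
  refine ⟨1, FixC.one, one_ne_zero, sg_one, fun p hp hd => ?_, List.not_mem_nil⟩
  exact absurd (Nat.dvd_one.1 hd) hp.one_lt.ne'

theorem Fx.cons {t : ℕ} {B : List ℕ} {c v c' s e : ℕ} (hs : s.Prime) (he : e ≠ 0) (hst : s ≠ t) (h : Fx t B c v)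
    (hB : s ∉ B) (hF : FixC t c' (s ^ e)) : Fx t (s :: B) (c' + c) (s ^ e + v) := by
  obtain ⟨m, h1, h2, h3, h4, h5⟩ := h
  have hco : Nat.Coprime (s ^ e) m :=
    Nat.Coprime.pow_left _ ((Nat.Prime.coprime_iff_not_dvd hs).2 fun hd => hB (h4 s hs hd))
  refine ⟨s ^ e * m, FixC.mul hF h1 hco, Nat.mul_ne_zero (pow_ne_zero _ hs.ne_zero) h2, ?_, ?_, ?_⟩
  · rw [sg_mul' hco, sg_pow hs he, h3]
  · intro p hp hd
    rcases (Nat.Prime.dvd_mul hp).1 hd with hd | hd
    · exact List.mem_cons.2 (Or.inl ((Nat.prime_dvd_prime_iff_eq hp hs).1 (hp.dvd_of_dvd_pow hd)))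
    · exact List.mem_cons.2 (Or.inr (h4 p hp hd))
  · intro hm
    rcases List.mem_cons.1 hm with e1 | e1
    · exact hst e1.symm
    · exact h5 e1

/-- the conclusion -/
def Goal (b n t : ℕ) : Prop :=
  ∃ k a l m : ℕ, RegC t k a ∧ FixC t l m ∧ k + l ≤ n ∧ Nat.Coprime t m ∧ ¬ In b n (t ^ (a + 1) * m)

theorem Cf.goal {t c v n : ℕ} (h : Cf t c v) (hc : c ≤ n) (hv : n < v) (b : ℕ) : Goal b n t := by
  obtain ⟨k, a, l, m, h1, h2, h3, h4, h5, h6⟩ := h
  refine ⟨k, a, l, m, h1, h2, by omega, h4, fun hI => ?_⟩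
  have := hI.2.1
  omega

theorem Cf.goal_even {c v n b : ℕ} (h : Cf 2 c v) (hc : c ≤ n) (hv : n < v + b) : Goal b n 2 := by
  obtain ⟨k, a, l, m, h1, h2, h3, h4, h5, h6⟩ := h
  refine ⟨k, a, l, m, h1, h2, by omega, h4, fun hI => ?_⟩
  have := hI.2.2 (Even.mul_right (by rw [pow_succ]; exact even_two.mul_left _) _)
  omega

/-! ### the table -/

open Cfsg.Agent.H357.Cheb Cfsg.Agent.H357.NT

/-- validity of a `RegC` block -/
def rOk (t : ℕ) : ℕ × ℕ → Bool
  | (0, _) => true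
  | (1, b) => !(Nat.beq t 2) && Nat.ble 1 b
  | (3, _) => Nat.beq t 2
  | (4, _) => Nat.beq t 3
  | (5, _) => Nat.beq t 2
  | (8, _) => Nat.beq t 7
  | (9, _) => Nat.beq t 2
  | (17, _) => Nat.beq t 2
  | _ => false

def rCost (t : ℕ) : ℕ × ℕ → ℕ
  | (0, _) => 0
  | (1, b) => 2 * t ^ b
  | (3, b) => 3 * 2 ^ b + 2
  | (4, b) => 4 * 3 ^ b
  | (5, b) => 5 * 2 ^ b + 2
  | (8, b) => 8 * 7 ^ b
  | (9, b) => 9 * 2 ^ b + 2
  | (17, b) => 17 * 2 ^ b + 2
  | _ => 0

def rA : ℕ × ℕ → ℕ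
  | (0, _) => 0
  | (1, b) => b
  | (3, b) => b + 1
  | (4, b) => b + 1
  | (5, b) => b + 2
  | (8, b) => b + 1
  | (9, b) => b + 3
  | (17, b) => b + 4
  | _ => 0

theorem reg_of_ok {t : ℕ} : ∀ r : ℕ × ℕ, rOk t r = true → RegC t (rCost t r) (rA r)
  | (0, _), _ => RegC.zero
  | (1, b), h => by
    simp only [rOk, Bool.and_eq_true, Bool.not_eq_true', Nat.ble_eq] at h
    exact RegC.odd (fun e => by subst e; exact absurd h.1 (by decide)) h.2
  | (3, b), h => RegC.two3 (Nat.beq_eq ▸ h)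
  | (4, b), h => RegC.three (Nat.beq_eq ▸ h)
  | (5, b), h => RegC.two5 (Nat.beq_eq ▸ h)
  | (8, b), h => RegC.seven (Nat.beq_eq ▸ h)
  | (9, b), h => RegC.two9 (Nat.beq_eq ▸ h)
  | (17, b), h => RegC.two17 (Nat.beq_eq ▸ h)

/-- base prime of a `FixC` block -/
def fB : ℕ × ℕ × ℕ → ℕ
  | (0, s, _) => s
  | (4, _, _) => 3
  | (8, _, _) => 7
  | _ => 2

def fE : ℕ × ℕ × ℕ → ℕ
  | (0, _, e) => e
  | (3, _, b) => b + 1
  | (4, _, b) => b + 1
  | (5, _, b) => b + 2
  | (8, _, b) => b + 1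
  | (9, _, b) => b + 3
  | (17, _, b) => b + 4
  | _ => 0

def fC : ℕ × ℕ × ℕ → ℕ
  | (0, s, e) => 2 * s ^ e
  | (3, _, b) => 3 * 2 ^ b + 2
  | (4, _, b) => max 5 (4 * 3 ^ b)
  | (5, _, b) => 5 * 2 ^ b + 2
  | (8, _, b) => 8 * 7 ^ b
  | (9, _, b) => 9 * 2 ^ b + 2
  | (17, _, b) => 17 * 2 ^ b + 2
  | _ => 0

def neq (a b : ℕ) : Bool := !(Nat.beq a b)

theorem ne_of_neq {a b : ℕ} (h : neq a b = true) : a ≠ b := by
  rintro rfl
  unfold neq at h
  rw [Nat.beq_refl] at h
  exact absurd h (by decide)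

def fOk (t : ℕ) : ℕ × ℕ × ℕ → Bool
  | (0, s, e) => (Nat.beq s 3 || isP s) && neq s t && Nat.ble 1 e
  | (3, _, _) => neq t 2 && neq t 3
  | (4, _, _) => neq t 2 && neq t 3
  | (5, _, _) => neq t 2 && neq t 5
  | (8, _, _) => neq t 2 && neq t 7
  | (9, _, _) => neq t 2 && neq t 3
  | (17, _, _) => neq t 2 && neq t 17
  | _ => false

theorem fix_of_ok {t : ℕ} : ∀ r : ℕ × ℕ × ℕ, fOk t r = true →
    (fB r).Prime ∧ fE r ≠ 0 ∧ fB r ≠ t ∧ FixC t (fC r) (fB r ^ fE r)
  | (0, s, e), h => by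
    simp only [fOk, Bool.and_eq_true, Nat.ble_eq] at h
    obtain ⟨⟨h1, h2⟩, h3⟩ := h
    obtain ⟨h4, h5⟩ := prime_or h1
    exact ⟨h4, by simp only [fE]; omega, ne_of_neq h2, FixC.cyc h4 h5 (ne_of_neq h2) h3⟩
  | (3, s, e), h => by
    simp only [fOk, Bool.and_eq_true] at h
    exact ⟨Nat.prime_two, Nat.succ_ne_zero _, (ne_of_neq h.1).symm, FixC.two3 (ne_of_neq h.1) (ne_of_neq h.2)⟩
  | (4, s, e), h => by
    simp only [fOk, Bool.and_eq_true] at h
    exact ⟨Nat.prime_three, Nat.succ_ne_zero _, (ne_of_neq h.2).symm,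
      FixC.three (ne_of_neq h.1) (ne_of_neq h.2) (le_max_left _ _) (le_max_right _ _)⟩
  | (5, s, e), h => by
    simp only [fOk, Bool.and_eq_true] at h
    exact ⟨Nat.prime_two, Nat.succ_ne_zero _, (ne_of_neq h.1).symm, FixC.two5 (ne_of_neq h.1) (ne_of_neq h.2)⟩
  | (8, s, e), h => by
    simp only [fOk, Bool.and_eq_true] at h
    exact ⟨by norm_num [fB], Nat.succ_ne_zero _, (ne_of_neq h.2).symm, FixC.seven (ne_of_neq h.1) (ne_of_neq h.2)⟩
  | (9, s, e), h => by
    simp only [fOk, Bool.and_eq_true] at h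
    exact ⟨Nat.prime_two, Nat.succ_ne_zero _, (ne_of_neq h.1).symm, FixC.two9 (ne_of_neq h.1) (ne_of_neq h.2)⟩
  | (17, s, e), h => by
    simp only [fOk, Bool.and_eq_true] at h
    exact ⟨Nat.prime_two, Nat.succ_ne_zero _, (ne_of_neq h.1).symm, FixC.two17 (ne_of_neq h.1) (ne_of_neq h.2)⟩

/-- a list of `FixC` blocks with distinct base primes -/
def lOk (t : ℕ) : List (ℕ × ℕ × ℕ) → Bool
  | [] => true
  | r :: l => fOk t r && (l.all fun r' => neq (fB r) (fB r')) && lOk t l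

def lC : List (ℕ × ℕ × ℕ) → ℕ
  | [] => 0
  | r :: l => fC r + lC l

def lV : List (ℕ × ℕ × ℕ) → ℕ
  | [] => 0
  | r :: l => fB r ^ fE r + lV l

theorem fx_of_ok {t : ℕ} : ∀ l : List (ℕ × ℕ × ℕ), lOk t l = true → Fx t (l.map fB) (lC l) (lV l)
  | [], _ => Fx.nil t
  | r :: l, h => by
    simp only [lOk, Bool.and_eq_true, List.all_eq_true] at h
    obtain ⟨⟨h1, h2⟩, h3⟩ := h
    obtain ⟨h4, h5, h6, h7⟩ := fix_of_ok r h1
    refine Fx.cons h4 h5 h6 (fx_of_ok l h3) (fun hm => ?_) h7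
    obtain ⟨r', hr', he⟩ := List.mem_map.1 hm
    exact ne_of_neq (h2 r' hr') he.symm

def cOk (t : ℕ) (c : (ℕ × ℕ) × List (ℕ × ℕ × ℕ)) : Bool := rOk t c.1 && lOk t c.2
def cC (t : ℕ) (c : (ℕ × ℕ) × List (ℕ × ℕ × ℕ)) : ℕ := rCost t c.1 + lC c.2
def cV (t : ℕ) (c : (ℕ × ℕ) × List (ℕ × ℕ × ℕ)) : ℕ := t ^ (rA c.1 + 1) + lV c.2

theorem cf_of_ok {t : ℕ} (ht : t.Prime) {c : (ℕ × ℕ) × List (ℕ × ℕ × ℕ)} (h : cOk t c = true) :
    Cf t (cC t c) (cV t c) := by
  unfold cOk at h
  rw [Bool.and_eq_true] at h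
  exact (fx_of_ok c.2 h.2).cf ht (reg_of_ok c.1 h.1)

/-- the next degree after an interval (exceptional degrees are skipped) -/
def nx (t v : ℕ) : ℕ :=
  if Nat.beq v 10 then 11 else if Nat.beq t 2 && Nat.beq v 8 then 11 else if Nat.beq t 2 && Nat.beq v 16 then 17 else v

theorem nx_spec {t v n : ℕ} (h : v ≤ n) (h10 : n ≠ 10) (h2 : t = 2 → n ≠ 8 ∧ n ≠ 9 ∧ n ≠ 16) : nx t v ≤ n := by
  unfold nx
  split_ifs with h1 h3 h4
  · rw [Nat.beq_eq] at h1
    omega
  · rw [Bool.and_eq_true, Nat.beq_eq, Nat.beq_eq] at h3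
    have := h2 h3.1
    omega
  · rw [Bool.and_eq_true, Nat.beq_eq, Nat.beq_eq] at h4
    have := h2 h4.1
    omega
  · exact h

def chk (t : ℕ) : ℕ → List ((ℕ × ℕ) × List (ℕ × ℕ × ℕ)) → Bool
  | x, [] => Nat.ble 320 x
  | x, c :: l => Nat.ble (cC t c) x && cOk t c && chk t (nx t (cV t c)) l

theorem of_chk {t : ℕ} (ht : t.Prime) : ∀ (l : List ((ℕ × ℕ) × List (ℕ × ℕ × ℕ))) (x : ℕ), chk t x l = true →
    ∀ n b, x ≤ n → n < 320 → n ≠ 10 → (t = 2 → n ≠ 8 ∧ n ≠ 9 ∧ n ≠ 16) → Goal b n t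
  | [], x, h, n, b, h1, h2, h3, h4 => by
    unfold chk at h
    rw [Nat.ble_eq] at h
    omega
  | c :: l, x, h, n, b, h1, h2, h3, h4 => by
    unfold chk at h
    simp only [Bool.and_eq_true, Nat.ble_eq] at h
    obtain ⟨⟨h5, h6⟩, h7⟩ := h
    by_cases hv : cV t c ≤ n
    · exact of_chk ht l _ h7 n b (nx_spec hv h3 h4) h2 h3 h4
    · exact (cf_of_ok ht h6).goal (by omega) (by omega) b

def table : List (ℕ × List ((ℕ × ℕ) × List (ℕ × ℕ × ℕ))) :=
  [(2, [((5, 0), []), ((9, 0), []), ((9, 0), [(0, 3, 1)]), ((17, 0), []), ((9, 1), [(0, 5, 1)]), ((17, 1), []),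
  ((9, 2), [(0, 13, 1)]), ((9, 3), []), ((17, 2), [(0, 29, 1)]), ((9, 4), []), ((17, 3), [(0, 59, 1)]), ((9, 5),
  [])]), (3, [((1, 1), []), ((0, 0), [(8, 0, 0)]), ((4, 0), [(5, 0, 0)]), ((4, 1), []), ((4, 1), [(5, 0, 1)]),
  ((4, 1), [(5, 0, 2)]), ((4, 2), []), ((4, 2), [(5, 0, 3)]), ((4, 3), []), ((4, 3), [(0, 67, 1)]), ((1, 4), [(17,
  0, 3)])]), (5, [((0, 0), [(4, 0, 0)]), ((0, 0), [(8, 0, 0)]), ((1, 1), []), ((1, 1), [(4, 0, 1)]), ((1, 1), [(9,
  0, 1)]), ((1, 1), [(17, 0, 0), (4, 0, 1)]), ((1, 2), []), ((1, 2), [(9, 0, 3)]), ((1, 2), [(17, 0, 3)]), ((1,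
  3), [])]), (7, [((0, 0), [(5, 0, 0)]), ((8, 0), []), ((8, 0), [(9, 0, 2)]), ((8, 1), [])]), (11, [((0, 0), [(9,
  0, 0)]), ((0, 0), [(17, 0, 0)]), ((1, 1), []), ((1, 1), [(3, 0, 5)]), ((1, 1), [(9, 0, 4)]), ((1, 2), [])]),
  (13, [((0, 0), [(4, 0, 1)]), ((0, 0), [(9, 0, 1)]), ((1, 1), []), ((1, 1), [(17, 0, 3)]), ((1, 1), [(0, 131,
  1)]), ((1, 1), [(17, 0, 4)])]), (17, [((0, 0), [(4, 0, 1)]), ((0, 0), [(3, 0, 3)]), ((0, 0), [(9, 0, 1), (4, 0,
  1)]), ((1, 1), []), ((1, 1), [(3, 0, 6)])]), (19, [((0, 0), [(17, 0, 0)]), ((0, 0), [(0, 17, 1)]), ((0, 0),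
  [(17, 0, 1)]), ((1, 1), [])]), (23, [((0, 0), [(9, 0, 1)]), ((0, 0), [(9, 0, 2)]), ((1, 1), [])]), (29, [((0,
  0), [(3, 0, 3)]), ((0, 0), [(9, 0, 2)]), ((1, 1), [])]), (31, [((0, 0), [(3, 0, 3)]), ((0, 0), [(9, 0, 2)]),
  ((1, 1), [])]), (37, [((0, 0), [(17, 0, 1)]), ((0, 0), [(8, 0, 1)]), ((1, 1), [])]), (41, [((0, 0), [(9, 0,
  2)]), ((0, 0), [(17, 0, 2)]), ((1, 1), [])]), (43, [((0, 0), [(9, 0, 2)]), ((0, 0), [(9, 0, 3)]), ((1, 1),
  [])]), (47, [((0, 0), [(9, 0, 2)]), ((0, 0), [(9, 0, 3)]), ((1, 1), [])]), (53, [((0, 0), [(3, 0, 4)]), ((0, 0),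
  [(9, 0, 3)]), ((1, 1), [])]), (59, [((0, 0), [(8, 0, 1)]), ((0, 0), [(4, 0, 3)]), ((1, 1), [])]), (61, [((0, 0),
  [(8, 0, 1)]), ((0, 0), [(4, 0, 3)]), ((1, 1), [])]), (67, [((0, 0), [(8, 0, 1)]), ((0, 0), [(4, 0, 3)]), ((1,
  1), [])]), (71, [((0, 0), [(17, 0, 2)]), ((0, 0), [(4, 0, 3)]), ((1, 1), [])]), (73, [((0, 0), [(17, 0, 2)]),
  ((0, 0), [(4, 0, 3)]), ((1, 1), [])]), (79, [((0, 0), [(9, 0, 3)]), ((0, 0), [(17, 0, 3)]), ((1, 1), [])]), (83,
  [((0, 0), [(9, 0, 3)]), ((0, 0), [(9, 0, 4)]), ((1, 1), [])]), (89, [((0, 0), [(9, 0, 3)]), ((0, 0), [(9, 0,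
  4)]), ((1, 1), [])]), (97, [((0, 0), [(9, 0, 3)]), ((0, 0), [(9, 0, 4)]), ((1, 1), [])]), (101, [((0, 0), [(3,
  0, 5)]), ((0, 0), [(9, 0, 4)]), ((1, 1), [])]), (103, [((0, 0), [(3, 0, 5)]), ((0, 0), [(9, 0, 4)]), ((1, 1),
  [])]), (107, [((0, 0), [(3, 0, 5)]), ((0, 0), [(9, 0, 4)]), ((1, 1), [])]), (109, [((0, 0), [(4, 0, 3)]), ((0,
  0), [(9, 0, 4)]), ((1, 1), [])]), (113, [((0, 0), [(4, 0, 3)]), ((0, 0), [(3, 0, 6)]), ((1, 1), [])]), (127,
  [((0, 0), [(4, 0, 3)]), ((0, 0), [(3, 0, 6)]), ((1, 1), [])]), (131, [((0, 0), [(4, 0, 3)]), ((0, 0), [(3, 0,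
  6)]), ((0, 0), [(9, 0, 4), (4, 0, 3)])]), (137, [((0, 0), [(4, 0, 3)]), ((0, 0), [(3, 0, 6)]), ((0, 0), [(0,
  131, 1)]), ((0, 0), [(9, 0, 4), (4, 0, 3)])]), (139, [((0, 0), [(17, 0, 3)]), ((0, 0), [(0, 131, 1)]), ((0, 0),
  [(9, 0, 4), (4, 0, 3)])]), (149, [((0, 0), [(9, 0, 4)]), ((0, 0), [(17, 0, 4)])]), (151, [((0, 0), [(9, 0, 4)]),
  ((0, 0), [(17, 0, 4)])]), (157, [((0, 0), [(9, 0, 4)]), ((0, 0), [(17, 0, 4)])]), (163, [((0, 0), [(9, 0, 4)]),
  ((0, 0), [(9, 0, 5)])]), (167, [((0, 0), [(9, 0, 4)]), ((0, 0), [(9, 0, 5)])]), (173, [((0, 0), [(9, 0, 4)]),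
  ((0, 0), [(9, 0, 5)])]), (179, [((0, 0), [(9, 0, 4)]), ((0, 0), [(9, 0, 5)])]), (181, [((0, 0), [(9, 0, 4)]),
  ((0, 0), [(9, 0, 5)])]), (191, [((0, 0), [(9, 0, 4)]), ((0, 0), [(9, 0, 5)])]), (193, [((0, 0), [(9, 0, 4)])]),
  (197, [((0, 0), [(3, 0, 6)])]), (199, [((0, 0), [(3, 0, 6)])]), (211, [((0, 0), [(3, 0, 6)])]), (223, [((0, 0),
  [(3, 0, 6)])]), (227, [((0, 0), [(3, 0, 6)])]), (229, [((0, 0), [(3, 0, 6)])]), (233, [((0, 0), [(3, 0, 6)])]),
  (239, [((0, 0), [(3, 0, 6)])]), (241, [((0, 0), [(3, 0, 6)])]), (251, [((0, 0), [(3, 0, 6)])]), (257, [((0, 0),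
  [(3, 0, 6)])]), (263, [((0, 0), [(0, 131, 1)])]), (269, [((0, 0), [(0, 131, 1)])]), (271, [((0, 0), [(0, 131,
  1)])]), (277, [((0, 0), [(17, 0, 4)])]), (281, [((0, 0), [(17, 0, 4)])]), (283, [((0, 0), [(17, 0, 4)])]), (293,
  [((0, 0), [(9, 0, 5)])]), (307, [((0, 0), [(9, 0, 5)])]), (311, [((0, 0), [(9, 0, 5)])]), (313, [((0, 0), [(9,
  0, 5)])]), (317, [((0, 0), [(9, 0, 5)])])]

def small : List ℕ := [2, 3, 5, 7, 11, 13, 17]

def cov (l : List (ℕ × List ((ℕ × ℕ) × List (ℕ × ℕ × ℕ)))) : Bool :=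
  (List.range 320).all fun t => Nat.ble t 1 || (l.any fun c => Nat.beq c.1 t) ||
    (small.any fun d => Nat.beq (t % d) 0 && Nat.blt d t)

theorem table_ok : (table.all fun c => chk c.1 (max 7 c.1) c.2) = true := by decide +kernel

private theorem _root_.Cfsg.Agent.KO927f2dd.e3.{ku, kv} {α : Type kv} {M : List α → Sort ku} (φ : ∀ l, M l) {z : M List.nil} {s : ∀ a l, M l → M (List.cons a l)} (h0 : φ List.nil = z) (hs : ∀ a l, φ (List.cons a l) = s a l (φ l)) (l : List α) : φ l = @List.rec α M z s l := List.rec h0 (fun a l ih => (hs a l).trans (congrArg (s a l) ih)) l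
private noncomputable def _root_.Cfsg.Agent.KO927f2dd.k4.{ku0} : type_of% @List.all.{ku0} := @(fun x0 x1 x2 => @List.rec.{(ku0+1), ku0} @x0 @(fun x3 => (@x0 → @Bool) → @Bool) @(fun x3 => @Bool.true) @(fun x3 x4 x5 x6 => @Bool.rec.{1} @(fun x7 => @Bool) @Bool.false (@x5 @x6) (@x6 @x3)) @x1 @x2)
private theorem _root_.Cfsg.Agent.KO927f2dd.e4.{ku0} : @List.all.{ku0} = @_root_.Cfsg.Agent.KO927f2dd.k4.{ku0} := by delta _root_.Cfsg.Agent.KO927f2dd.k4; funext a0 a1 a2; refine (congrFun (_root_.Cfsg.Agent.KO927f2dd.e3 (fun a1 a2 => @List.all.{ku0} a0 a1 a2) ?_ (fun c0 c1 => ?_) a1) a2 :) <;> (rfl')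
private noncomputable def _root_.Cfsg.Agent.KO927f2dd.k23 : type_of% @List.range.loop := @(fun x0 x1 => @Nat.rec.{1} @(fun x2 => (@List.{0} ℕ) → @List.{0} ℕ) @(fun x2 => @x2) @(fun x2 x3 x4 => @x3 (@x2 :: @x4)) @x0 @x1)
private theorem _root_.Cfsg.Agent.KO927f2dd.e23 : @List.range.loop = @_root_.Cfsg.Agent.KO927f2dd.k23 := by delta _root_.Cfsg.Agent.KO927f2dd.k23; funext a0 a1; refine (congrFun (_root_.Cfsg.Agent.KO927f2dd.e0 (fun a0 a1 => @List.range.loop a0 a1) ?_ (fun c0 => ?_) a0) a1 :) <;> (rfl')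
private noncomputable def _root_.Cfsg.Agent.KO927f2dd.k24.{ku0} : type_of% @List.any.{ku0} := @(fun x0 x1 x2 => @List.rec.{(ku0+1), ku0} @x0 @(fun x3 => (@x0 → @Bool) → @Bool) @(fun x3 => @Bool.false) @(fun x3 x4 x5 x6 => @Bool.rec.{1} @(fun x7 => @Bool) (@x5 @x6) @Bool.true (@x6 @x3)) @x1 @x2)
private theorem _root_.Cfsg.Agent.KO927f2dd.e24.{ku0} : @List.any.{ku0} = @_root_.Cfsg.Agent.KO927f2dd.k24.{ku0} := by delta _root_.Cfsg.Agent.KO927f2dd.k24; funext a0 a1 a2; refine (congrFun (_root_.Cfsg.Agent.KO927f2dd.e3 (fun a1 a2 => @List.any.{ku0} a0 a1 a2) ?_ (fun c0 c1 => ?_) a1) a2 :) <;> (rfl')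
private noncomputable def _root_.Cfsg.Agent.KO927f2dd.k25 : (by first | exact type_of% @Cfsg.Agent.H221.RecCost.cov | exact Unit : Sort _) := by first | (refine @Subtype.val _ (fun g => @Cfsg.Agent.H221.RecCost.cov = @g) (@Subtype.mk _ _ (@(fun x0 => @Cfsg.Agent.KO927f2dd.k4.{0} _ (@Cfsg.Agent.KO927f2dd.k23 (nat_lit 320) []) @(fun x1 => @Bool.rec.{1} @(fun x2 => @Bool) (@Cfsg.Agent.KO927f2dd.k24.{0} _ @Cfsg.Agent.H221.RecCost.small @(fun x2 => @Bool.rec.{1} @(fun x3 => @Bool) @Bool.false (@Nat.ble (@Nat.succ @x2) @x1) (@Nat.beq (@Nat.mod @x1 @x2) (nat_lit 0)))) @Bool.true (@Bool.rec.{1} @(fun x2 => @Bool) (@Cfsg.Agent.KO927f2dd.k24.{0} _ @x0 @(fun x2 => @Nat.beq (@Prod.fst.{0, 0} _ _ @x2) @x1)) @Bool.true (@Nat.ble @x1 (nat_lit 1)))))) ?_); rewrite [← Cfsg.Agent.KO927f2dd.e24.{0}, ← Cfsg.Agent.KO927f2dd.e23, ← Cfsg.Agent.KO927f2dd.e4.{0}]; (try delta Cfsg.Agent.H221.RecCost.cov); (try generalize @Cfsg.Agent.H221.RecCost.small = g0); rfl') |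 exact @Cfsg.Agent.H221.RecCost.cov | exact ()
private theorem _root_.Cfsg.Agent.KO927f2dd.e25 : (by first | exact @Cfsg.Agent.H221.RecCost.cov = @_root_.Cfsg.Agent.KO927f2dd.k25 | exact True : Prop) := by first | (delta _root_.Cfsg.Agent.KO927f2dd.k25; exact @Subtype.property _ (fun g => @Cfsg.Agent.H221.RecCost.cov = @g) _) | rfl | trivial

theorem cov_ok : cov table = true := by (first | (rewrite [Cfsg.Agent.KO927f2dd.e25]; decide +kernel) | decide +kernel)

/-- the small degrees -/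
theorem goal_small {b n t : ℕ} (hn : 7 ≤ n) (hn' : n < 320) (h10 : n ≠ 10) (ht : t.Prime) (htn : t ≤ n)
    (h2 : t = 2 → n ≠ 8 ∧ n ≠ 9 ∧ n ≠ 16) : Goal b n t := by
  have h := cov_ok
  unfold cov at h
  rw [List.all_eq_true] at h
  have h3 := h t (List.mem_range.2 (by omega))
  rw [Bool.or_eq_true, Bool.or_eq_true, Nat.ble_eq] at h3
  rcases h3 with (h3 | h3) | h3
  · have := ht.two_le
    omega
  · rw [List.any_eq_true] at h3
    obtain ⟨c, hc, he⟩ := h3
    rw [Nat.beq_eq] at he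
    have h4 := table_ok
    rw [List.all_eq_true] at h4
    have h5 := h4 c hc
    rw [he] at h5
    exact of_chk ht _ _ h5 n b (by omega) hn' h10 h2
  · rw [List.any_eq_true] at h3
    obtain ⟨d, hd, he⟩ := h3
    rw [Bool.and_eq_true, Nat.beq_eq, Nat.blt_eq] at he
    have hd2 : d ≠ 1 := by
      rintro rfl
      exact absurd hd (by decide)
    rcases (Nat.dvd_prime ht).1 (Nat.dvd_of_mod_eq_zero he.1) with h6 | h6
    · exact absurd h6 hd2
    · omega

/-! ### large degrees -/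

theorem exists_exp {K B r : ℕ} (hr : 1 < r) (hK : 0 < K) (h : K ≤ B) : ∃ e : ℕ, K * r ^ e ≤ B ∧ B < K * r ^ (e + 1) := by
  have h1 : B / K ≠ 0 := (Nat.div_pos h hK).ne'
  refine ⟨Nat.log r (B / K), ?_, ?_⟩
  · rw [mul_comm]
    exact (Nat.le_div_iff_mul_le hK).1 (Nat.pow_log_le_self r h1)
  · rw [mul_comm]
    exact (Nat.div_lt_iff_lt_mul hK).1 (Nat.lt_pow_succ_log_self hr _)

theorem exists_prime_ne {M t : ℕ} (hM : 41 ≤ M) : ∃ s : ℕ, s.Prime ∧ s ≠ 2 ∧ s ≠ t ∧ 4 * M < 5 * s ∧ s ≤ M := by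
  obtain ⟨r, s, h1, h2, h3, h4, h5⟩ := two_primes hM
  by_cases h : r = t
  · exact ⟨s, h2, by omega, by omega, by omega, h5⟩
  · exact ⟨r, h1, by omega, h, h3, by omega⟩

theorem large_three {b n : ℕ} (hn : 320 ≤ n) : Goal b n 3 := by
  obtain ⟨j, h1, h2⟩ := exists_exp (K := 4) (B := n) (r := 3) (by norm_num) (by norm_num) (by omega)
  have h3 := (Fx.nil 3).cf Nat.prime_three (RegC.three (b := j) rfl)
  rw [pow_succ] at h2
  by_cases hv : 9 * 3 ^ j ≤ n
  · obtain ⟨e, h4, h5⟩ := exists_exp (K := 17) (B := n - 4 * 3 ^ j - 2) (r := 2) (by norm_num) (by norm_num) (by omega)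
    rw [pow_succ] at h5
    have h6 := ((Fx.nil 3).cons Nat.prime_two (Nat.succ_ne_zero (e + 3)) (by norm_num) List.not_mem_nil
      (FixC.two17 (b := e) (by norm_num) (by norm_num))).cf Nat.prime_three (RegC.three (b := j) rfl)
    refine h6.goal (by omega) ?_ b
    have h7 : 3 ^ (j + 1 + 1) = 9 * 3 ^ j := by ring
    have h8 : 2 ^ (e + 3).succ = 16 * 2 ^ e := by rw [Nat.succ_eq_add_one]; ring
    rw [h7, h8]
    omega
  · refine h3.goal (by omega) ?_ b
    have h7 : 3 ^ (j + 1 + 1) = 9 * 3 ^ j := by ring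
    rw [h7]
    omega

theorem large_two {b n : ℕ} (hn : 320 ≤ n) : Goal b n 2 := by
  obtain ⟨e, h1, h2⟩ := exists_exp (K := 17) (B := n - 2) (r := 2) (by norm_num) (by norm_num) (by omega)
  rw [pow_succ] at h2
  have h7 : 2 ^ (e + 4 + 1) = 32 * 2 ^ e := by ring
  by_cases hv : 32 * 2 ^ e ≤ n
  · obtain ⟨s, h3, h4, h5, h6, h8⟩ := exists_prime_ne (M := (n - (17 * 2 ^ e + 2)) / 2) (t := 2) (by omega)
    have h9 := ((Fx.nil 2).cons h3 one_ne_zero h4 List.not_mem_nil
      (FixC.cyc (b := 1) h3 h4 h4 le_rfl)).cf Nat.prime_two (RegC.two17 (b := e) rfl)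
    refine h9.goal ?_ ?_ b
    · rw [pow_one]
      omega
    · rw [pow_one, h7]
      omega
  · refine ((Fx.nil 2).cf Nat.prime_two (RegC.two17 (b := e) rfl)).goal (by omega) ?_ b
    rw [h7]
    omega

theorem exists_reg {t a : ℕ} (h2 : t ≠ 2) : ∃ c : ℕ, RegC t c a ∧ t * c ≤ 2 * t ^ (a + 1) := by
  rcases Nat.eq_zero_or_pos a with rfl | ha
  · exact ⟨0, RegC.zero, by omega⟩
  · exact ⟨2 * t ^ a, RegC.odd h2 ha, le_of_eq (by ring)⟩

theorem large_five {b n t : ℕ} (hn : 320 ≤ n) (ht : t.Prime) (h5 : 5 ≤ t) (htn : t ≤ n) : Goal b n t := by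
  obtain ⟨a, h1, h2⟩ := exists_exp (K := t) (B := n) (r := t) ht.one_lt ht.pos htn
  rw [← pow_succ'] at h1 h2
  have ht2 : t ≠ 2 := by omega
  by_cases hτ : 2 * t ^ (a + 1) ≤ n
  · exact ((Fx.nil t).cf ht (RegC.odd (a := a + 1) ht2 (by omega))).goal (by omega) (by omega) b
  obtain ⟨c, h3, h4⟩ := exists_reg (a := a) ht2
  generalize hT : t ^ (a + 1) = τ at *
  by_cases h17 : t = 17
  · rw [h17] at h4
    obtain ⟨e, h6, h7⟩ := exists_exp (K := 9) (B := n - c - 2) (r := 2) (by norm_num) (by norm_num) (by omega)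
    rw [pow_succ] at h7
    have h8 : 2 ^ (e + 2).succ = 8 * 2 ^ e := by rw [Nat.succ_eq_add_one]; ring
    by_cases hv : τ + 8 * 2 ^ e ≤ n
    · obtain ⟨s, h9, h10, h11, h12, h13⟩ := exists_prime_ne (M := (n - c - (9 * 2 ^ e + 2)) / 2) (t := t) (by (clear * - hn hτ h4 hv; omega))
      have h14 := (((Fx.nil t).cons h9 one_ne_zero h11 List.not_mem_nil (FixC.cyc (b := 1) h9 h10 h11 le_rfl)).cons
        Nat.prime_two (Nat.succ_ne_zero (e + 2)) ht2.symm (by
          rw [List.mem_singleton]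
          exact h10.symm) (FixC.two9 (b := e) ht2 (by omega))).cf ht h3
      rw [hT, pow_one, h8] at h14
      exact h14.goal (by omega) (by (clear * - hτ h4 h7 h12; omega)) b
    · have h14 := (((Fx.nil t).cons
        Nat.prime_two (Nat.succ_ne_zero (e + 2)) ht2.symm List.not_mem_nil (FixC.two9 (b := e) ht2 (by omega))).cf ht h3)
      rw [hT, h8] at h14
      exact h14.goal (by omega) (by omega) b
  · have h4' : 5 * c ≤ 2 * τ := le_trans (Nat.mul_le_mul_right c h5) h4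
    obtain ⟨e, h6, h7⟩ := exists_exp (K := 17) (B := n - c - 2) (r := 2) (by norm_num) (by norm_num) (by omega)
    rw [pow_succ] at h7
    have h8 : 2 ^ (e + 3).succ = 16 * 2 ^ e := by rw [Nat.succ_eq_add_one]; ring
    clear h4
    by_cases hv : τ + 16 * 2 ^ e ≤ n
    · obtain ⟨s, h9, h10, h11, h12, h13⟩ := exists_prime_ne (M := (n - c - (17 * 2 ^ e + 2)) / 2) (t := t) (by omega)
      have h14 := (((Fx.nil t).cons h9 one_ne_zero h11 List.not_mem_nil (FixC.cyc (b := 1) h9 h10 h11 le_rfl)).cons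
        Nat.prime_two (Nat.succ_ne_zero (e + 3)) ht2.symm (by
          rw [List.mem_singleton]
          exact h10.symm) (FixC.two17 (b := e) ht2 h17)).cf ht h3
      rw [hT, pow_one, h8] at h14
      exact h14.goal (by omega) (by (clear * - hτ h4' h7 h12; omega)) b
    · have h14 := (((Fx.nil t).cons
        Nat.prime_two (Nat.succ_ne_zero (e + 3)) ht2.symm List.not_mem_nil (FixC.two17 (b := e) ht2 h17)).cf ht h3)
      rw [hT, h8] at h14
      exact h14.goal (by omega) (by omega) b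

/-- **REC-COST.** -/
theorem exists_cost {b n t : ℕ} (hb : b = 0 ∨ b = 2) (hn : 7 ≤ n) (h10 : n ≠ 10) (ht : t.Prime) (htn : t ≤ n)
    (h2 : b = 0 → t = 2 → n ≠ 8 ∧ n ≠ 9 ∧ n ≠ 16) :
    ∃ k a l m : ℕ, RegC t k a ∧ FixC t l m ∧ k + l ≤ n ∧ Nat.Coprime t m ∧ ¬ In b n (t ^ (a + 1) * m) := by
  by_cases hl : 320 ≤ n
  · by_cases h5 : 5 ≤ t
    · exact large_five hl ht h5 htn
    · have h3 : t = 2 ∨ t = 3 ∨ t = 4 := by
        have := ht.two_le
        omega
      rcases h3 with rfl | rfl | rfl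
      · exact large_two hl
      · exact large_three hl
      · exact absurd ht (by norm_num)
  · by_cases he : t = 2 ∧ (n = 8 ∨ n = 9 ∨ n = 16)
    · obtain ⟨rfl, he⟩ := he
      have hb2 : b = 2 := by
        rcases hb with h | h
        · have := h2 h rfl
          (clear * - he h this; omega)
        · exact h
      subst hb2
      rcases he with rfl | rfl | rfl
      · exact (cf_of_ok Nat.prime_two (c := ((5, 0), [])) rfl).goal_even (by decide) (by decide)
      · exact (cf_of_ok Nat.prime_two (c := ((5, 0), [])) rfl).goal_even (by decide) (by decide)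
      · exact (cf_of_ok Nat.prime_two (c := ((9, 0), [])) rfl).goal_even (by decide) (by decide)
    · exact goal_small hn (by omega) h10 ht htn fun h => by omega

end Cfsg.Agent.H221.RecCost
end

-- part: H825/Cov/Base
section
/-!
# The basic gadgets, and gadgets in alternating groups (helper825)
-/

set_option autoImplicit false
set_option linter.unusedSectionVars false

namespace Cfsg.Agent.H825.Cov

open Equiv

universe u v w

section field

variable (F : Type) [Field F]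

/-- translations -/
def trans : Subgroup (Perm F) where
  carrier := {σ | ∃ a, ∀ x, σ x = x + a}
  one_mem' := ⟨0, fun x => (add_zero x).symm⟩
  mul_mem' := by
    rintro σ τ ⟨a, ha⟩ ⟨b, hb⟩
    exact ⟨b + a, fun x => by rw [Perm.mul_apply, hb, ha, add_assoc]⟩
  inv_mem' := by
    rintro σ ⟨a, ha⟩
    refine ⟨-a, fun x => ?_⟩
    rw [Perm.inv_eq_iff_eq, ha, neg_add_cancel_right]

variable {F}

theorem mul_pow_apply (u : Fˣ) (n : ℕ) (x : F) : ((Units.mulLeft u : Perm F) ^ n) x = (u : F) ^ n * x := by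
  induction n with
  | zero => simp
  | succ n ih => rw [pow_succ', Perm.mul_apply, ih, Units.mulLeft_apply, pow_succ', mul_assoc]

theorem gad_field [Finite F] {s r q : ℕ} [Fact q.Prime] [CharP F q] (hs : s.Prime)
    (hc : Nat.card F - 1 = s ^ (r + 1)) : Gad (Perm F) s r q := by
  have : Fact s.Prime := ⟨hs⟩
  obtain ⟨u, hu⟩ := IsCyclic.exists_ofOrder_eq_natCard (α := Fˣ)
  have hcu : Nat.card Fˣ = s ^ (r + 1) := by rw [← hc, Nat.card_units]
  rw [hcu] at hu
  refine ⟨trans F, Units.mulLeft u, ?_, ?_, ?_, ?_, ?_⟩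
  · intro h
    rw [Subgroup.eq_bot_iff_forall] at h
    have h1 := h (Equiv.addRight 1) ⟨1, fun x => rfl⟩
    have h2 := congrArg (fun σ : Perm F => σ 0) h1
    simp at h2
  · intro e
    obtain ⟨σ, a, ha⟩ := e
    refine ⟨1, ?_⟩
    apply Subtype.ext
    change σ ^ q ^ 1 = 1
    rw [pow_one]
    have h1 : ∀ n : ℕ, ∀ x, (σ ^ n) x = x + n * a := by
      intro n
      induction n with
      | zero => intro x; simp
      | succ n ih => intro x; rw [pow_succ', Perm.mul_apply, ih, ha]; push_cast; ring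
    ext x
    rw [h1, CharP.cast_eq_zero, zero_mul, add_zero]
    rfl
  · ext x
    rw [mul_pow_apply, ← Units.val_pow_eq_pow_val, ← hu, pow_orderOf_eq_one, Units.val_one, one_mul]
    rfl
  · rintro σ ⟨a, ha⟩
    refine ⟨u * a, fun x => ?_⟩
    rw [Perm.mul_apply, Perm.mul_apply, ha]
    change (u : F) * ((Units.mulLeft u : Perm F).symm x + a) = x + u * a
    rw [mul_add]
    congr 1
    exact (Units.mulLeft u : Perm F).apply_symm_apply x
  · rintro σ ⟨a, ha⟩ h
    have h1 := congrArg (fun σ : Perm F => σ 0) h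
    simp only [Perm.mul_apply, mul_pow_apply, ha, mul_zero, zero_add] at h1
    have h2 : (u : F) ^ s ^ r ≠ 1 := by
      intro h3
      have h4 : u ^ s ^ r = 1 := by
        apply Units.ext
        rw [Units.val_pow_eq_pow_val, h3, Units.val_one]
      have h5 := orderOf_dvd_of_pow_eq_one h4
      rw [hu, Nat.pow_dvd_pow_iff_le_right hs.one_lt] at h5
      omega
    have h3 : a = 0 := by
      have h4 : ((u : F) ^ s ^ r - 1) * a = 0 := by rw [sub_mul, h1, one_mul, sub_self]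
      exact (mul_eq_zero.1 h4).resolve_left (sub_ne_zero.2 h2)
    ext x
    rw [ha, h3, add_zero]
    rfl

end field

section flips

variable (t : ℕ)

/-- even flips -/
def flips [Fintype (ZMod t)] : Subgroup (Perm (ZMod t × ZMod 2)) where
  carrier := {σ | ∃ e : ZMod t → ZMod 2, ∑ c, e c = 0 ∧ ∀ c x, σ (c, x) = (c, x + e c)}
  one_mem' := ⟨0, by simp, fun c x => by simp⟩
  mul_mem' := by
    rintro σ τ ⟨a, ha0, ha⟩ ⟨b, hb0, hb⟩
    refine ⟨b + a, ?_, fun c x => by rw [Perm.mul_apply, hb, ha, Pi.add_apply, add_assoc]⟩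
    simp only [Pi.add_apply]
    rw [Finset.sum_add_distrib, ha0, hb0, add_zero]
  inv_mem' := by
    rintro σ ⟨a, ha0, ha⟩
    refine ⟨-a, ?_, fun c x => ?_⟩
    · simp only [Pi.neg_apply]
      rw [Finset.sum_neg_distrib, ha0, neg_zero]
    · rw [Perm.inv_eq_iff_eq, ha, Pi.neg_apply, neg_add_cancel_right]

/-- the shift -/
def shf : Perm (ZMod t × ZMod 2) := Equiv.prodCongr (Equiv.addRight 1) (Equiv.refl _)

theorem shf_apply (c : ZMod t) (x : ZMod 2) : shf t (c, x) = (c + 1, x) := rfl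

theorem shf_pow (n : ℕ) (c : ZMod t) (x : ZMod 2) : (shf t ^ n) (c, x) = (c + n, x) := by
  induction n with
  | zero => simp
  | succ n ih => rw [pow_succ', Perm.mul_apply, ih, shf_apply, Nat.cast_succ, add_assoc]

theorem gad_flips (ht : t.Prime) (h2 : t ≠ 2) : Gad (Perm (ZMod t × ZMod 2)) t 0 2 := by
  have : Fact t.Prime := ⟨ht⟩
  have hodd : Odd t := ht.odd_of_ne_two h2
  refine ⟨flips t, shf t, ?_, ?_, ?_, ?_, ?_⟩
  · intro h
    rw [Subgroup.eq_bot_iff_forall] at h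
    let e : ZMod t → ZMod 2 := fun c => (if c = 0 then 1 else 0) + (if c = 1 then 1 else 0)
    let σ : Perm (ZMod t × ZMod 2) :=
      { toFun := fun p => (p.1, p.2 + e p.1)
        invFun := fun p => (p.1, p.2 - e p.1)
        left_inv := fun p => by simp
        right_inv := fun p => by simp }
    have h1 := h σ ⟨e, by
      simp only [e]
      rw [Finset.sum_add_distrib, Finset.sum_ite_eq' Finset.univ (0 : ZMod t) (fun _ => (1 : ZMod 2)),
        Finset.sum_ite_eq' Finset.univ (1 : ZMod t) (fun _ => (1 : ZMod 2))]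
      simp only [Finset.mem_univ, if_true]
      decide, fun c x => rfl⟩
    have h2 := congrArg (fun σ : Perm (ZMod t × ZMod 2) => (σ (0, 0)).2) h1
    change (0 : ZMod 2) + e 0 = 0 at h2
    simp only [e, ↓ _root_.reduceIte, _root_.zero_ne_one, _root_.add_zero, _root_.zero_add, _root_.one_ne_zero] at h2
  · intro e
    obtain ⟨σ, a, ha0, ha⟩ := e
    refine ⟨1, ?_⟩
    apply Subtype.ext
    change σ ^ 2 ^ 1 = 1
    rw [pow_one, pow_two]
    apply Equiv.ext
    rintro ⟨c, x⟩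
    rw [Perm.mul_apply, ha, ha, add_assoc, CharTwo.add_self_eq_zero, add_zero]
    rfl
  · apply Equiv.ext
    rintro ⟨c, x⟩
    rw [zero_add, pow_one, shf_pow, CharP.cast_eq_zero, add_zero]
    rfl
  · rintro σ ⟨a, ha0, ha⟩
    refine ⟨fun c => a (c - 1), ?_, fun c x => ?_⟩
    · rw [← ha0]
      exact Fintype.sum_equiv (Equiv.subRight 1) _ _ (fun c => rfl)
    · have h1 : (shf t)⁻¹ (c, x) = (c - 1, x) := by
        rw [Perm.inv_eq_iff_eq, shf_apply, sub_add_cancel]
      rw [Perm.mul_apply, Perm.mul_apply, h1, ha, shf_apply, sub_add_cancel]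
  · rintro σ ⟨a, ha0, ha⟩ h
    rw [pow_zero, pow_one] at h
    have h1 : ∀ c, a (c + 1) = a c := by
      intro c
      have h3 := congrArg (fun σ : Perm (ZMod t × ZMod 2) => (σ (c, 0)).2) h
      simp only [Perm.mul_apply, ha, shf_apply, zero_add] at h3
      exact h3.symm
    have h3 : ∀ n : ℕ, a n = a 0 := by
      intro n
      induction n with
      | zero => rw [Nat.cast_zero]
      | succ n ih => rw [Nat.cast_succ, h1, ih]
    have h4 : ∀ c, a c = a 0 := by
      intro c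
      have := h3 c.val
      rwa [ZMod.natCast_zmod_val] at this
    have h5 : a 0 = 0 := by
      have h6 : ∑ c : ZMod t, a c = (t : ZMod 2) * a 0 := by
        rw [Finset.sum_congr rfl (fun c _ => h4 c), Finset.sum_const, Finset.card_univ, ZMod.card, nsmul_eq_mul]
      rw [ha0] at h6
      obtain ⟨m, hm⟩ := hodd
      have h7 : (t : ZMod 2) = 1 := by
        rw [hm]
        push_cast
        have : (2 : ZMod 2) = 0 := rfl
        rw [this, zero_mul, zero_add]
      rw [h7, one_mul] at h6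
      exact h6.symm
    apply Equiv.ext
    rintro ⟨c, x⟩
    rw [ha, h4, h5, add_zero]
    rfl

end flips

section alt

variable {s r q k : ℕ}

theorem Gad.alt_of_odd (hs : Odd s) (h : Gad (Perm (Fin k)) s r q) : Gad (alternatingGroup (Fin k)) s r q := by
  obtain ⟨E, g, h1, h2, h3, h4, h5⟩ := h
  have hz : ∀ e ∈ E, g ^ s ^ r * e * (g ^ s ^ r)⁻¹ ∈ E := fun e he => conj_pow_mem h4 _ he
  have hE : E ≤ alternatingGroup (Fin k) := by
    intro e he
    obtain ⟨x, hx, rfl⟩ := exists_comm hz h5 he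
    rw [Perm.mem_alternatingGroup, map_mul, map_mul, map_mul, map_inv, map_inv]
    rcases Int.units_eq_one_or (Perm.sign x) with h | h <;>
      rcases Int.units_eq_one_or (Perm.sign (g ^ s ^ r)) with h' | h' <;> rw [h, h'] <;> rfl
  have hg : g ∈ alternatingGroup (Fin k) := by
    rw [Perm.mem_alternatingGroup]
    have h6 := congrArg Perm.sign h3
    rw [map_pow, map_one] at h6
    rcases Int.units_eq_one_or (Perm.sign g) with h | h
    · exact h
    · exfalso
      rw [h, Odd.neg_one_pow (hs.pow)] at h6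
      exact absurd h6 (by decide)
  refine ⟨E.subgroupOf (alternatingGroup (Fin k)), ⟨g, hg⟩, ?_, ?_, ?_, ?_, ?_⟩
  · intro h
    apply h1
    rw [Subgroup.eq_bot_iff_forall] at h ⊢
    intro e he
    have := h ⟨e, hE he⟩ he
    exact congrArg Subtype.val this
  · exact h2.comap_subtype
  · exact Subtype.ext h3
  · intro e he
    exact h4 e he
  · intro e he h
    exact Subtype.ext (h5 e he (congrArg Subtype.val h))

/-- a sign as a permutation of two points -/
def sgp : ℤˣ →* Perm (Fin 2) where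
  toFun u := if u = 1 then 1 else swap (0 : Fin 2) 1
  map_one' := if_pos rfl
  map_mul' u v := by
    rcases Int.units_eq_one_or u with h | h <;> rcases Int.units_eq_one_or v with h' | h' <;> rw [h, h'] <;> decide

theorem sign_sgp (u : ℤˣ) : Perm.sign (sgp u) = u := by
  rcases Int.units_eq_one_or u with h | h <;> rw [h] <;> decide

/-- embedding of the symmetric group in an alternating group with two more points -/
def toAlt (k : ℕ) : Perm (Fin k) →* alternatingGroup (Fin k ⊕ Fin 2) where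
  toFun σ := ⟨Perm.sumCongrHom (Fin k) (Fin 2) (σ, sgp (Perm.sign σ)), by
    rw [Perm.mem_alternatingGroup]
    change Perm.sign (Equiv.Perm.sumCongr σ (sgp (Perm.sign σ))) = 1
    rw [Perm.sign_sumCongr, sign_sgp, Int.units_mul_self]⟩
  map_one' := by
    apply Subtype.ext
    change Perm.sumCongrHom (Fin k) (Fin 2) (1, sgp (Perm.sign 1)) = 1
    rw [map_one, map_one]
    exact map_one _
  map_mul' σ τ := by
    apply Subtype.ext
    change Perm.sumCongrHom (Fin k) (Fin 2) (σ * τ, sgp (Perm.sign (σ * τ))) =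
      Perm.sumCongrHom (Fin k) (Fin 2) (σ, sgp (Perm.sign σ)) * Perm.sumCongrHom (Fin k) (Fin 2) (τ, sgp (Perm.sign τ))
    rw [← map_mul, map_mul, map_mul]
    rfl

theorem toAlt_injective : Function.Injective (toAlt k) := by
  intro σ τ h
  have h1 := congrArg Subtype.val h
  have h2 := Equiv.Perm.sumCongrHom_injective h1
  exact congrArg Prod.fst h2

theorem Gad.alt_two (h : Gad (Perm (Fin k)) s r q) : Gad (alternatingGroup (Fin (k + 2))) s r q := by
  have h1 := h.map (toAlt k) toAlt_injective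
  exact h1.map (Equiv.altCongrHom finSumFinEquiv).toMonoidHom (Equiv.altCongrHom finSumFinEquiv).injective

end alt

/-! ### the list -/

theorem gad2_3 (b : ℕ) : Gad (alternatingGroup (Fin (3 * 2 ^ b + 2))) 2 b 3 := by
  have h := (gad_field (F := ZMod 3) (s := 2) (r := 0) (q := 3) Nat.prime_two (by simp)).steps Nat.prime_two b
  rw [ZMod.card, zero_add] at h
  exact h.alt_two

theorem gad2_5 (b : ℕ) : Gad (alternatingGroup (Fin (5 * 2 ^ b + 2))) 2 (b + 1) 5 := by
  have : Fact (Nat.Prime 5) := ⟨by norm_num⟩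
  have h := (gad_field (F := ZMod 5) (s := 2) (r := 1) (q := 5) Nat.prime_two (by simp)).steps Nat.prime_two b
  rw [ZMod.card, add_comm] at h
  exact h.alt_two

theorem gad2_17 (b : ℕ) : Gad (alternatingGroup (Fin (17 * 2 ^ b + 2))) 2 (b + 3) 17 := by
  have : Fact (Nat.Prime 17) := ⟨by norm_num⟩
  have h := (gad_field (F := ZMod 17) (s := 2) (r := 3) (q := 17) Nat.prime_two (by simp)).steps Nat.prime_two b
  rw [ZMod.card, add_comm] at h
  exact h.alt_two

theorem gad2_9 (b : ℕ) : Gad (alternatingGroup (Fin (9 * 2 ^ b + 2))) 2 (b + 2) 3 := by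
  have : Fintype (GaloisField 3 2) := Fintype.ofFinite _
  have hc : Nat.card (GaloisField 3 2) = 9 := by rw [GaloisField.card 3 2 (by norm_num)]; norm_num
  have h := (gad_field (F := GaloisField 3 2) (s := 2) (r := 2) (q := 3) Nat.prime_two
    (by rw [hc]; norm_num)).steps Nat.prime_two b
  rw [← Nat.card_eq_fintype_card, hc, add_comm] at h
  exact h.alt_two

theorem gad3 (b : ℕ) : Gad (alternatingGroup (Fin (4 * 3 ^ b))) 3 b 2 := by
  have : Fintype (GaloisField 2 2) := Fintype.ofFinite _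
  have hc : Nat.card (GaloisField 2 2) = 4 := by rw [GaloisField.card 2 2 (by norm_num)]; norm_num
  have h := (gad_field (F := GaloisField 2 2) (s := 3) (r := 0) (q := 2) Nat.prime_three
    (by rw [hc]; norm_num)).steps Nat.prime_three b
  rw [← Nat.card_eq_fintype_card, hc, zero_add] at h
  exact h.alt_of_odd (by decide)

theorem gad7 (b : ℕ) : Gad (alternatingGroup (Fin (8 * 7 ^ b))) 7 b 2 := by
  have : Fintype (GaloisField 2 3) := Fintype.ofFinite _
  have hp : Nat.Prime 7 := by norm_num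
  have hc : Nat.card (GaloisField 2 3) = 8 := by rw [GaloisField.card 2 3 (by norm_num)]; norm_num
  have h := (gad_field (F := GaloisField 2 3) (s := 7) (r := 0) (q := 2) hp
    (by rw [hc]; norm_num)).steps hp b
  rw [← Nat.card_eq_fintype_card, hc, zero_add] at h
  exact h.alt_of_odd (by decide)

theorem gad_t {t : ℕ} (ht : t.Prime) (h2 : t ≠ 2) (b : ℕ) : Gad (alternatingGroup (Fin (2 * t ^ (b + 1)))) t b 2 := by
  have : Fact t.Prime := ⟨ht⟩
  have h := (gad_flips t ht h2).steps ht b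
  rw [Fintype.card_prod, ZMod.card, ZMod.card, zero_add] at h
  have e : t * 2 * t ^ b = 2 * t ^ (b + 1) := by rw [pow_succ]; ring
  rw [e] at h
  exact h.alt_of_odd (ht.odd_of_ne_two h2)

end Cfsg.Agent.H825.Cov
end

-- part: H825/Cov/Fix
section
/-!
# Fixed vectors (helper825)
-/

set_option autoImplicit false
set_option linter.unusedSectionVars false

namespace Cfsg.Agent.H825.Cov

open Finset

universe u v w

section norm

variable {Γ : Type v} [Group Γ] {W : Type u} [AddCommGroup W] {ρ : Γ →* AddMonoid.End W} {E : Subgroup Γ}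

theorem rho_mul (x y : Γ) (w : W) : ρ (x * y) w = ρ x (ρ y w) := by rw [map_mul]; rfl

theorem rho_one (w : W) : ρ 1 w = w := by rw [map_one]; rfl

theorem rho_inv (x : Γ) (w : W) : ρ x⁻¹ (ρ x w) = w := by rw [← rho_mul, inv_mul_cancel, rho_one]

/-- the sum over a finite subgroup -/
noncomputable def sm (ρ : Γ →* AddMonoid.End W) (E : Subgroup Γ) [Fintype E] (w : W) : W := ∑ e : E, ρ e w

variable [Fintype E]

theorem sm_add (u v : W) : sm ρ E (u + v) = sm ρ E u + sm ρ E v := by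
  unfold sm
  rw [← sum_add_distrib]
  exact sum_congr rfl fun e _ => map_add _ _ _

theorem sm_zero : sm ρ E (0 : W) = 0 := by
  unfold sm
  exact sum_eq_zero fun e _ => map_zero _

theorem sm_neg (u : W) : sm ρ E (-u) = -sm ρ E u := by
  unfold sm
  rw [← sum_neg_distrib]
  exact sum_congr rfl fun e _ => map_neg _ _

theorem sm_conj {x : Γ} (hx : ∀ e ∈ E, x * e * x⁻¹ ∈ E) (w : W) : sm ρ E (ρ x w) = ρ x (sm ρ E w) := by
  unfold sm
  rw [map_sum]
  let f : E → E := fun e => ⟨x * e * x⁻¹, hx e e.2⟩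
  have hf : Function.Injective f := by
    intro a b h
    have h1 : x * (a : Γ) * x⁻¹ = x * b * x⁻¹ := congrArg Subtype.val h
    exact Subtype.ext (mul_left_cancel (mul_right_cancel h1))
  symm
  refine Fintype.sum_bijective f ⟨hf, Finite.surjective_of_injective hf⟩ _ _ fun e => ?_
  change ρ x (ρ e w) = ρ (x * e * x⁻¹) (ρ x w)
  rw [← rho_mul, ← rho_mul, inv_mul_cancel_right]

theorem sm_mem {x : Γ} (hx : x ∈ E) (w : W) : sm ρ E (ρ x w) = sm ρ E w := by
  unfold sm
  refine Fintype.sum_bijective (fun e : E => e * ⟨x, hx⟩) (Group.mulRight_bijective _) _ _ fun e => ?_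
  change ρ e (ρ x w) = ρ (e * x) w
  rw [rho_mul]

theorem exists_norm {s r : ℕ} (hs : s.Prime) {g : Γ} (h3 : g ^ s ^ (r + 1) = 1) (h4 : ∀ e ∈ E, g * e * g⁻¹ ∈ E)
    (h5 : ∀ e ∈ E, g ^ s ^ r * e = e * g ^ s ^ r → e = 1) {U : AddSubgroup W} (hUE : ∀ e ∈ E, ∀ u ∈ U, ρ e u ∈ U)
    (hUg : ∀ u ∈ U, ρ g u ∈ U) (hsum : ∀ u ∈ U, sm ρ E u = 0) (hcard : ∀ u : W, Fintype.card E • u = 0 → u = 0)
    {u : W} (hu : u ∈ U) (hu0 : u ≠ 0) : ∃ v ∈ U, ∑ i ∈ range (s ^ (r + 1)), ρ (g ^ i) v ≠ 0 := by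
  by_contra hcon
  push Not at hcon
  apply hu0
  apply hcard
  have hUgi : ∀ i : ℕ, ρ (g ^ i) u ∈ U := by
    intro i
    induction i with
    | zero => rw [pow_zero, rho_one]; exact hu
    | succ i ih => rw [pow_succ', rho_mul]; exact hUg _ ih
  have h0 : ∑ f : E, ρ (f : Γ)⁻¹ (∑ i ∈ range (s ^ (r + 1)), ρ (g ^ i) (ρ f u)) = 0 := by
    apply sum_eq_zero
    intro f _
    rw [hcon _ (hUE f f.2 u hu), map_zero]
  have h1 : ∑ f : E, ρ (f : Γ)⁻¹ (∑ i ∈ range (s ^ (r + 1)), ρ (g ^ i) (ρ f u)) =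
      ∑ i ∈ range (s ^ (r + 1)), ∑ f : E, ρ ((f : Γ)⁻¹ * (g ^ i * f * (g ^ i)⁻¹)) (ρ (g ^ i) u) := by
    rw [sum_comm]
    refine sum_congr rfl fun f _ => ?_
    rw [map_sum]
    refine sum_congr rfl fun i _ => ?_
    rw [← rho_mul, ← rho_mul, ← rho_mul]
    congr 2
    group
  have hpos : 0 < s ^ (r + 1) := pow_pos hs.pos _
  rw [h1, sum_eq_single_of_mem 0 (mem_range.2 hpos)] at h0
  · rw [pow_zero, rho_one] at h0
    have h2 : ∀ f : E, ρ ((f : Γ)⁻¹ * (1 * f * 1⁻¹)) u = u := by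
      intro f
      have : (f : Γ)⁻¹ * (1 * f * 1⁻¹) = 1 := by group
      rw [this, rho_one]
    rw [sum_congr rfl fun f _ => h2 f, sum_const, card_univ] at h0
    exact h0
  · intro i hi hi0
    rw [mem_range] at hi
    have hc : ∀ e ∈ E, g ^ i * e * (g ^ i)⁻¹ ∈ E := fun e he => conj_pow_mem h4 i he
    have hz : ∀ e ∈ E, g ^ i * e = e * g ^ i → e = 1 := by
      intro e he h
      have hcomm : Commute (g ^ i) e := h
      have hgcd : Nat.gcd i (s ^ (r + 1)) < s ^ (r + 1) :=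
        lt_of_le_of_lt (Nat.gcd_le_left _ (by omega)) hi
      obtain ⟨j, -, hj⟩ := Nat.exists_mul_mod_eq_gcd hgcd
      obtain ⟨c, hc, hc'⟩ := (Nat.dvd_prime_pow hs).1 (Nat.gcd_dvd_right i (s ^ (r + 1)))
      have hcr : c ≤ r := by
        by_contra hcr
        have : c = r + 1 := by omega
        rw [hc', this] at hgcd
        exact lt_irrefl _ hgcd
      have h6 : g ^ s ^ c = (g ^ i) ^ j := by
        rw [← hc', ← hj, ← pow_mul]
        conv_rhs => rw [← Nat.div_add_mod (i * j) (s ^ (r + 1)), pow_add, pow_mul, h3, one_pow, one_mul]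
      have h7 : g ^ s ^ r = ((g ^ i) ^ j) ^ s ^ (r - c) := by
        rw [← h6, ← pow_mul, ← pow_add]
        congr 2
        omega
      apply h5 e he
      rw [h7]
      exact ((hcomm.pow_left j).pow_left _).eq
    have hinj : Function.Injective (fun x : E => (⟨(x : Γ)⁻¹ * (g ^ i * x * (g ^ i)⁻¹),
        E.mul_mem (E.inv_mem x.2) (hc x x.2)⟩ : E)) := by
      intro x y hxy
      have h1 : (x : Γ)⁻¹ * (g ^ i * x * (g ^ i)⁻¹) = (y : Γ)⁻¹ * (g ^ i * y * (g ^ i)⁻¹) := congrArg Subtype.val hxy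
      have h2 : g ^ i * ((y : Γ) * (x : Γ)⁻¹) = (y : Γ) * (x : Γ)⁻¹ * g ^ i := by
        have h3 : (y : Γ) * (x : Γ)⁻¹ * (g ^ i * x * (g ^ i)⁻¹) = g ^ i * y * (g ^ i)⁻¹ := by
          rw [mul_assoc, h1, mul_inv_cancel_left]
        calc g ^ i * ((y : Γ) * (x : Γ)⁻¹) = g ^ i * y * (g ^ i)⁻¹ * (g ^ i * x * (g ^ i)⁻¹)⁻¹ * g ^ i := by group
          _ = (y : Γ) * (x : Γ)⁻¹ * g ^ i := by rw [← h3, mul_inv_cancel_right]
      have h4 := hz _ (E.mul_mem y.2 (E.inv_mem x.2)) h2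
      exact (Subtype.ext (mul_inv_eq_one.1 h4)).symm
    have h8 := hsum _ (hUgi i)
    rw [← h8]
    exact Fintype.sum_bijective _ ⟨hinj, Finite.surjective_of_injective hinj⟩ _ _ fun e => rfl

/-- the part of `U` killed by the sum over `E` -/
def ker0 (ρ : Γ →* AddMonoid.End W) (E : Subgroup Γ) [Fintype E] (U : AddSubgroup W) : AddSubgroup W where
  carrier := {u | u ∈ U ∧ sm ρ E u = 0}
  zero_mem' := ⟨U.zero_mem, sm_zero⟩
  add_mem' := by
    rintro u v ⟨h1, h2⟩ ⟨h3, h4⟩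
    exact ⟨U.add_mem h1 h3, by rw [sm_add, h2, h4, add_zero]⟩
  neg_mem' := by
    rintro u ⟨h1, h2⟩
    exact ⟨U.neg_mem h1, by rw [sm_neg, h2, neg_zero]⟩

theorem ker0_conj {U : AddSubgroup W} {x : Γ} (hx : ∀ e ∈ E, x * e * x⁻¹ ∈ E) (hU : ∀ u ∈ U, ρ x u ∈ U) :
    ∀ u ∈ ker0 ρ E U, ρ x u ∈ ker0 ρ E U := by
  rintro u ⟨h1, h2⟩
  exact ⟨hU u h1, by rw [sm_conj hx, h2, map_zero]⟩

/-- if the kernel part is trivial then `E` acts trivially -/
theorem trivial_of_ker0 {U : AddSubgroup W} (hUE : ∀ e ∈ E, ∀ u ∈ U, ρ e u ∈ U) (h : ker0 ρ E U = ⊥) :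
    ∀ e ∈ E, ∀ u ∈ U, ρ e u = u := by
  intro e he u hu
  have h1 : ρ e u - u ∈ ker0 ρ E U := by
    refine ⟨U.sub_mem (hUE e he u hu) hu, ?_⟩
    rw [sub_eq_add_neg, sm_add, sm_neg, sm_mem he, add_neg_cancel]
  rw [h] at h1
  exact sub_eq_zero.1 h1

/-- in a simple group: the whole group acts trivially -/
theorem trivial_of_simple [IsSimpleGroup Γ] {U : AddSubgroup W} (hU : ∀ x, ∀ u ∈ U, ρ x u ∈ U) (hE : E ≠ ⊥)
    (h : ∀ e ∈ E, ∀ u ∈ U, ρ e u = u) : ∀ x, ∀ u ∈ U, ρ x u = u := by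
  let N : Subgroup Γ :=
    { carrier := {x | ∀ u ∈ U, ρ x u = u}
      one_mem' := fun u _ => rho_one u
      mul_mem' := by
        intro x y hx hy u hu
        rw [rho_mul, hy u hu, hx u hu]
      inv_mem' := by
        intro x hx u hu
        have := rho_inv (ρ := ρ) x u
        rwa [hx u hu] at this }
  have hN : N.Normal := by
    constructor
    intro x hx y u hu
    have h1 : ρ x (ρ y⁻¹ u) = ρ y⁻¹ u := hx _ (hU _ u hu)
    rw [rho_mul, rho_mul, h1]
    have := rho_inv (ρ := ρ) y⁻¹ u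
    rwa [inv_inv] at this
  have hEN : E ≤ N := fun e he => h e he
  rcases hN.eq_bot_or_eq_top with h1 | h1
  · exact absurd (eq_bot_iff.2 (by rw [h1] at hEN; exact hEN)) hE
  · intro x u hu
    have : x ∈ N := by rw [h1]; trivial
    exact this u hu

end norm

/-! ### fixed vectors -/

/-- every non-zero invariant subgroup of a finite representation of exponent `t` contains a non-zero vector fixed by an
element of order `m` -/
def FixP (t : ℕ) (Γ : Type v) [Group Γ] (m : ℕ) : Prop :=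
  ∀ (W : Type u) [AddCommGroup W] [Finite W] (_ : ∀ w : W, t • w = 0) (ρ : Γ →* AddMonoid.End W) (U : AddSubgroup W),
    U ≠ ⊥ → (∀ g, ∀ u ∈ U, ρ g u ∈ U) → ∃ h : Γ, orderOf h = m ∧ ∃ w ∈ U, w ≠ 0 ∧ ρ h w = w

section fixP

variable {t m : ℕ} {Γ : Type v} [Group Γ] {Γ' : Type w} [Group Γ']

theorem exists_ne {W : Type u} [AddCommGroup W] {U : AddSubgroup W} (h : U ≠ ⊥) : ∃ u ∈ U, u ≠ 0 := by
  by_contra hcon
  push Not at hcon
  exact h ((AddSubgroup.eq_bot_iff_forall U).2 hcon)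

theorem FixP.one : FixP.{u} t Γ 1 := by
  intro W _ _ _ ρ U hU _
  obtain ⟨u, hu, hu0⟩ := exists_ne hU
  exact ⟨1, orderOf_one, u, hu, hu0, rho_one u⟩

theorem FixP.map (h : FixP.{u} t Γ m) (φ : Γ →* Γ') (hφ : Function.Injective φ) : FixP.{u} t Γ' m := by
  intro W _ _ ht ρ U hU hinv
  obtain ⟨x, hx, w, hw, hw0, hxw⟩ := h W ht (ρ.comp φ) U hU (fun g => hinv (φ g))
  exact ⟨φ x, by rw [orderOf_injective φ hφ, hx], w, hw, hw0, hxw⟩

theorem FixP.mul {Γ₁ : Type v} [Group Γ₁] {Γ₂ : Type w} [Group Γ₂] {m₁ m₂ : ℕ} (h₁ : FixP.{u} t Γ₁ m₁)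
    (h₂ : FixP.{u} t Γ₂ m₂) (φ₁ : Γ₁ →* Γ) (φ₂ : Γ₂ →* Γ) (hφ₁ : Function.Injective φ₁) (hφ₂ : Function.Injective φ₂)
    (hc : ∀ x y, φ₁ x * φ₂ y = φ₂ y * φ₁ x) (hco : m₁.Coprime m₂) : FixP.{u} t Γ (m₁ * m₂) := by
  intro W _ _ ht ρ U hU hinv
  obtain ⟨x, hx, w, hw, hw0, hxw⟩ := h₁ W ht (ρ.comp φ₁) U hU (fun g => hinv (φ₁ g))
  let U' : AddSubgroup W :=
    { carrier := {u | u ∈ U ∧ ρ (φ₁ x) u = u}
      zero_mem' := ⟨U.zero_mem, map_zero _⟩
      add_mem' := by
        rintro u v ⟨h1, h2⟩ ⟨h3, h4⟩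
        exact ⟨U.add_mem h1 h3, by rw [map_add, h2, h4]⟩
      neg_mem' := by
        rintro u ⟨h1, h2⟩
        exact ⟨U.neg_mem h1, by rw [map_neg, h2]⟩ }
  have hU' : U' ≠ ⊥ := by
    intro h
    have h1 : w ∈ U' := ⟨hw, hxw⟩
    rw [h] at h1
    exact hw0 h1
  obtain ⟨y, hy, w', hw', hw0', hyw⟩ := h₂ W ht (ρ.comp φ₂) U' hU' (by
    rintro g u ⟨h1, h2⟩
    refine ⟨hinv _ _ h1, ?_⟩
    change ρ (φ₁ x) (ρ (φ₂ g) u) = ρ (φ₂ g) u
    rw [← rho_mul, hc, rho_mul, h2])
  refine ⟨φ₁ x * φ₂ y, ?_, w', hw'.1, hw0', ?_⟩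
  · have h1 : Commute (φ₁ x) (φ₂ y) := hc x y
    rw [h1.orderOf_mul_eq_mul_orderOf_of_coprime, orderOf_injective φ₁ hφ₁, orderOf_injective φ₂ hφ₂, hx, hy]
    rw [orderOf_injective φ₁ hφ₁, orderOf_injective φ₂ hφ₂, hx, hy]
    exact hco
  · have h1 : ρ (φ₂ y) w' = w' := hyw
    rw [rho_mul, h1]
    exact hw'.2

/-- exponent `t` and `q`-power multiples -/
theorem smul_eq_zero_of_coprime {W : Type u} [AddCommGroup W] (ht : ∀ w : W, t • w = 0) {n : ℕ} (h : t.Coprime n)
    (w : W) (hw : n • w = 0) : w = 0 := by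
  have h1 : addOrderOf w ∣ t := addOrderOf_dvd_of_nsmul_eq_zero (ht w)
  have h2 : addOrderOf w ∣ n := addOrderOf_dvd_of_nsmul_eq_zero hw
  have h3 : addOrderOf w ∣ 1 := by rw [← h]; exact Nat.dvd_gcd h1 h2
  exact AddMonoid.addOrderOf_eq_one_iff.1 (Nat.dvd_one.1 h3)

theorem fixP_of_gad [Finite Γ] [IsSimpleGroup Γ] {s r q : ℕ} (hs : s.Prime) (ht : t.Prime) (hq : q.Prime)
    (hqt : t ≠ q) (h : Gad Γ s r q) : FixP.{u} t Γ (s ^ (r + 1)) := by
  have : Fact s.Prime := ⟨hs⟩
  have : Fact q.Prime := ⟨hq⟩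
  obtain ⟨E, g, h1, h2, h3, h4, h5⟩ := h
  have : Fintype E := Fintype.ofFinite E
  obtain ⟨j, hj⟩ := IsPGroup.iff_card.1 h2
  intro W _ _ htW ρ U hU hinv
  have hcard : ∀ u : W, Fintype.card E • u = 0 → u = 0 := by
    intro u hu
    refine smul_eq_zero_of_coprime htW ?_ u hu
    rw [← Nat.card_eq_fintype_card, hj]
    exact Nat.Coprime.pow_right _ ((Nat.coprime_primes ht hq).2 hqt)
  have hord : orderOf g = s ^ (r + 1) := by
    apply orderOf_eq_prime_pow _ h3
    intro h6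
    apply h1
    rw [Subgroup.eq_bot_iff_forall]
    intro e he
    exact h5 e he (by rw [h6, one_mul, mul_one])
  refine ⟨g, hord, ?_⟩
  by_cases hk : ker0 ρ E U = ⊥
  · obtain ⟨u, hu, hu0⟩ := exists_ne hU
    exact ⟨u, hu, hu0, trivial_of_simple hinv h1 (trivial_of_ker0 (fun e _ => hinv e) hk) g u hu⟩
  · obtain ⟨u, hu, hu0⟩ := exists_ne hk
    obtain ⟨v, hv, hv0⟩ := exists_norm hs h3 h4 h5 (U := ker0 ρ E U)
      (fun e he => ker0_conj (fun e' he' => E.mul_mem (E.mul_mem he he') (E.inv_mem he)) (hinv e))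
      (ker0_conj h4 (hinv g)) (fun u hu => hu.2) hcard hu hu0
    refine ⟨_, ?_, hv0, ?_⟩
    · exact U.sum_mem fun i _ => hinv _ _ hv.1
    · rw [map_sum]
      have h6 : ∀ i, ρ g (ρ (g ^ i) v) = ρ (g ^ (i + 1)) v := by
        intro i
        rw [pow_succ', rho_mul]
      rw [sum_congr rfl fun i _ => h6 i]
      have h7 := sum_range_succ (fun i => ρ (g ^ i) v) (s ^ (r + 1))
      have h8 := sum_range_succ' (fun i => ρ (g ^ i) v) (s ^ (r + 1))
      rw [h7, h3, pow_zero] at h8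
      exact (add_right_cancel h8).symm

/-- restriction to an invariant subgroup -/
def restr {W : Type u} [AddCommGroup W] (U : AddSubgroup W) (f : AddMonoid.End W) (h : ∀ u ∈ U, f u ∈ U) :
    AddMonoid.End U where
  toFun u := ⟨f u, h u u.2⟩
  map_zero' := Subtype.ext (map_zero f)
  map_add' _ _ := Subtype.ext (map_add f _ _)

theorem restr_pow {W : Type u} [AddCommGroup W] (U : AddSubgroup W) (f : AddMonoid.End W) (h : ∀ u ∈ U, f u ∈ U)
    (n : ℕ) (u : U) : (((restr U f h) ^ n) u : W) = (f ^ n) u := by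
  induction n generalizing u with
  | zero => rfl
  | succ n ih =>
    rw [pow_succ, pow_succ]
    exact ih _

theorem pair_aux {W : Type u} [AddCommGroup W] {ρ : Γ →* AddMonoid.End W} {s b : ℕ} {x y : Γ} (hxy : x * y = y * x)
    (hx : orderOf x = s ^ b) (hy : orderOf y = s ^ b) (hind : ∀ i j : ℕ, x ^ i = y ^ j → x ^ i = 1) {U : AddSubgroup W}
    (hU : U ≠ ⊥) {k : ℕ} (hk : ∀ u ∈ U, ρ x u = ρ (y ^ k) u) :
    ∃ h : Γ, orderOf h = s ^ b ∧ ∃ w ∈ U, w ≠ 0 ∧ ρ h w = w := by
  obtain ⟨u, hu, hu0⟩ := exists_ne hU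
  have hc : Commute ((y ^ k)⁻¹) x := ((show Commute x y from hxy).symm.pow_left k).inv_left
  have hpow : ∀ n : ℕ, ((y ^ k)⁻¹ * x) ^ n = (y ^ (k * n))⁻¹ * x ^ n := by
    intro n
    rw [hc.mul_pow, inv_pow, ← pow_mul]
  refine ⟨(y ^ k)⁻¹ * x, ?_, u, hu, hu0, ?_⟩
  · apply Nat.dvd_antisymm
    · apply orderOf_dvd_of_pow_eq_one
      rw [hpow, mul_comm k, pow_mul, ← hy, pow_orderOf_eq_one, one_pow, inv_one, one_mul, hy, ← hx, pow_orderOf_eq_one]
    · rw [← hx]
      apply orderOf_dvd_of_pow_eq_one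
      have h1 := pow_orderOf_eq_one ((y ^ k)⁻¹ * x)
      rw [hpow, inv_mul_eq_one] at h1
      exact hind _ _ h1.symm
  · rw [rho_mul, hk u hu]
    exact rho_inv _ _

/-- two commuting independent elements of order `s ^ b` -/
theorem fixP_of_pair {s b : ℕ} (hs : s.Prime) {x y : Γ} (hxy : x * y = y * x) (hx : orderOf x = s ^ b)
    (hy : orderOf y = s ^ b) (hind : ∀ i j : ℕ, x ^ i = y ^ j → x ^ i = 1) : FixP.{u} t Γ (s ^ b) := by
  intro W _ _ htW ρ U hU hinv
  -- a minimal invariant subgroup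
  let 𝒮 : Set (AddSubgroup W) := {U₀ | U₀ ≤ U ∧ U₀ ≠ ⊥ ∧ (∀ u ∈ U₀, ρ x u ∈ U₀) ∧ ∀ u ∈ U₀, ρ y u ∈ U₀}
  have h𝒮 : 𝒮.Nonempty := ⟨U, le_rfl, hU, hinv x, hinv y⟩
  obtain ⟨U₀, hU₀⟩ := (Set.toFinite 𝒮).exists_minimal h𝒮
  obtain ⟨hle, hne, hix, hiy⟩ := hU₀.prop
  have hcomm : Commute (ρ x) (ρ y) := by
    change ρ x * ρ y = ρ y * ρ x
    rw [← map_mul, ← map_mul, hxy]
  set F₁ := restr U₀ (ρ x) hix with hF₁
  set F₂ := restr U₀ (ρ y) hiy with hF₂
  have hF : F₁ * F₂ = F₂ * F₁ := by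
    ext u
    change ρ x (ρ y u) = ρ y (ρ x u)
    rw [← rho_mul, ← rho_mul, hxy]
  let R₀ : Subring (AddMonoid.End U₀) := Subring.closure {F₁, F₂}
  have hcs : ∀ a ∈ ({F₁, F₂} : Set (AddMonoid.End U₀)), ∀ c ∈ ({F₁, F₂} : Set (AddMonoid.End U₀)), a * c = c * a := by
    rintro a (rfl | rfl) c (rfl | rfl)
    · rfl
    · exact hF
    · exact hF.symm
    · rfl
  let _ : CommRing R₀ := Subring.closureCommRingOfComm hcs
  have hm₁ : F₁ ∈ R₀ := Subring.subset_closure (by simp)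
  have hm₂ : F₂ ∈ R₀ := Subring.subset_closure (by simp)
  have hinj : ∀ r : R₀, r ≠ 0 → ∀ u : U₀, (r : AddMonoid.End U₀) u = 0 → u = 0 := by
    intro r hr u hu
    have hc₁ : ∀ v : U₀, (r : AddMonoid.End U₀) (F₁ v) = F₁ ((r : AddMonoid.End U₀) v) := by
      intro v
      have h1 : r * ⟨F₁, hm₁⟩ = ⟨F₁, hm₁⟩ * r := mul_comm _ _
      exact congrArg (fun f : R₀ => (f : AddMonoid.End U₀) v) h1
    have hc₂ : ∀ v : U₀, (r : AddMonoid.End U₀) (F₂ v) = F₂ ((r : AddMonoid.End U₀) v) := by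
      intro v
      have h1 : r * ⟨F₂, hm₂⟩ = ⟨F₂, hm₂⟩ * r := mul_comm _ _
      exact congrArg (fun f : R₀ => (f : AddMonoid.End U₀) v) h1
    let Kr : AddSubgroup W := (AddMonoidHom.ker (r : AddMonoid.End U₀)).map U₀.subtype
    by_contra hu0
    have hKr : Kr ∈ 𝒮 := by
      refine ⟨?_, ?_, ?_, ?_⟩
      · rintro _ ⟨v, -, rfl⟩
        exact hle v.2
      · intro h
        have h1 : (u : W) ∈ Kr := ⟨u, hu, rfl⟩
        rw [h] at h1
        exact hu0 (Subtype.ext h1)
      · rintro _ ⟨v, hv, rfl⟩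
        refine ⟨F₁ v, ?_, rfl⟩
        have hv' : (r : AddMonoid.End U₀) v = 0 := hv
        change (r : AddMonoid.End U₀) (F₁ v) = 0
        rw [hc₁, hv', map_zero]
      · rintro _ ⟨v, hv, rfl⟩
        refine ⟨F₂ v, ?_, rfl⟩
        have hv' : (r : AddMonoid.End U₀) v = 0 := hv
        change (r : AddMonoid.End U₀) (F₂ v) = 0
        rw [hc₂, hv', map_zero]
    have hle2 : U₀ ≤ Kr := hU₀.le_of_le hKr (by
      rintro _ ⟨v, -, rfl⟩
      exact v.2)
    apply hr
    apply Subtype.ext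
    ext v
    obtain ⟨v', hv', hvv⟩ := hle2 v.2
    have : v' = v := Subtype.ext hvv
    rw [this] at hv'
    exact congrArg Subtype.val (show (r : AddMonoid.End U₀) v = 0 from hv')
  obtain ⟨u₀, hu₀, hu₀0⟩ := exists_ne hne
  have : Nontrivial R₀ := by
    refine ⟨1, 0, fun h => ?_⟩
    have := congrArg (fun f : R₀ => (f : AddMonoid.End U₀) ⟨u₀, hu₀⟩) h
    exact hu₀0 (congrArg Subtype.val this)
  have : NoZeroDivisors R₀ := by
    constructor
    intro a c hac
    by_cases ha : a = 0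
    · exact Or.inl ha
    · right
      apply Subtype.ext
      ext v
      have h1 := congrArg (fun f : R₀ => (f : AddMonoid.End U₀) v) hac
      have h2 := hinj a ha ((c : AddMonoid.End U₀) v) h1
      rw [h2]
      rfl
  have : IsDomain R₀ := NoZeroDivisors.to_isDomain R₀
  have hp₁ : ∀ n : ℕ, x ^ n = 1 → (⟨F₁, hm₁⟩ : R₀) ^ n = 1 := by
    intro n hn
    apply Subtype.ext
    ext v
    change ((F₁ ^ n) v : W) = v
    rw [restr_pow, ← map_pow, hn, map_one]
    rfl
  have hp₂ : ∀ n : ℕ, y ^ n = 1 → (⟨F₂, hm₂⟩ : R₀) ^ n = 1 := by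
    intro n hn
    apply Subtype.ext
    ext v
    change ((F₂ ^ n) v : W) = v
    rw [restr_pow, ← map_pow, hn, map_one]
    rfl
  obtain ⟨i, hi, hi'⟩ := (Nat.dvd_prime_pow hs).1 (orderOf_dvd_of_pow_eq_one (hp₁ (s ^ b) (by rw [← hx, pow_orderOf_eq_one])))
  obtain ⟨j, hj, hj'⟩ := (Nat.dvd_prime_pow hs).1 (orderOf_dvd_of_pow_eq_one (hp₂ (s ^ b) (by rw [← hy, pow_orderOf_eq_one])))
  have hpos : ∀ k, NeZero (s ^ k) := fun k => ⟨(pow_pos hs.pos k).ne'⟩
  rcases le_total i j with hij | hij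
  · have h1 : (⟨F₁, hm₁⟩ : R₀) ^ (s ^ j) = 1 := by
      obtain ⟨d, rfl⟩ := Nat.exists_eq_add_of_le hij
      rw [pow_add, pow_mul, ← hi', pow_orderOf_eq_one, one_pow]
    have h2 : IsPrimitiveRoot (⟨F₂, hm₂⟩ : R₀) (s ^ j) := by rw [← hj']; exact IsPrimitiveRoot.orderOf _
    have := hpos j
    obtain ⟨k, -, hk⟩ := h2.eq_pow_of_pow_eq_one h1
    obtain ⟨h, hh, w, hw, hw0, hhw⟩ := pair_aux (ρ := ρ) hxy hx hy hind hne (k := k) (by
      intro u hu
      have h3 := congrArg (fun f : R₀ => ((f : AddMonoid.End U₀) ⟨u, hu⟩ : W)) hk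
      change ((F₂ ^ k) ⟨u, hu⟩ : W) = ρ x u at h3
      rw [restr_pow, ← map_pow] at h3
      exact h3.symm)
    exact ⟨h, hh, w, hle hw, hw0, hhw⟩
  · have h1 : (⟨F₂, hm₂⟩ : R₀) ^ (s ^ i) = 1 := by
      obtain ⟨d, rfl⟩ := Nat.exists_eq_add_of_le hij
      rw [pow_add, pow_mul, ← hj', pow_orderOf_eq_one, one_pow]
    have h2 : IsPrimitiveRoot (⟨F₁, hm₁⟩ : R₀) (s ^ i) := by rw [← hi']; exact IsPrimitiveRoot.orderOf _
    have := hpos i
    obtain ⟨k, -, hk⟩ := h2.eq_pow_of_pow_eq_one h1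
    obtain ⟨h, hh, w, hw, hw0, hhw⟩ := pair_aux (ρ := ρ) hxy.symm hy hx
      (fun i j h => by rw [h]; exact hind j i h.symm) hne (k := k) (by
      intro u hu
      have h3 := congrArg (fun f : R₀ => ((f : AddMonoid.End U₀) ⟨u, hu⟩ : W)) hk
      change ((F₁ ^ k) ⟨u, hu⟩ : W) = ρ y u at h3
      rw [restr_pow, ← map_pow] at h3
      exact h3.symm)
    exact ⟨h, hh, w, hle hw, hw0, hhw⟩

end fixP

end Cfsg.Agent.H825.Cov
end

-- part: H825/Cov/Main
section
/-!
# Element orders in extensions of elementary abelian groups by alternating groups (helper825)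
-/

set_option autoImplicit false
set_option linter.unusedSectionVars false

namespace Cfsg.Agent.H825.Cov

open Finset Equiv

universe u v w

section emb

variable {α β : Type} [Fintype α] [DecidableEq α] [Fintype β] [DecidableEq β]

/-- a sign preserving homomorphism restricts to the alternating groups -/
def altMap (f : Perm α →* Perm β) (hf : ∀ σ, Perm.sign (f σ) = Perm.sign σ) :
    alternatingGroup α →* alternatingGroup β :=
  (f.comp (alternatingGroup α).subtype).codRestrict (alternatingGroup β) (fun x => by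
    rw [Perm.mem_alternatingGroup]
    change Perm.sign (f x) = 1
    rw [hf]
    exact Perm.mem_alternatingGroup.1 x.2)

theorem exists_emb {k l n : ℕ} (h : k + l ≤ n) :
    ∃ (φ₁ : alternatingGroup (Fin k) →* alternatingGroup (Fin n))
      (φ₂ : alternatingGroup (Fin l) →* alternatingGroup (Fin n)),
      Function.Injective φ₁ ∧ Function.Injective φ₂ ∧ (∀ x y, φ₁ x * φ₂ y = φ₂ y * φ₁ x) ∧
      ∀ x y, φ₁ x = φ₂ y → x = 1 := by
  obtain ⟨d, rfl⟩ := Nat.exists_eq_add_of_le h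
  let e : Fin k ⊕ (Fin l ⊕ Fin d) ≃ Fin (k + l + d) := Fintype.equivFinOfCardEq (by simp only [add_assoc, _root_.Fintype.card_sum, _root_.Fintype.card_fin, _root_.add_assoc, _root_.Nat.add_left_cancel_iff])
  let f₁ : Perm (Fin k) →* Perm (Fin k ⊕ (Fin l ⊕ Fin d)) :=
    (Perm.sumCongrHom (Fin k) (Fin l ⊕ Fin d)).comp (MonoidHom.inl _ _)
  let f₂ : Perm (Fin l) →* Perm (Fin k ⊕ (Fin l ⊕ Fin d)) :=
    (Perm.sumCongrHom (Fin k) (Fin l ⊕ Fin d)).comp
      ((MonoidHom.inr _ _).comp ((Perm.sumCongrHom (Fin l) (Fin d)).comp (MonoidHom.inl _ _)))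
  have hf₁ : ∀ σ, Perm.sign (f₁ σ) = Perm.sign σ := by
    intro σ
    change Perm.sign (Equiv.Perm.sumCongr σ 1) = _
    rw [Perm.sign_sumCongr, map_one, mul_one]
  have hf₂ : ∀ σ, Perm.sign (f₂ σ) = Perm.sign σ := by
    intro σ
    change Perm.sign (Equiv.Perm.sumCongr 1 (Equiv.Perm.sumCongr σ 1)) = _
    rw [Perm.sign_sumCongr, map_one, one_mul, Perm.sign_sumCongr, map_one, mul_one]
  have hi₁ : Function.Injective f₁ := by
    intro σ τ h
    have h1 := Equiv.Perm.sumCongrHom_injective h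
    exact congrArg Prod.fst h1
  have hi₂ : Function.Injective f₂ := by
    intro σ τ h
    have h1 := Equiv.Perm.sumCongrHom_injective h
    have h2 := Equiv.Perm.sumCongrHom_injective (congrArg Prod.snd h1)
    exact congrArg Prod.fst h2
  have hc : ∀ σ τ, f₁ σ * f₂ τ = f₂ τ * f₁ σ := by
    intro σ τ
    change (Perm.sumCongrHom (Fin k) (Fin l ⊕ Fin d)) (σ, 1) * (Perm.sumCongrHom (Fin k) (Fin l ⊕ Fin d)) (1, _) =
      (Perm.sumCongrHom (Fin k) (Fin l ⊕ Fin d)) (1, _) * (Perm.sumCongrHom (Fin k) (Fin l ⊕ Fin d)) (σ, 1)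
    rw [← map_mul, ← map_mul, Prod.mk_mul_mk, Prod.mk_mul_mk, one_mul, mul_one, one_mul, mul_one]
  have ht : ∀ σ τ, f₁ σ = f₂ τ → σ = 1 := by
    intro σ τ h
    have h1 := Equiv.Perm.sumCongrHom_injective h
    exact congrArg Prod.fst h1
  let E := Equiv.altCongrHom e
  refine ⟨E.toMonoidHom.comp (altMap f₁ hf₁), E.toMonoidHom.comp (altMap f₂ hf₂), ?_, ?_, ?_, ?_⟩
  · intro x y h
    exact Subtype.ext (hi₁ (congrArg Subtype.val (E.injective h)))
  · intro x y h
    exact Subtype.ext (hi₂ (congrArg Subtype.val (E.injective h)))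
  · intro x y
    change E _ * E _ = E _ * E _
    rw [← map_mul, ← map_mul]
    congr 1
    exact Subtype.ext (hc _ _)
  · intro x y h
    exact Subtype.ext (ht _ _ (congrArg Subtype.val (E.injective h)))

theorem simple_alt {n : ℕ} (hn : 5 ≤ n) : IsSimpleGroup (alternatingGroup (Fin n)) :=
  alternatingGroup.isSimpleGroup (by rwa [Nat.card_eq_fintype_card, Fintype.card_fin])

end emb

theorem fixP_of_fixC {t : ℕ} (ht : t.Prime) {k m : ℕ} (h : FixC t k m) :
    FixP.{u} t (alternatingGroup (Fin k)) m := by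
  induction h with
  | one => exact FixP.one
  | @mono k l m h1 h2 ih =>
    obtain ⟨φ, -, hφ, -⟩ := exists_emb (k := k) (l := 0) (n := l) (by omega)
    exact ih.map φ hφ
  | @cyc s b hs hs2 hst hb =>
    have hodd : Odd (s ^ b) := (hs.odd_of_ne_two hs2).pow
    have h2 : 2 ≤ s ^ b := hs.two_le.trans (Nat.le_self_pow (by omega) s)
    have hsgn : Perm.sign (finRotate (s ^ b)) = 1 := by
      rw [sign_finRotate]
      obtain ⟨m, hm⟩ := hodd
      rw [hm, Nat.add_sub_cancel]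
      exact Even.neg_one_pow ⟨m, by ring⟩
    let c : alternatingGroup (Fin (s ^ b)) := ⟨finRotate (s ^ b), Perm.mem_alternatingGroup.2 hsgn⟩
    have hord : orderOf c = s ^ b := by
      rw [← Subgroup.orderOf_coe]
      change orderOf (finRotate (s ^ b)) = s ^ b
      rw [(isCycle_finRotate_of_le h2).orderOf, support_finRotate_of_le h2, card_univ, Fintype.card_fin]
    obtain ⟨φ₁, φ₂, hφ₁, hφ₂, hc, ht⟩ := exists_emb (k := s ^ b) (l := s ^ b) (n := 2 * s ^ b) (by omega)
    refine fixP_of_pair hs (x := φ₁ c) (y := φ₂ c) (hc c c) (by rw [orderOf_injective φ₁ hφ₁, hord])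
      (by rw [orderOf_injective φ₂ hφ₂, hord]) ?_
    intro i j hij
    rw [← map_pow, ← map_pow] at hij
    rw [← map_pow, ht _ _ hij, map_one]
  | @two3 b h2 h3 =>
    have := simple_alt (n := 3 * 2 ^ b + 2) (by have := Nat.one_le_two_pow (n := b); omega)
    exact fixP_of_gad Nat.prime_two ht Nat.prime_three h3 (gad2_3 b)
  | @two9 b h2 h3 =>
    have := simple_alt (n := 9 * 2 ^ b + 2) (by have := Nat.one_le_two_pow (n := b); omega)
    exact fixP_of_gad Nat.prime_two ht Nat.prime_three h3 (gad2_9 b)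
  | @two5 b h2 h3 =>
    have := simple_alt (n := 5 * 2 ^ b + 2) (by have := Nat.one_le_two_pow (n := b); omega)
    exact fixP_of_gad Nat.prime_two ht Nat.prime_five h3 (gad2_5 b)
  | @two17 b h2 h3 =>
    have := simple_alt (n := 17 * 2 ^ b + 2) (by have := Nat.one_le_two_pow (n := b); omega)
    exact fixP_of_gad Nat.prime_two ht (by norm_num) h3 (gad2_17 b)
  | @three b k h2 h3 h5 h4 =>
    have := simple_alt h5
    obtain ⟨φ, -, hφ, -⟩ := exists_emb (k := 4 * 3 ^ b) (l := 0) (n := k) (by omega)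
    exact fixP_of_gad Nat.prime_three ht Nat.prime_two h2 ((gad3 b).map φ hφ)
  | @seven b h2 h7 =>
    have := simple_alt (n := 8 * 7 ^ b) (by have := Nat.one_le_pow b 7 (by norm_num); omega)
    exact fixP_of_gad (by norm_num) ht Nat.prime_two h2 (gad7 b)
  | @mul k l m m' h1 h2 hco ih1 ih2 =>
    obtain ⟨φ₁, φ₂, hφ₁, hφ₂, hc, -⟩ := exists_emb (k := k) (l := l) (n := k + l) le_rfl
    exact FixP.mul ih1 ih2 φ₁ φ₂ hφ₁ hφ₂ hc hco

theorem reg_cases {t k a : ℕ} (ht : t.Prime) (h : RegC t k a) :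
    a = 0 ∨ ∃ r q, a = r + 1 ∧ q.Prime ∧ t ≠ q ∧ Gad (alternatingGroup (Fin k)) t r q := by
  cases h with
  | zero => exact Or.inl rfl
  | @odd a h2 ha =>
    right
    obtain ⟨b, rfl⟩ : ∃ b, a = b + 1 := ⟨a - 1, by omega⟩
    exact ⟨b, 2, rfl, Nat.prime_two, h2, gad_t ht h2 b⟩
  | @two3 b h2 => subst h2; exact Or.inr ⟨b, 3, rfl, Nat.prime_three, by norm_num, gad2_3 b⟩
  | @two9 b h2 => subst h2; exact Or.inr ⟨b + 2, 3, rfl, Nat.prime_three, by norm_num, gad2_9 b⟩
  | @two5 b h2 => subst h2; exact Or.inr ⟨b + 1, 5, rfl, Nat.prime_five, by norm_num, gad2_5 b⟩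
  | @two17 b h2 => subst h2; exact Or.inr ⟨b + 3, 17, rfl, by norm_num, by norm_num, gad2_17 b⟩
  | @three b h2 => subst h2; exact Or.inr ⟨b, 2, rfl, Nat.prime_two, by norm_num, gad3 b⟩
  | @seven b h2 => subst h2; exact Or.inr ⟨b, 2, rfl, Nat.prime_two, by norm_num, gad7 b⟩

theorem exists_gh {t n k l a m : ℕ} (ht : t.Prime) (hn : 5 ≤ n) {W : Type u} [AddCommGroup W] [Finite W]
    (htW : ∀ w : W, t • w = 0) (ρ : alternatingGroup (Fin n) →* AddMonoid.End W) (hρ : ∃ g w, ρ g w ≠ w)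
    (h1 : RegC t k a) (h2 : FixC t l m) (h3 : k + l ≤ n) :
    ∃ g h : alternatingGroup (Fin n), g * h = h * g ∧ orderOf g = t ^ a ∧ orderOf h = m ∧
      ∃ w, ρ h w = w ∧ ∑ i ∈ range (t ^ a), ρ (g ^ i) w ≠ 0 := by
  have := simple_alt hn
  have : Fact t.Prime := ⟨ht⟩
  have hF := fixP_of_fixC.{u} ht h2
  obtain ⟨φ₁, φ₂, hφ₁, hφ₂, hc, -⟩ := exists_emb (k := k) (l := l) (n := n) h3
  rcases reg_cases ht h1 with ha | ⟨r, q, ha, hq, hqt, E, g, g1, g2, g3, g4, g5⟩
  · subst ha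
    obtain ⟨x, w, hxw⟩ := hρ
    have hne : (⊤ : AddSubgroup W) ≠ ⊥ := by
      intro h
      have h4 : ∀ v : W, v = 0 := fun v => by
        have : v ∈ (⊤ : AddSubgroup W) := trivial
        rw [h] at this
        exact this
      exact hxw (by rw [h4 (ρ x w), h4 w])
    obtain ⟨y, hy, u, -, hu0, hyu⟩ := hF W htW (ρ.comp φ₂) ⊤ hne (fun _ _ _ => trivial)
    refine ⟨1, φ₂ y, by rw [one_mul, mul_one], by rw [orderOf_one, pow_zero],
      by rw [orderOf_injective φ₂ hφ₂, hy], u, hyu, ?_⟩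
    rw [pow_zero, sum_range_one, pow_zero, rho_one]
    exact hu0
  · subst ha
    have : Fact q.Prime := ⟨hq⟩
    have : Fintype (E.map φ₁) := Fintype.ofFinite _
    obtain ⟨j, hj⟩ := IsPGroup.iff_card.1 (g2.map φ₁)
    have hcard : ∀ u : W, Fintype.card (E.map φ₁) • u = 0 → u = 0 := by
      intro u hu
      refine smul_eq_zero_of_coprime htW ?_ u hu
      rw [← Nat.card_eq_fintype_card, hj]
      exact Nat.Coprime.pow_right _ ((Nat.coprime_primes ht hq).2 hqt)
    have htop : ∀ x, ∀ u ∈ (⊤ : AddSubgroup W), ρ x u ∈ (⊤ : AddSubgroup W) := fun _ _ _ => AddSubgroup.mem_top _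
    have hE : E.map φ₁ ≠ ⊥ := fun h => g1 ((Subgroup.map_eq_bot_iff_of_injective E hφ₁).1 h)
    have hk : ker0 ρ (E.map φ₁) ⊤ ≠ ⊥ := by
      intro hk
      obtain ⟨x, w, hxw⟩ := hρ
      exact hxw (trivial_of_simple htop hE (trivial_of_ker0 (fun e _ => htop e) hk) x w (AddSubgroup.mem_top _))
    have hφc : ∀ y, ∀ e ∈ E.map φ₁, φ₂ y * e * (φ₂ y)⁻¹ = e := by
      rintro y _ ⟨e, -, rfl⟩
      rw [← hc, mul_inv_cancel_right]
    obtain ⟨y, hy, w, hw, hw0, hyw⟩ := hF W htW (ρ.comp φ₂) (ker0 ρ (E.map φ₁) ⊤) hk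
      (fun y => ker0_conj (fun e he => by rw [hφc y e he]; exact he) (htop _))
    let U : AddSubgroup W :=
      { carrier := {u | u ∈ ker0 ρ (E.map φ₁) ⊤ ∧ ρ (φ₂ y) u = u}
        zero_mem' := ⟨(ker0 ρ (E.map φ₁) ⊤).zero_mem, map_zero _⟩
        add_mem' := by
          rintro u v ⟨h1, h2⟩ ⟨h3, h4⟩
          exact ⟨(ker0 ρ (E.map φ₁) ⊤).add_mem h1 h3, by rw [map_add, h2, h4]⟩
        neg_mem' := by
          rintro u ⟨h1, h2⟩
          exact ⟨(ker0 ρ (E.map φ₁) ⊤).neg_mem h1, by rw [map_neg, h2]⟩ }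
    have hnorm : ∀ e ∈ E.map φ₁, φ₁ g * e * (φ₁ g)⁻¹ ∈ E.map φ₁ := by
      rintro _ ⟨e, he, rfl⟩
      exact ⟨g * e * g⁻¹, g4 e he, by rw [map_mul, map_mul, map_inv]⟩
    have hfpf : ∀ e ∈ E.map φ₁, φ₁ g ^ t ^ r * e = e * φ₁ g ^ t ^ r → e = 1 := by
      rintro _ ⟨e, he, rfl⟩ h
      rw [g5 e he (hφ₁ (by rw [map_mul, map_mul, map_pow]; exact h)), map_one]
    obtain ⟨v, hv, hv0⟩ := exists_norm ht (g := φ₁ g) (r := r) (by rw [← map_pow, g3, map_one]) hnorm hfpf (U := U)
      (by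
        rintro e he u ⟨h5, h6⟩
        refine ⟨ker0_conj (fun e' he' => (E.map φ₁).mul_mem ((E.map φ₁).mul_mem he he') ((E.map φ₁).inv_mem he))
          (htop e) u h5, ?_⟩
        have h7 : φ₂ y * e = e * φ₂ y := by
          have := hφc y e he
          rwa [mul_inv_eq_iff_eq_mul] at this
        rw [← rho_mul, h7, rho_mul, h6])
      (by
        rintro u ⟨h5, h6⟩
        refine ⟨ker0_conj hnorm (htop _) u h5, ?_⟩
        rw [← rho_mul, ← hc, rho_mul, h6])
      (fun u hu => hu.1.2) hcard (u := w) ⟨hw, hyw⟩ hw0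
    have hord : orderOf g = t ^ (r + 1) := by
      apply orderOf_eq_prime_pow _ g3
      intro h6
      apply g1
      rw [Subgroup.eq_bot_iff_forall]
      intro e he
      exact g5 e he (by rw [h6, one_mul, mul_one])
    exact ⟨φ₁ g, φ₂ y, hc g y, by rw [orderOf_injective φ₁ hφ₁, hord], by rw [orderOf_injective φ₂ hφ₂, hy],
      v, hv.2, hv0⟩

theorem sum_range_mul_period {M : Type u} [AddCommGroup M] (f : ℕ → M) (T : ℕ) (hf : ∀ i, f (i + T) = f i) (m : ℕ) :
    ∑ i ∈ range (T * m), f i = m • ∑ i ∈ range T, f i := by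
  have h1 : ∀ m i, f (T * m + i) = f i := by
    intro m
    induction m with
    | zero => intro i; rw [mul_zero, zero_add]
    | succ m ih =>
      intro i
      have : T * (m + 1) + i = T * m + i + T := by ring
      rw [this, hf, ih]
  induction m with
  | zero => simp
  | succ m ih =>
    rw [mul_add, mul_one, sum_range_add, ih, succ_nsmul]
    congr 1
    exact sum_congr rfl fun i _ => h1 m i

end Cfsg.Agent.H825.Cov
end

-- part: H546/Sp/RankTwo
section
/-!
# General recursion rules with an arbitrary condition on the order, and the rank-two rule (TEAM SPEC-ALT)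

`HitP t R P` : every non-zero module of `Alt R` in characteristic `t` has an element `a` with `P (orderOf a)` and non-zero
norm; `HitNP` : the same for non-trivial modules.
-/

set_option autoImplicit false

namespace Cfsg.Agent.H546.Sp

open Cfsg.Agent.H357.Sp Finset

universe u

def HitP (t R : ℕ) (P : ℕ → Prop) : Prop :=
  ∀ (V : Type u) [AddCommGroup V] [Finite V], (∀ v : V, t • v = 0) → ∀ ρ : alternatingGroup (Fin R) →* AddMonoid.End V,
    (∃ v : V, v ≠ 0) → ∃ a, P (orderOf a) ∧ ∃ v, nrm ρ a v ≠ 0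

def HitNP (t R : ℕ) (P : ℕ → Prop) : Prop :=
  ∀ (V : Type u) [AddCommGroup V] [Finite V], (∀ v : V, t • v = 0) → ∀ ρ : alternatingGroup (Fin R) →* AddMonoid.End V,
    (∃ a v, ρ a v ≠ v) → ∃ a, P (orderOf a) ∧ ∃ v, nrm ρ a v ≠ 0

theorem HitP.mono {t R : ℕ} {P Q : ℕ → Prop} (h : HitP.{u} t R P) (hPQ : ∀ n, P n → Q n) : HitP.{u} t R Q := by
  intro V _ _ hV ρ hv
  obtain ⟨a, h1, h2⟩ := h V hV ρ hv
  exact ⟨a, hPQ _ h1, h2⟩

theorem HitNP.mono {t R : ℕ} {P Q : ℕ → Prop} (h : HitNP.{u} t R P) (hPQ : ∀ n, P n → Q n) : HitNP.{u} t R Q := by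
  intro V _ _ hV ρ hv
  obtain ⟨a, h1, h2⟩ := h V hV ρ hv
  exact ⟨a, hPQ _ h1, h2⟩

theorem hitP_one {t R : ℕ} {P : ℕ → Prop} (h : P 1) : HitP.{u} t R P := by
  intro V _ _ _ ρ ⟨v, hv⟩
  exact ⟨1, by rwa [orderOf_one], v, by rwa [nrm_one]⟩

/-- the core: an element `g` of `Alt c` with non-zero norm, then the module of norms for `Alt (R - c)` -/
theorem core_P {t R c k : ℕ} {P : ℕ → Prop}
    {i1 : alternatingGroup (Fin c) →* alternatingGroup (Fin R)}
    {i2 : alternatingGroup (Fin (R - c)) →* alternatingGroup (Fin R)}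
    (hi1 : Function.Injective i1) (hi2 : Function.Injective i2) (hcomm : ∀ a b, i1 a * i2 b = i2 b * i1 a)
    (h : HitP.{u} t (R - c) (fun m => k.Coprime m ∧ P (k * m)))
    (V : Type u) [AddCommGroup V] [Finite V] (hV : ∀ v : V, t • v = 0) (ρ : alternatingGroup (Fin R) →* AddMonoid.End V)
    {g : alternatingGroup (Fin c)} (hgk : orderOf g = k) (hne : ∃ v, nrm ρ (i1 g) v ≠ 0) :
    ∃ a, P (orderOf a) ∧ ∃ v, nrm ρ a v ≠ 0 := by
  let V1 : AddSubgroup V := (nrmHom ρ (i1 g)).range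
  have hst : ∀ b : alternatingGroup (Fin (R - c)), ∀ v ∈ V1, ρ (i2 b) v ∈ V1 := by
    rintro b _ ⟨v, rfl⟩
    refine ⟨ρ (i2 b) v, ?_⟩
    rw [nrmHom_apply, nrmHom_apply, nrm_comm ρ (hcomm g b)]
  let ρ1 : alternatingGroup (Fin (R - c)) →* AddMonoid.End V1 :=
    { toFun := fun b =>
        { toFun := fun v => ⟨ρ (i2 b) v, hst b v v.2⟩
          map_zero' := by apply Subtype.ext; simp
          map_add' := fun x y => by apply Subtype.ext; simp }
      map_one' := by
        ext v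
        change ρ (i2 1) (v : V) = (v : V)
        rw [map_one, map_one]; rfl
      map_mul' := fun x y => by
        ext v
        change ρ (i2 (x * y)) (v : V) = ρ (i2 x) (ρ (i2 y) (v : V))
        rw [map_mul, rho_mul] }
  have hρ1 : ∀ b (v : V1), ((ρ1 b v : V1) : V) = ρ (i2 b) v := fun b v => rfl
  have hnrm : ∀ b (v : V1), ((nrm ρ1 b v : V1) : V) = nrm ρ (i2 b) v := by
    intro b v
    unfold nrm
    rw [orderOf_injective i2 hi2, AddSubgroup.val_finsetSum]
    apply Finset.sum_congr rfl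
    intro i _
    rw [hρ1, map_pow]
  obtain ⟨v0, hv0⟩ := hne
  obtain ⟨a2, ⟨hk2, hP2⟩, v2, hv2⟩ := h V1 (fun v => by apply Subtype.ext; simpa only [_root_.AddSubmonoidClass.coe_nsmul, _root_.ZeroMemClass.coe_zero] using hV v) ρ1
    ⟨⟨nrmHom ρ (i1 g) v0, v0, rfl⟩, fun h0 => hv0 (congrArg Subtype.val h0)⟩
  have hcop : (orderOf (i1 g)).Coprime (orderOf (i2 a2)) := by
    rw [orderOf_injective i1 hi1, orderOf_injective i2 hi2, hgk]
    exact hk2
  refine ⟨i1 g * i2 a2, ?_, ?_⟩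
  · have : Commute (i1 g) (i2 a2) := hcomm g a2
    rw [this.orderOf_mul_eq_mul_orderOf_of_coprime hcop, orderOf_injective i1 hi1, orderOf_injective i2 hi2, hgk]
    exact hP2
  · obtain ⟨⟨v2, v3, hv3⟩, hv⟩ : ∃ v : V1, nrm ρ1 a2 v ≠ 0 := ⟨v2, hv2⟩
    refine ⟨v3, ?_⟩
    rw [nrm_mul ρ (hcomm g a2) hcop]
    intro h0
    apply hv
    apply Subtype.ext
    rw [hnrm]
    rw [← nrmHom_apply ρ (i1 g) v3, hv3] at h0
    exact h0

theorem hitNP_of_block {t R c p k : ℕ} {P : ℕ → Prop} (ht : t.Prime) (hp : p.Prime) (htp : t ≠ p) (h5 : 5 ≤ R) (hc : c ≤ R)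
    (hb : IsBlock c p k) (h : HitP.{u} t (R - c) (fun m => k.Coprime m ∧ P (k * m))) : HitNP.{u} t R P := by
  intro V _ _ hV ρ hρ
  obtain ⟨i1, i2, hi1, hi2, hcomm⟩ := exists_alt_prod hc
  obtain ⟨E, g, hE1, hEp, hEc, hgk, hEn, hEf⟩ := hb
  have hsimple : IsSimpleGroup (alternatingGroup (Fin R)) :=
    alternatingGroup.isSimpleGroup (by rw [Nat.card_eq_fintype_card, Fintype.card_fin]; exact h5)
  have hne : ∃ v, nrm ρ (i1 g) v ≠ 0 := by
    refine nrm_ne_zero (k := k) ht hp htp hV ρ (E.map i1) (i1 g) (hEp.map i1) ?_ ?_ ?_ ?_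
    · rw [orderOf_injective i1 hi1, hgk]
    · rintro _ ⟨x, hx, rfl⟩
      exact ⟨g * x * g⁻¹, hEn x hx, by simp only [_root_.map_mul, _root_.map_inv]⟩
    · rintro i hi _ ⟨x, hx, rfl⟩ he
      have : g ^ i * x * (g ^ i)⁻¹ = x := by
        apply hi1
        rw [← he]; simp only [_root_.map_mul, _root_.map_pow, _root_.map_inv]
      rw [hEf i hi x hx this, map_one]
    · by_contra hcon
      push Not at hcon
      rcases hsimple.eq_bot_or_eq_top_of_normal ρ.ker (MonoidHom.normal_ker ρ) with hk1 | hk1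
      · apply hE1
        rw [eq_bot_iff]
        intro x hx
        have h1 : i1 x ∈ ρ.ker := by
          rw [MonoidHom.mem_ker]
          ext v
          exact hcon (i1 x) ⟨x, hx, rfl⟩ v
        rw [hk1, Subgroup.mem_bot] at h1
        rw [Subgroup.mem_bot]
        apply hi1
        rw [h1, map_one]
      · obtain ⟨a, v, hav⟩ := hρ
        apply hav
        have h1 : a ∈ ρ.ker := by rw [hk1]; trivial
        rw [MonoidHom.mem_ker] at h1
        rw [h1]; rfl
  exact core_P hi1 hi2 hcomm h V hV ρ hgk hne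

/-! ### The rank-two rule -/

/-! ### The rank-two rule for `Hit` and `HitN` -/

end Cfsg.Agent.H546.Sp
end

-- part: H357/Sp/Hit
section
/-!
# Elements with non-zero norms: the hypothesis `HH` of the final step (helper357, TEAM SPEC-ALT)

`HH ε n m` : for every prime `t` and every non-trivial `𝔽_t`-module of `Alt m` there is an element `a` with non-zero norm such that
`t * orderOf a` is not the order of an element of `Alt n` (`ε = 2`) resp. `Sym n` (`ε = 0`).
-/

set_option autoImplicit false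

namespace Cfsg.Agent.H357.Sp

open Cfsg Finset Cfsg.Agent.H825.Cov Cfsg.Agent.H267.Sp.SpecAlt Cfsg.Agent.H546.Sp

/-- one prime -/
def HHt (ε n m t : ℕ) : Prop :=
  ∀ (V : Type) [AddCommGroup V] [Finite V], (∀ v : V, t • v = 0) →
    ∀ ρ : alternatingGroup (Fin m) →* AddMonoid.End V,
      (∃ a v, ρ a v ≠ v) → ∃ a, n < W (t * orderOf a) + (if Even (t * orderOf a) then ε else 0) ∧ ∃ v, nrm ρ a v ≠ 0

theorem hht_of {ε n m t k a l j : ℕ} (ht : t.Prime) (hm : 5 ≤ m) (h1 : RegC t k a) (h2 : FixC t l j) (h3 : k + l ≤ m)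
    (h4 : Nat.Coprime t j) (hW : n < W (t ^ (a + 1) * j) + (if Even (t ^ (a + 1) * j) then ε else 0)) : HHt ε n m t := by
  intro V _ _ hV ρ hρ
  obtain ⟨g, h, hc, hg, hh, w, hw, hne⟩ := exists_gh ht hm hV ρ hρ h1 h2 h3
  have hcop : (orderOf g).Coprime (orderOf h) := by
    rw [hg, hh]
    exact Nat.Coprime.pow_left _ h4
  have hc' : Commute g h := hc
  have ho : orderOf (g * h) = t ^ a * j := by rw [hc'.orderOf_mul_eq_mul_orderOf_of_coprime hcop, hg, hh]
  have hj : t * orderOf (g * h) = t ^ (a + 1) * j := by rw [ho]; ring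
  refine ⟨g * h, by rw [hj]; exact hW, w, ?_⟩
  have hfix : ∀ i : ℕ, ρ ((g * h) ^ i) w = ρ (g ^ i) w := by
    intro i
    rw [hc'.mul_pow, map_mul]
    have h5 : ∀ i : ℕ, ρ (h ^ i) w = w := by
      intro i
      induction i with
      | zero => rw [pow_zero, map_one]; rfl
      | succ i ih => rw [pow_succ, map_mul]; change ρ (h ^ i) (ρ h w) = w; rw [hw, ih]
    change ρ (g ^ i) (ρ (h ^ i) w) = _
    rw [h5]
  have h6 : nrm ρ (g * h) w = j • ∑ i ∈ range (t ^ a), ρ (g ^ i) w := by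
    rw [nrm, ho, ← sum_range_mul_period (fun i => ρ (g ^ i) w) (t ^ a) (fun i => by
      change ρ (g ^ (i + t ^ a)) w = ρ (g ^ i) w
      rw [pow_add, ← hg, pow_orderOf_eq_one, mul_one]) j]
    exact Finset.sum_congr rfl fun i _ => hfix i
  rw [h6]
  intro h0
  apply hne
  obtain ⟨u, v, huv⟩ : ∃ u v : ℤ, u * t + v * j = 1 := by
    have := Nat.isCoprime_iff_coprime.2 h4
    exact this
  calc (∑ i ∈ range (t ^ a), ρ (g ^ i) w) = ((u * t + v * j : ℤ)) • ∑ i ∈ range (t ^ a), ρ (g ^ i) w := by rw [huv, one_smul]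
    _ = 0 := by
      rw [add_smul, mul_smul, mul_smul, natCast_zsmul, natCast_zsmul, h0, hV, smul_zero, smul_zero, add_zero]

theorem hht_big {ε n m t : ℕ} (ht : t.Prime) (hm : 5 ≤ m) (h : n < t) : HHt ε n m t := by
  refine hht_of (k := 0) (a := 0) (l := 0) (j := 1) ht hm RegC.zero FixC.one (by omega) (Nat.coprime_one_right t) ?_
  rw [zero_add, pow_one, mul_one]
  have h1 : W t = t := by
    have := W_pow ht one_ne_zero
    rwa [pow_one] at this
  omega

theorem HHt.mono {n n' m t : ℕ} (ε : ℕ) (h : HHt 0 n' m t) (hn : n ≤ n') : HHt ε n m t := by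
  intro V _ _ hV ρ hρ
  obtain ⟨a, h1, h2⟩ := h V hV ρ hρ
  refine ⟨a, ?_, h2⟩
  have h3 : n' < W (t * orderOf a) := by
    split_ifs at h1 <;> omega
  omega

theorem val1 {t e : ℕ} (ht : t.Prime) : W (t ^ (e + 1) * 1) = t ^ (e + 1) := by rw [mul_one, W_pow ht (Nat.succ_ne_zero e)]

theorem val2 {t e s f : ℕ} (ht : t.Prime) (hs : s.Prime) (hts : t ≠ s) : W (t ^ (e + 1) * s ^ (f + 1)) = t ^ (e + 1) + s ^ (f + 1) := by
  rw [W_mul (pow_ne_zero _ ht.ne_zero) (pow_ne_zero _ hs.ne_zero) (Nat.Coprime.pow _ _ ((Nat.coprime_primes ht hs).2 hts)),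
    W_pow ht (Nat.succ_ne_zero e), W_pow hs (Nat.succ_ne_zero f)]

/-- degree `n` itself -/
theorem hh_self {ε n t : ℕ} (hε : ε = 0 ∨ ε = 2) (hn : 7 ≤ n) (h10 : n ≠ 10) (h2 : ε = 0 → t = 2 → n ≠ 8 ∧ n ≠ 9 ∧ n ≠ 16) (ht : t.Prime) :
    HHt ε n n t := by
  rcases Nat.lt_or_ge n t with h | h
  · exact hht_big ht (by omega) h
  · obtain ⟨k, a, l, m, h3, h4, h5, h6, h7⟩ := H221.RecCost.exists_cost hε hn h10 ht h h2
    refine hht_of ht (by omega) h3 h4 h5 h6 ?_
    by_contra hc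
    apply h7
    have hm0 : m ≠ 0 := by
      rintro rfl
      exact ht.one_lt.ne' ((Nat.coprime_zero_right t).1 h6)
    refine ⟨mul_ne_zero (pow_ne_zero _ ht.ne_zero) hm0, ?_, fun he => ?_⟩
    · change W (t ^ (a + 1) * m) ≤ n
      omega
    · change W (t ^ (a + 1) * m) + ε ≤ n
      rw [if_pos he] at hc
      omega

theorem hh_0_12_11 {t : ℕ} (ht : t.Prime) : HHt 0 12 11 t := by
  rcases Nat.lt_or_ge 12 t with h | h
  · exact hht_big ht (by norm_num) h
  interval_cases t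
  · exact absurd ht (by norm_num)
  · exact absurd ht (by norm_num)
  · refine hht_of ht (by norm_num) (RegC.two9 (b := 0) rfl) (FixC.one) (by norm_num) (by norm_num) ?_
    rw [val1 (by norm_num)]; norm_num
  · refine hht_of ht (by norm_num) (RegC.three (b := 0) rfl) (FixC.two5 (b := 0) (by norm_num) (by norm_num)) (by norm_num) (by norm_num) ?_
    rw [show ((2 : ℕ) ^ (0 + 2)) = 2 ^ (1 + 1) from rfl, val2 (by norm_num) (by norm_num) (by norm_num)]; norm_num
  · exact absurd ht (by norm_num)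
  · refine hht_of ht (by norm_num) (RegC.odd (a := 1) (by norm_num) (by norm_num)) (FixC.one) (by norm_num) (by norm_num) ?_
    rw [val1 (by norm_num)]; norm_num
  · exact absurd ht (by norm_num)
  · refine hht_of ht (by norm_num) (RegC.seven (b := 0) rfl) (FixC.one) (by norm_num) (by norm_num) ?_
    rw [val1 (by norm_num)]; norm_num
  · exact absurd ht (by norm_num)
  · exact absurd ht (by norm_num)
  · exact absurd ht (by norm_num)
  · refine hht_of ht (by norm_num) (RegC.zero) (FixC.two3 (b := 0) (by norm_num) (by norm_num)) (by norm_num) (by norm_num) ?_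
    rw [show ((2 : ℕ) ^ (0 + 1)) = 2 ^ (0 + 1) from rfl, val2 (by norm_num) (by norm_num) (by norm_num)]; norm_num
  · exact absurd ht (by norm_num)

theorem hh_0_14_13 {t : ℕ} (ht : t.Prime) : HHt 0 14 13 t := by
  rcases Nat.lt_or_ge 14 t with h | h
  · exact hht_big ht (by norm_num) h
  interval_cases t
  · exact absurd ht (by norm_num)
  · exact absurd ht (by norm_num)
  · refine hht_of ht (by norm_num) (RegC.two9 (b := 0) rfl) (FixC.one) (by norm_num) (by norm_num) ?_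
    rw [val1 (by norm_num)]; norm_num
  · refine hht_of ht (by norm_num) (RegC.three (b := 1) rfl) (FixC.one) (by norm_num) (by norm_num) ?_
    rw [val1 (by norm_num)]; norm_num
  · exact absurd ht (by norm_num)
  · refine hht_of ht (by norm_num) (RegC.odd (a := 1) (by norm_num) (by norm_num)) (FixC.one) (by norm_num) (by norm_num) ?_
    rw [val1 (by norm_num)]; norm_num
  · exact absurd ht (by norm_num)
  · refine hht_of ht (by norm_num) (RegC.seven (b := 0) rfl) (FixC.one) (by norm_num) (by norm_num) ?_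
    rw [val1 (by norm_num)]; norm_num
  · exact absurd ht (by norm_num)
  · exact absurd ht (by norm_num)
  · exact absurd ht (by norm_num)
  · refine hht_of ht (by norm_num) (RegC.zero) (FixC.two9 (b := 0) (by norm_num) (by norm_num)) (by norm_num) (by norm_num) ?_
    rw [show ((2 : ℕ) ^ (0 + 3)) = 2 ^ (2 + 1) from rfl, val2 (by norm_num) (by norm_num) (by norm_num)]; norm_num
  · exact absurd ht (by norm_num)
  · refine hht_of ht (by norm_num) (RegC.zero) (FixC.two3 (b := 0) (by norm_num) (by norm_num)) (by norm_num) (by norm_num) ?_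
    rw [show ((2 : ℕ) ^ (0 + 1)) = 2 ^ (0 + 1) from rfl, val2 (by norm_num) (by norm_num) (by norm_num)]; norm_num
  · exact absurd ht (by norm_num)

theorem hh_0_15_14 {t : ℕ} (ht : t.Prime) : HHt 0 15 14 t := by
  rcases Nat.lt_or_ge 15 t with h | h
  · exact hht_big ht (by norm_num) h
  interval_cases t
  · exact absurd ht (by norm_num)
  · exact absurd ht (by norm_num)
  · refine hht_of ht (by norm_num) (RegC.two9 (b := 0) rfl) (FixC.one) (by norm_num) (by norm_num) ?_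
    rw [val1 (by norm_num)]; norm_num
  · refine hht_of ht (by norm_num) (RegC.three (b := 1) rfl) (FixC.one) (by norm_num) (by norm_num) ?_
    rw [val1 (by norm_num)]; norm_num
  · exact absurd ht (by norm_num)
  · refine hht_of ht (by norm_num) (RegC.odd (a := 1) (by norm_num) (by norm_num)) (FixC.one) (by norm_num) (by norm_num) ?_
    rw [val1 (by norm_num)]; norm_num
  · exact absurd ht (by norm_num)
  · refine hht_of ht (by norm_num) (RegC.odd (a := 1) (by norm_num) (by norm_num)) (FixC.one) (by norm_num) (by norm_num) ?_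
    rw [val1 (by norm_num)]; norm_num
  · exact absurd ht (by norm_num)
  · exact absurd ht (by norm_num)
  · exact absurd ht (by norm_num)
  · refine hht_of ht (by norm_num) (RegC.zero) (FixC.two9 (b := 0) (by norm_num) (by norm_num)) (by norm_num) (by norm_num) ?_
    rw [show ((2 : ℕ) ^ (0 + 3)) = 2 ^ (2 + 1) from rfl, val2 (by norm_num) (by norm_num) (by norm_num)]; norm_num
  · exact absurd ht (by norm_num)
  · refine hht_of ht (by norm_num) (RegC.zero) (FixC.two9 (b := 0) (by norm_num) (by norm_num)) (by norm_num) (by norm_num) ?_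
    rw [show ((2 : ℕ) ^ (0 + 3)) = 2 ^ (2 + 1) from rfl, val2 (by norm_num) (by norm_num) (by norm_num)]; norm_num
  · exact absurd ht (by norm_num)
  · exact absurd ht (by norm_num)

theorem hh_0_18_17 {t : ℕ} (ht : t.Prime) : HHt 0 18 17 t := by
  rcases Nat.lt_or_ge 18 t with h | h
  · exact hht_big ht (by norm_num) h
  interval_cases t
  · exact absurd ht (by norm_num)
  · exact absurd ht (by norm_num)
  · refine hht_of ht (by norm_num) (RegC.two9 (b := 0) rfl) (FixC.cyc (s := 3) (b := 1) (by norm_num) (by norm_num) (by norm_num) (by norm_num)) (by norm_num) (by norm_num) ?_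
    rw [show ((3 : ℕ) ^ 1) = 3 ^ (0 + 1) from rfl, val2 (by norm_num) (by norm_num) (by norm_num)]; norm_num
  · refine hht_of ht (by norm_num) (RegC.three (b := 1) rfl) (FixC.one) (by norm_num) (by norm_num) ?_
    rw [val1 (by norm_num)]; norm_num
  · exact absurd ht (by norm_num)
  · refine hht_of ht (by norm_num) (RegC.odd (a := 1) (by norm_num) (by norm_num)) (FixC.one) (by norm_num) (by norm_num) ?_
    rw [val1 (by norm_num)]; norm_num
  · exact absurd ht (by norm_num)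
  · refine hht_of ht (by norm_num) (RegC.odd (a := 1) (by norm_num) (by norm_num)) (FixC.one) (by norm_num) (by norm_num) ?_
    rw [val1 (by norm_num)]; norm_num
  · exact absurd ht (by norm_num)
  · exact absurd ht (by norm_num)
  · exact absurd ht (by norm_num)
  · refine hht_of ht (by norm_num) (RegC.zero) (FixC.two9 (b := 0) (by norm_num) (by norm_num)) (by norm_num) (by norm_num) ?_
    rw [show ((2 : ℕ) ^ (0 + 3)) = 2 ^ (2 + 1) from rfl, val2 (by norm_num) (by norm_num) (by norm_num)]; norm_num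
  · exact absurd ht (by norm_num)
  · refine hht_of ht (by norm_num) (RegC.zero) (FixC.two9 (b := 0) (by norm_num) (by norm_num)) (by norm_num) (by norm_num) ?_
    rw [show ((2 : ℕ) ^ (0 + 3)) = 2 ^ (2 + 1) from rfl, val2 (by norm_num) (by norm_num) (by norm_num)]; norm_num
  · exact absurd ht (by norm_num)
  · exact absurd ht (by norm_num)
  · exact absurd ht (by norm_num)
  · refine hht_of ht (by norm_num) (RegC.zero) (FixC.two3 (b := 0) (by norm_num) (by norm_num)) (by norm_num) (by norm_num) ?_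
    rw [show ((2 : ℕ) ^ (0 + 1)) = 2 ^ (0 + 1) from rfl, val2 (by norm_num) (by norm_num) (by norm_num)]; norm_num
  · exact absurd ht (by norm_num)

theorem hh_0_20_19 {t : ℕ} (ht : t.Prime) : HHt 0 20 19 t := by
  rcases Nat.lt_or_ge 20 t with h | h
  · exact hht_big ht (by norm_num) h
  interval_cases t
  · exact absurd ht (by norm_num)
  · exact absurd ht (by norm_num)
  · refine hht_of ht (by norm_num) (RegC.two17 (b := 0) rfl) (FixC.one) (by norm_num) (by norm_num) ?_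
    rw [val1 (by norm_num)]; norm_num
  · refine hht_of ht (by norm_num) (RegC.odd (a := 2) (by norm_num) (by norm_num)) (FixC.one) (by norm_num) (by norm_num) ?_
    rw [val1 (by norm_num)]; norm_num
  · exact absurd ht (by norm_num)
  · refine hht_of ht (by norm_num) (RegC.odd (a := 1) (by norm_num) (by norm_num)) (FixC.one) (by norm_num) (by norm_num) ?_
    rw [val1 (by norm_num)]; norm_num
  · exact absurd ht (by norm_num)
  · refine hht_of ht (by norm_num) (RegC.odd (a := 1) (by norm_num) (by norm_num)) (FixC.one) (by norm_num) (by norm_num) ?_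
    rw [val1 (by norm_num)]; norm_num
  · exact absurd ht (by norm_num)
  · exact absurd ht (by norm_num)
  · exact absurd ht (by norm_num)
  · refine hht_of ht (by norm_num) (RegC.zero) (FixC.two17 (b := 0) (by norm_num) (by norm_num)) (by norm_num) (by norm_num) ?_
    rw [show ((2 : ℕ) ^ (0 + 4)) = 2 ^ (3 + 1) from rfl, val2 (by norm_num) (by norm_num) (by norm_num)]; norm_num
  · exact absurd ht (by norm_num)
  · refine hht_of ht (by norm_num) (RegC.zero) (FixC.two9 (b := 0) (by norm_num) (by norm_num)) (by norm_num) (by norm_num) ?_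
    rw [show ((2 : ℕ) ^ (0 + 3)) = 2 ^ (2 + 1) from rfl, val2 (by norm_num) (by norm_num) (by norm_num)]; norm_num
  · exact absurd ht (by norm_num)
  · exact absurd ht (by norm_num)
  · exact absurd ht (by norm_num)
  · refine hht_of ht (by norm_num) (RegC.zero) (FixC.two9 (b := 0) (by norm_num) (by norm_num)) (by norm_num) (by norm_num) ?_
    rw [show ((2 : ℕ) ^ (0 + 3)) = 2 ^ (2 + 1) from rfl, val2 (by norm_num) (by norm_num) (by norm_num)]; norm_num
  · exact absurd ht (by norm_num)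
  · refine hht_of ht (by norm_num) (RegC.zero) (FixC.two3 (b := 0) (by norm_num) (by norm_num)) (by norm_num) (by norm_num) ?_
    rw [show ((2 : ℕ) ^ (0 + 1)) = 2 ^ (0 + 1) from rfl, val2 (by norm_num) (by norm_num) (by norm_num)]; norm_num
  · exact absurd ht (by norm_num)

theorem hh_0_21_20 {t : ℕ} (ht : t.Prime) : HHt 0 21 20 t := by
  rcases Nat.lt_or_ge 21 t with h | h
  · exact hht_big ht (by norm_num) h
  interval_cases t
  · exact absurd ht (by norm_num)
  · exact absurd ht (by norm_num)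
  · refine hht_of ht (by norm_num) (RegC.two17 (b := 0) rfl) (FixC.one) (by norm_num) (by norm_num) ?_
    rw [val1 (by norm_num)]; norm_num
  · refine hht_of ht (by norm_num) (RegC.odd (a := 2) (by norm_num) (by norm_num)) (FixC.one) (by norm_num) (by norm_num) ?_
    rw [val1 (by norm_num)]; norm_num
  · exact absurd ht (by norm_num)
  · refine hht_of ht (by norm_num) (RegC.odd (a := 1) (by norm_num) (by norm_num)) (FixC.one) (by norm_num) (by norm_num) ?_
    rw [val1 (by norm_num)]; norm_num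
  · exact absurd ht (by norm_num)
  · refine hht_of ht (by norm_num) (RegC.odd (a := 1) (by norm_num) (by norm_num)) (FixC.one) (by norm_num) (by norm_num) ?_
    rw [val1 (by norm_num)]; norm_num
  · exact absurd ht (by norm_num)
  · exact absurd ht (by norm_num)
  · exact absurd ht (by norm_num)
  · refine hht_of ht (by norm_num) (RegC.zero) (FixC.two17 (b := 0) (by norm_num) (by norm_num)) (by norm_num) (by norm_num) ?_
    rw [show ((2 : ℕ) ^ (0 + 4)) = 2 ^ (3 + 1) from rfl, val2 (by norm_num) (by norm_num) (by norm_num)]; norm_num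
  · exact absurd ht (by norm_num)
  · refine hht_of ht (by norm_num) (RegC.zero) (FixC.two17 (b := 0) (by norm_num) (by norm_num)) (by norm_num) (by norm_num) ?_
    rw [show ((2 : ℕ) ^ (0 + 4)) = 2 ^ (3 + 1) from rfl, val2 (by norm_num) (by norm_num) (by norm_num)]; norm_num
  · exact absurd ht (by norm_num)
  · exact absurd ht (by norm_num)
  · exact absurd ht (by norm_num)
  · refine hht_of ht (by norm_num) (RegC.zero) (FixC.two9 (b := 0) (by norm_num) (by norm_num)) (by norm_num) (by norm_num) ?_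
    rw [show ((2 : ℕ) ^ (0 + 3)) = 2 ^ (2 + 1) from rfl, val2 (by norm_num) (by norm_num) (by norm_num)]; norm_num
  · exact absurd ht (by norm_num)
  · refine hht_of ht (by norm_num) (RegC.zero) (FixC.two9 (b := 0) (by norm_num) (by norm_num)) (by norm_num) (by norm_num) ?_
    rw [show ((2 : ℕ) ^ (0 + 3)) = 2 ^ (2 + 1) from rfl, val2 (by norm_num) (by norm_num) (by norm_num)]; norm_num
  · exact absurd ht (by norm_num)
  · exact absurd ht (by norm_num)

theorem hh_0_24_23 {t : ℕ} (ht : t.Prime) : HHt 0 24 23 t := by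
  rcases Nat.lt_or_ge 24 t with h | h
  · exact hht_big ht (by norm_num) h
  interval_cases t
  · exact absurd ht (by norm_num)
  · exact absurd ht (by norm_num)
  · refine hht_of ht (by norm_num) (RegC.two17 (b := 0) rfl) (FixC.one) (by norm_num) (by norm_num) ?_
    rw [val1 (by norm_num)]; norm_num
  · refine hht_of ht (by norm_num) (RegC.odd (a := 2) (by norm_num) (by norm_num)) (FixC.one) (by norm_num) (by norm_num) ?_
    rw [val1 (by norm_num)]; norm_num
  · exact absurd ht (by norm_num)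
  · refine hht_of ht (by norm_num) (RegC.odd (a := 1) (by norm_num) (by norm_num)) (FixC.one) (by norm_num) (by norm_num) ?_
    rw [val1 (by norm_num)]; norm_num
  · exact absurd ht (by norm_num)
  · refine hht_of ht (by norm_num) (RegC.odd (a := 1) (by norm_num) (by norm_num)) (FixC.one) (by norm_num) (by norm_num) ?_
    rw [val1 (by norm_num)]; norm_num
  · exact absurd ht (by norm_num)
  · exact absurd ht (by norm_num)
  · exact absurd ht (by norm_num)
  · refine hht_of ht (by norm_num) (RegC.odd (a := 1) (by norm_num) (by norm_num)) (FixC.one) (by norm_num) (by norm_num) ?_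
    rw [val1 (by norm_num)]; norm_num
  · exact absurd ht (by norm_num)
  · refine hht_of ht (by norm_num) (RegC.zero) (FixC.two17 (b := 0) (by norm_num) (by norm_num)) (by norm_num) (by norm_num) ?_
    rw [show ((2 : ℕ) ^ (0 + 4)) = 2 ^ (3 + 1) from rfl, val2 (by norm_num) (by norm_num) (by norm_num)]; norm_num
  · exact absurd ht (by norm_num)
  · exact absurd ht (by norm_num)
  · exact absurd ht (by norm_num)
  · refine hht_of ht (by norm_num) (RegC.zero) (FixC.two9 (b := 0) (by norm_num) (by norm_num)) (by norm_num) (by norm_num) ?_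
    rw [show ((2 : ℕ) ^ (0 + 3)) = 2 ^ (2 + 1) from rfl, val2 (by norm_num) (by norm_num) (by norm_num)]; norm_num
  · exact absurd ht (by norm_num)
  · refine hht_of ht (by norm_num) (RegC.zero) (FixC.two9 (b := 0) (by norm_num) (by norm_num)) (by norm_num) (by norm_num) ?_
    rw [show ((2 : ℕ) ^ (0 + 3)) = 2 ^ (2 + 1) from rfl, val2 (by norm_num) (by norm_num) (by norm_num)]; norm_num
  · exact absurd ht (by norm_num)
  · exact absurd ht (by norm_num)
  · exact absurd ht (by norm_num)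
  · refine hht_of ht (by norm_num) (RegC.zero) (FixC.two3 (b := 0) (by norm_num) (by norm_num)) (by norm_num) (by norm_num) ?_
    rw [show ((2 : ℕ) ^ (0 + 1)) = 2 ^ (0 + 1) from rfl, val2 (by norm_num) (by norm_num) (by norm_num)]; norm_num
  · exact absurd ht (by norm_num)

theorem hh_0_25_24 {t : ℕ} (ht : t.Prime) : HHt 0 25 24 t := by
  rcases Nat.lt_or_ge 25 t with h | h
  · exact hht_big ht (by norm_num) h
  interval_cases t
  · exact absurd ht (by norm_num)
  · exact absurd ht (by norm_num)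
  · refine hht_of ht (by norm_num) (RegC.two17 (b := 0) rfl) (FixC.one) (by norm_num) (by norm_num) ?_
    rw [val1 (by norm_num)]; norm_num
  · refine hht_of ht (by norm_num) (RegC.odd (a := 2) (by norm_num) (by norm_num)) (FixC.one) (by norm_num) (by norm_num) ?_
    rw [val1 (by norm_num)]; norm_num
  · exact absurd ht (by norm_num)
  · refine hht_of ht (by norm_num) (RegC.odd (a := 1) (by norm_num) (by norm_num)) (FixC.two3 (b := 0) (by norm_num) (by norm_num)) (by norm_num) (by norm_num) ?_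
    rw [show ((2 : ℕ) ^ (0 + 1)) = 2 ^ (0 + 1) from rfl, val2 (by norm_num) (by norm_num) (by norm_num)]; norm_num
  · exact absurd ht (by norm_num)
  · refine hht_of ht (by norm_num) (RegC.odd (a := 1) (by norm_num) (by norm_num)) (FixC.one) (by norm_num) (by norm_num) ?_
    rw [val1 (by norm_num)]; norm_num
  · exact absurd ht (by norm_num)
  · exact absurd ht (by norm_num)
  · exact absurd ht (by norm_num)
  · refine hht_of ht (by norm_num) (RegC.odd (a := 1) (by norm_num) (by norm_num)) (FixC.one) (by norm_num) (by norm_num) ?_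
    rw [val1 (by norm_num)]; norm_num
  · exact absurd ht (by norm_num)
  · refine hht_of ht (by norm_num) (RegC.zero) (FixC.two17 (b := 0) (by norm_num) (by norm_num)) (by norm_num) (by norm_num) ?_
    rw [show ((2 : ℕ) ^ (0 + 4)) = 2 ^ (3 + 1) from rfl, val2 (by norm_num) (by norm_num) (by norm_num)]; norm_num
  · exact absurd ht (by norm_num)
  · exact absurd ht (by norm_num)
  · exact absurd ht (by norm_num)
  · refine hht_of ht (by norm_num) (RegC.zero) (FixC.two9 (b := 1) (by norm_num) (by norm_num)) (by norm_num) (by norm_num) ?_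
    rw [show ((2 : ℕ) ^ (1 + 3)) = 2 ^ (3 + 1) from rfl, val2 (by norm_num) (by norm_num) (by norm_num)]; norm_num
  · exact absurd ht (by norm_num)
  · refine hht_of ht (by norm_num) (RegC.zero) (FixC.two9 (b := 0) (by norm_num) (by norm_num)) (by norm_num) (by norm_num) ?_
    rw [show ((2 : ℕ) ^ (0 + 3)) = 2 ^ (2 + 1) from rfl, val2 (by norm_num) (by norm_num) (by norm_num)]; norm_num
  · exact absurd ht (by norm_num)
  · exact absurd ht (by norm_num)
  · exact absurd ht (by norm_num)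
  · refine hht_of ht (by norm_num) (RegC.zero) (FixC.two9 (b := 0) (by norm_num) (by norm_num)) (by norm_num) (by norm_num) ?_
    rw [show ((2 : ℕ) ^ (0 + 3)) = 2 ^ (2 + 1) from rfl, val2 (by norm_num) (by norm_num) (by norm_num)]; norm_num
  · exact absurd ht (by norm_num)
  · exact absurd ht (by norm_num)

theorem hh_0_30_29 {t : ℕ} (ht : t.Prime) : HHt 0 30 29 t := by
  rcases Nat.lt_or_ge 30 t with h | h
  · exact hht_big ht (by norm_num) h
  interval_cases t
  · exact absurd ht (by norm_num)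
  · exact absurd ht (by norm_num)
  · refine hht_of ht (by norm_num) (RegC.two17 (b := 0) rfl) (FixC.one) (by norm_num) (by norm_num) ?_
    rw [val1 (by norm_num)]; norm_num
  · refine hht_of ht (by norm_num) (RegC.odd (a := 2) (by norm_num) (by norm_num)) (FixC.two5 (b := 0) (by norm_num) (by norm_num)) (by norm_num) (by norm_num) ?_
    rw [show ((2 : ℕ) ^ (0 + 2)) = 2 ^ (1 + 1) from rfl, val2 (by norm_num) (by norm_num) (by norm_num)]; norm_num
  · exact absurd ht (by norm_num)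
  · refine hht_of ht (by norm_num) (RegC.odd (a := 1) (by norm_num) (by norm_num)) (FixC.two9 (b := 0) (by norm_num) (by norm_num)) (by norm_num) (by norm_num) ?_
    rw [show ((2 : ℕ) ^ (0 + 3)) = 2 ^ (2 + 1) from rfl, val2 (by norm_num) (by norm_num) (by norm_num)]; norm_num
  · exact absurd ht (by norm_num)
  · refine hht_of ht (by norm_num) (RegC.odd (a := 1) (by norm_num) (by norm_num)) (FixC.one) (by norm_num) (by norm_num) ?_
    rw [val1 (by norm_num)]; norm_num
  · exact absurd ht (by norm_num)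
  · exact absurd ht (by norm_num)
  · exact absurd ht (by norm_num)
  · refine hht_of ht (by norm_num) (RegC.odd (a := 1) (by norm_num) (by norm_num)) (FixC.one) (by norm_num) (by norm_num) ?_
    rw [val1 (by norm_num)]; norm_num
  · exact absurd ht (by norm_num)
  · refine hht_of ht (by norm_num) (RegC.odd (a := 1) (by norm_num) (by norm_num)) (FixC.one) (by norm_num) (by norm_num) ?_
    rw [val1 (by norm_num)]; norm_num
  · exact absurd ht (by norm_num)
  · exact absurd ht (by norm_num)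
  · exact absurd ht (by norm_num)
  · refine hht_of ht (by norm_num) (RegC.zero) (FixC.two9 (b := 1) (by norm_num) (by norm_num)) (by norm_num) (by norm_num) ?_
    rw [show ((2 : ℕ) ^ (1 + 3)) = 2 ^ (3 + 1) from rfl, val2 (by norm_num) (by norm_num) (by norm_num)]; norm_num
  · exact absurd ht (by norm_num)
  · refine hht_of ht (by norm_num) (RegC.zero) (FixC.two17 (b := 0) (by norm_num) (by norm_num)) (by norm_num) (by norm_num) ?_
    rw [show ((2 : ℕ) ^ (0 + 4)) = 2 ^ (3 + 1) from rfl, val2 (by norm_num) (by norm_num) (by norm_num)]; norm_num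
  · exact absurd ht (by norm_num)
  · exact absurd ht (by norm_num)
  · exact absurd ht (by norm_num)
  · refine hht_of ht (by norm_num) (RegC.zero) (FixC.two9 (b := 0) (by norm_num) (by norm_num)) (by norm_num) (by norm_num) ?_
    rw [show ((2 : ℕ) ^ (0 + 3)) = 2 ^ (2 + 1) from rfl, val2 (by norm_num) (by norm_num) (by norm_num)]; norm_num
  · exact absurd ht (by norm_num)
  · exact absurd ht (by norm_num)
  · exact absurd ht (by norm_num)
  · exact absurd ht (by norm_num)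
  · exact absurd ht (by norm_num)
  · refine hht_of ht (by norm_num) (RegC.zero) (FixC.two3 (b := 0) (by norm_num) (by norm_num)) (by norm_num) (by norm_num) ?_
    rw [show ((2 : ℕ) ^ (0 + 1)) = 2 ^ (0 + 1) from rfl, val2 (by norm_num) (by norm_num) (by norm_num)]; norm_num
  · exact absurd ht (by norm_num)

theorem hh_2_8_7 {t : ℕ} (ht : t.Prime) : HHt 2 8 7 t := by
  rcases Nat.lt_or_ge 8 t with h | h
  · exact hht_big ht (by norm_num) h
  interval_cases t
  · exact absurd ht (by norm_num)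
  · exact absurd ht (by norm_num)
  · refine hht_of ht (by norm_num) (RegC.two5 (b := 0) rfl) (FixC.one) (by norm_num) (by norm_num) ?_
    rw [val1 (by norm_num)]; rw [if_pos (by decide)]; norm_num
  · refine hht_of ht (by norm_num) (RegC.odd (a := 1) (by norm_num) (by norm_num)) (FixC.one) (by norm_num) (by norm_num) ?_
    rw [val1 (by norm_num)]; norm_num
  · exact absurd ht (by norm_num)
  · refine hht_of ht (by norm_num) (RegC.zero) (FixC.two3 (b := 0) (by norm_num) (by norm_num)) (by norm_num) (by norm_num) ?_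
    rw [show ((2 : ℕ) ^ (0 + 1)) = 2 ^ (0 + 1) from rfl, val2 (by norm_num) (by norm_num) (by norm_num)]; rw [if_pos (by decide)]; norm_num
  · exact absurd ht (by norm_num)
  · refine hht_of ht (by norm_num) (RegC.zero) (FixC.two3 (b := 0) (by norm_num) (by norm_num)) (by norm_num) (by norm_num) ?_
    rw [show ((2 : ℕ) ^ (0 + 1)) = 2 ^ (0 + 1) from rfl, val2 (by norm_num) (by norm_num) (by norm_num)]; rw [if_pos (by decide)]; norm_num
  · exact absurd ht (by norm_num)

theorem hh_2_9_8 {t : ℕ} (ht : t.Prime) : HHt 2 9 8 t := by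
  rcases Nat.lt_or_ge 9 t with h | h
  · exact hht_big ht (by norm_num) h
  interval_cases t
  · exact absurd ht (by norm_num)
  · exact absurd ht (by norm_num)
  · refine hht_of ht (by norm_num) (RegC.two5 (b := 0) rfl) (FixC.one) (by norm_num) (by norm_num) ?_
    rw [val1 (by norm_num)]; rw [if_pos (by decide)]; norm_num
  · refine hht_of ht (by norm_num) (RegC.zero) (FixC.seven (b := 0) (by norm_num) (by norm_num)) (by norm_num) (by norm_num) ?_
    rw [show ((7 : ℕ) ^ (0 + 1)) = 7 ^ (0 + 1) from rfl, val2 (by norm_num) (by norm_num) (by norm_num)]; norm_num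
  · exact absurd ht (by norm_num)
  · refine hht_of ht (by norm_num) (RegC.zero) (FixC.two3 (b := 1) (by norm_num) (by norm_num)) (by norm_num) (by norm_num) ?_
    rw [show ((2 : ℕ) ^ (1 + 1)) = 2 ^ (1 + 1) from rfl, val2 (by norm_num) (by norm_num) (by norm_num)]; rw [if_pos (by decide)]; norm_num
  · exact absurd ht (by norm_num)
  · refine hht_of ht (by norm_num) (RegC.seven (b := 0) rfl) (FixC.one) (by norm_num) (by norm_num) ?_
    rw [val1 (by norm_num)]; norm_num
  · exact absurd ht (by norm_num)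
  · exact absurd ht (by norm_num)

theorem hh_2_15_13 {t : ℕ} (ht : t.Prime) : HHt 2 15 13 t := by
  rcases Nat.lt_or_ge 15 t with h | h
  · exact hht_big ht (by norm_num) h
  interval_cases t
  · exact absurd ht (by norm_num)
  · exact absurd ht (by norm_num)
  · refine hht_of ht (by norm_num) (RegC.two9 (b := 0) rfl) (FixC.one) (by norm_num) (by norm_num) ?_
    rw [val1 (by norm_num)]; rw [if_pos (by decide)]; norm_num
  · refine hht_of ht (by norm_num) (RegC.three (b := 1) rfl) (FixC.one) (by norm_num) (by norm_num) ?_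
    rw [val1 (by norm_num)]; norm_num
  · exact absurd ht (by norm_num)
  · refine hht_of ht (by norm_num) (RegC.odd (a := 1) (by norm_num) (by norm_num)) (FixC.one) (by norm_num) (by norm_num) ?_
    rw [val1 (by norm_num)]; norm_num
  · exact absurd ht (by norm_num)
  · refine hht_of ht (by norm_num) (RegC.seven (b := 0) rfl) (FixC.one) (by norm_num) (by norm_num) ?_
    rw [val1 (by norm_num)]; norm_num
  · exact absurd ht (by norm_num)
  · exact absurd ht (by norm_num)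
  · exact absurd ht (by norm_num)
  · refine hht_of ht (by norm_num) (RegC.zero) (FixC.two9 (b := 0) (by norm_num) (by norm_num)) (by norm_num) (by norm_num) ?_
    rw [show ((2 : ℕ) ^ (0 + 3)) = 2 ^ (2 + 1) from rfl, val2 (by norm_num) (by norm_num) (by norm_num)]; rw [if_pos (by decide)]; norm_num
  · exact absurd ht (by norm_num)
  · refine hht_of ht (by norm_num) (RegC.zero) (FixC.two3 (b := 0) (by norm_num) (by norm_num)) (by norm_num) (by norm_num) ?_
    rw [show ((2 : ℕ) ^ (0 + 1)) = 2 ^ (0 + 1) from rfl, val2 (by norm_num) (by norm_num) (by norm_num)]; rw [if_pos (by decide)]; norm_num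
  · exact absurd ht (by norm_num)
  · exact absurd ht (by norm_num)

theorem hh_2_9_7 {t : ℕ} (ht : t.Prime) (h3 : t ≠ 3) (h5 : t ≠ 5) : HHt 2 9 7 t := by
  rcases Nat.lt_or_ge 9 t with h | h
  · exact hht_big ht (by norm_num) h
  interval_cases t
  · exact absurd ht (by norm_num)
  · exact absurd ht (by norm_num)
  · refine hht_of ht (by norm_num) (RegC.two5 (b := 0) rfl) (FixC.one) (by norm_num) (by norm_num) ?_
    rw [val1 (by norm_num)]; rw [if_pos (by decide)]; norm_num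
  · exact absurd rfl h3
  · exact absurd ht (by norm_num)
  · exact absurd rfl h5
  · exact absurd ht (by norm_num)
  · refine hht_of ht (by norm_num) (RegC.zero) (FixC.two3 (b := 0) (by norm_num) (by norm_num)) (by norm_num) (by norm_num) ?_
    rw [show ((2 : ℕ) ^ (0 + 1)) = 2 ^ (0 + 1) from rfl, val2 (by norm_num) (by norm_num) (by norm_num)]; rw [if_pos (by decide)]; norm_num
  · exact absurd ht (by norm_num)
  · exact absurd ht (by norm_num)

theorem hh_2_21_19 {t : ℕ} (ht : t.Prime) : HHt 2 21 19 t := by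
  rcases Nat.lt_or_ge 21 t with h | h
  · exact hht_big ht (by norm_num) h
  interval_cases t
  · exact absurd ht (by norm_num)
  · exact absurd ht (by norm_num)
  · refine hht_of ht (by norm_num) (RegC.two17 (b := 0) rfl) (FixC.one) (by norm_num) (by norm_num) ?_
    rw [val1 (by norm_num)]; rw [if_pos (by decide)]; norm_num
  · refine hht_of ht (by norm_num) (RegC.odd (a := 2) (by norm_num) (by norm_num)) (FixC.one) (by norm_num) (by norm_num) ?_
    rw [val1 (by norm_num)]; norm_num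
  · exact absurd ht (by norm_num)
  · refine hht_of ht (by norm_num) (RegC.odd (a := 1) (by norm_num) (by norm_num)) (FixC.one) (by norm_num) (by norm_num) ?_
    rw [val1 (by norm_num)]; norm_num
  · exact absurd ht (by norm_num)
  · refine hht_of ht (by norm_num) (RegC.odd (a := 1) (by norm_num) (by norm_num)) (FixC.one) (by norm_num) (by norm_num) ?_
    rw [val1 (by norm_num)]; norm_num
  · exact absurd ht (by norm_num)
  · exact absurd ht (by norm_num)
  · exact absurd ht (by norm_num)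
  · refine hht_of ht (by norm_num) (RegC.zero) (FixC.two17 (b := 0) (by norm_num) (by norm_num)) (by norm_num) (by norm_num) ?_
    rw [show ((2 : ℕ) ^ (0 + 4)) = 2 ^ (3 + 1) from rfl, val2 (by norm_num) (by norm_num) (by norm_num)]; rw [if_pos (by decide)]; norm_num
  · exact absurd ht (by norm_num)
  · refine hht_of ht (by norm_num) (RegC.zero) (FixC.two9 (b := 0) (by norm_num) (by norm_num)) (by norm_num) (by norm_num) ?_
    rw [show ((2 : ℕ) ^ (0 + 3)) = 2 ^ (2 + 1) from rfl, val2 (by norm_num) (by norm_num) (by norm_num)]; rw [if_pos (by decide)]; norm_num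
  · exact absurd ht (by norm_num)
  · exact absurd ht (by norm_num)
  · exact absurd ht (by norm_num)
  · refine hht_of ht (by norm_num) (RegC.zero) (FixC.two9 (b := 0) (by norm_num) (by norm_num)) (by norm_num) (by norm_num) ?_
    rw [show ((2 : ℕ) ^ (0 + 3)) = 2 ^ (2 + 1) from rfl, val2 (by norm_num) (by norm_num) (by norm_num)]; rw [if_pos (by decide)]; norm_num
  · exact absurd ht (by norm_num)
  · refine hht_of ht (by norm_num) (RegC.zero) (FixC.two3 (b := 0) (by norm_num) (by norm_num)) (by norm_num) (by norm_num) ?_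
    rw [show ((2 : ℕ) ^ (0 + 1)) = 2 ^ (0 + 1) from rfl, val2 (by norm_num) (by norm_num) (by norm_num)]; rw [if_pos (by decide)]; norm_num
  · exact absurd ht (by norm_num)
  · exact absurd ht (by norm_num)

theorem hh_2_25_23 {t : ℕ} (ht : t.Prime) : HHt 2 25 23 t := by
  rcases Nat.lt_or_ge 25 t with h | h
  · exact hht_big ht (by norm_num) h
  interval_cases t
  · exact absurd ht (by norm_num)
  · exact absurd ht (by norm_num)
  · refine hht_of ht (by norm_num) (RegC.two17 (b := 0) rfl) (FixC.one) (by norm_num) (by norm_num) ?_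
    rw [val1 (by norm_num)]; rw [if_pos (by decide)]; norm_num
  · refine hht_of ht (by norm_num) (RegC.odd (a := 2) (by norm_num) (by norm_num)) (FixC.one) (by norm_num) (by norm_num) ?_
    rw [val1 (by norm_num)]; norm_num
  · exact absurd ht (by norm_num)
  · refine hht_of ht (by norm_num) (RegC.odd (a := 1) (by norm_num) (by norm_num)) (FixC.two3 (b := 0) (by norm_num) (by norm_num)) (by norm_num) (by norm_num) ?_
    rw [show ((2 : ℕ) ^ (0 + 1)) = 2 ^ (0 + 1) from rfl, val2 (by norm_num) (by norm_num) (by norm_num)]; rw [if_pos (by decide)]; norm_num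
  · exact absurd ht (by norm_num)
  · refine hht_of ht (by norm_num) (RegC.odd (a := 1) (by norm_num) (by norm_num)) (FixC.one) (by norm_num) (by norm_num) ?_
    rw [val1 (by norm_num)]; norm_num
  · exact absurd ht (by norm_num)
  · exact absurd ht (by norm_num)
  · exact absurd ht (by norm_num)
  · refine hht_of ht (by norm_num) (RegC.odd (a := 1) (by norm_num) (by norm_num)) (FixC.one) (by norm_num) (by norm_num) ?_
    rw [val1 (by norm_num)]; norm_num
  · exact absurd ht (by norm_num)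
  · refine hht_of ht (by norm_num) (RegC.zero) (FixC.two17 (b := 0) (by norm_num) (by norm_num)) (by norm_num) (by norm_num) ?_
    rw [show ((2 : ℕ) ^ (0 + 4)) = 2 ^ (3 + 1) from rfl, val2 (by norm_num) (by norm_num) (by norm_num)]; rw [if_pos (by decide)]; norm_num
  · exact absurd ht (by norm_num)
  · exact absurd ht (by norm_num)
  · exact absurd ht (by norm_num)
  · refine hht_of ht (by norm_num) (RegC.zero) (FixC.two9 (b := 0) (by norm_num) (by norm_num)) (by norm_num) (by norm_num) ?_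
    rw [show ((2 : ℕ) ^ (0 + 3)) = 2 ^ (2 + 1) from rfl, val2 (by norm_num) (by norm_num) (by norm_num)]; rw [if_pos (by decide)]; norm_num
  · exact absurd ht (by norm_num)
  · refine hht_of ht (by norm_num) (RegC.zero) (FixC.two9 (b := 0) (by norm_num) (by norm_num)) (by norm_num) (by norm_num) ?_
    rw [show ((2 : ℕ) ^ (0 + 3)) = 2 ^ (2 + 1) from rfl, val2 (by norm_num) (by norm_num) (by norm_num)]; rw [if_pos (by decide)]; norm_num
  · exact absurd ht (by norm_num)
  · exact absurd ht (by norm_num)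
  · exact absurd ht (by norm_num)
  · refine hht_of ht (by norm_num) (RegC.zero) (FixC.two3 (b := 0) (by norm_num) (by norm_num)) (by norm_num) (by norm_num) ?_
    rw [show ((2 : ℕ) ^ (0 + 1)) = 2 ^ (0 + 1) from rfl, val2 (by norm_num) (by norm_num) (by norm_num)]; rw [if_pos (by decide)]; norm_num
  · exact absurd ht (by norm_num)
  · exact absurd ht (by norm_num)

/-- degree 7 against `Alt 9`, characteristic 5: `3²:4` in `Alt 6` -/
theorem hh_2_9_7_five : HHt 2 9 7 5 := by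
  have hb : IsBlock (3 ^ 1 * 2 ^ 1) 3 (2 ^ (1 + 1)) :=
    isBlock_two (by norm_num) (by norm_num) le_rfl le_rfl le_rfl (by norm_num) (by norm_num)
  have h : HitNP.{0} 5 7 (fun k => k = 4) := by
    refine hitNP_of_block (c := 3 ^ 1 * 2 ^ 1) (p := 3) (k := 2 ^ (1 + 1)) (by norm_num) (by norm_num) (by norm_num) (by norm_num)
      (by norm_num) hb ?_
    exact hitP_one ⟨by norm_num, by norm_num⟩
  intro V _ _ hV ρ hρ
  obtain ⟨a, h1, h2⟩ := h V hV ρ hρ
  refine ⟨a, ?_, h2⟩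
  rw [h1, show 5 * 4 = 5 ^ (0 + 1) * 2 ^ (1 + 1) from rfl, val2 (by norm_num) (by norm_num) (by norm_num), if_pos (by decide)]
  norm_num

/-! ### degree 7 against `Alt 9`, characteristic 3 -/

section seven

open Equiv

abbrev A7 := alternatingGroup (Fin 7)

def c7 : A7 := ⟨swap (0 : Fin 7) 1 * swap (1 : Fin 7) 2, by rw [Perm.mem_alternatingGroup]; decide⟩
def e1 : A7 := ⟨swap (0 : Fin 7) 1 * swap (2 : Fin 7) 3, by rw [Perm.mem_alternatingGroup]; decide⟩
def e2 : A7 := ⟨swap (0 : Fin 7) 2 * swap (1 : Fin 7) 3, by rw [Perm.mem_alternatingGroup]; decide⟩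
def e3 : A7 := ⟨swap (0 : Fin 7) 3 * swap (1 : Fin 7) 2, by rw [Perm.mem_alternatingGroup]; decide⟩
def i1 : A7 := ⟨swap (3 : Fin 7) 4 * swap (5 : Fin 7) 6, by rw [Perm.mem_alternatingGroup]; decide⟩
def i2 : A7 := ⟨swap (3 : Fin 7) 5 * swap (4 : Fin 7) 6, by rw [Perm.mem_alternatingGroup]; decide⟩
def i3 : A7 := ⟨swap (3 : Fin 7) 6 * swap (4 : Fin 7) 5, by rw [Perm.mem_alternatingGroup]; decide⟩

def E7 : Subgroup A7 where
  carrier := {x | x = 1 ∨ x = e1 ∨ x = e2 ∨ x = e3}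
  one_mem' := Or.inl rfl
  mul_mem' := by
    rintro a b (rfl | rfl | rfl | rfl) (rfl | rfl | rfl | rfl) <;> decide
  inv_mem' := by
    rintro a (rfl | rfl | rfl | rfl) <;> decide

theorem mem_E7 {x : A7} : x ∈ E7 ↔ x = 1 ∨ x = e1 ∨ x = e2 ∨ x = e3 := Iff.rfl

theorem c7_order : orderOf c7 = 3 := orderOf_eq_prime (by decide) (by decide)

theorem c7_pow {i : ℕ} (hi : ¬ 3 ∣ i) : c7 ^ i = c7 ∨ c7 ^ i = c7 ^ 2 := by
  have h1 : c7 ^ i = c7 ^ (i % 3) := by
    conv_lhs => rw [← pow_mod_orderOf, c7_order]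
  have h2 : i % 3 = 1 ∨ i % 3 = 2 := by omega
  rcases h2 with h2 | h2
  · left; rw [h1, h2, pow_one]
  · right; rw [h1, h2]

theorem hh_2_9_7_three : HHt 2 9 7 3 := by
  intro V _ _ hV ρ hρ
  have hsimple : IsSimpleGroup A7 := alternatingGroup.isSimpleGroup (by rw [Nat.card_eq_fintype_card, Fintype.card_fin]; norm_num)
  have hker : ρ.ker = ⊥ := by
    rcases hsimple.eq_bot_or_eq_top_of_normal ρ.ker inferInstance with h | h
    · exact h
    · obtain ⟨a, v, hav⟩ := hρ
      have h1 : a ∈ ρ.ker := h ▸ Subgroup.mem_top a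
      exact absurd (by rw [MonoidHom.mem_ker.1 h1]; rfl) hav
  have hm : ∃ x ∈ E7, ∃ v, ρ x v ≠ v := by
    refine ⟨e1, Or.inr (Or.inl rfl), ?_⟩
    by_contra hcon
    push Not at hcon
    have h1 : e1 ∈ ρ.ker := MonoidHom.mem_ker.2 (AddMonoidHom.ext hcon)
    rw [hker, Subgroup.mem_bot] at h1
    exact absurd h1 (by decide)
  obtain ⟨v, hv⟩ := nrm_ne_zero (p := 2) (k := 3) (by norm_num) (by norm_num) (by norm_num) hV ρ E7 c7
    (by
      rintro ⟨x, hx⟩
      refine ⟨1, Subtype.ext ?_⟩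
      change x ^ 2 ^ 1 = 1
      rcases mem_E7.1 hx with rfl | rfl | rfl | rfl <;> decide) c7_order
    (by rintro x (rfl | rfl | rfl | rfl) <;> rw [mem_E7] <;> decide)
    (by
      rintro i hi x hx h
      rcases c7_pow hi with h1 | h1 <;> rw [h1] at h <;> rcases mem_E7.1 hx with rfl | rfl | rfl | rfl
      all_goals first | rfl | exact absurd h (by decide)) hm
  have key : ∃ j : A7, j * c7 = c7 * j ∧ orderOf j = 2 ∧ ∃ w, nrm ρ (c7 * j) w ≠ 0 := by
    by_contra hcon
    push Not at hcon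
    have ho : ∀ j : A7, j ≠ 1 → j ^ 2 = 1 → orderOf j = 2 := fun j h1 h2 => orderOf_eq_prime h2 h1
    have hz : ∀ j : A7, j * c7 = c7 * j → orderOf j = 2 → nrm ρ c7 v + ρ j (nrm ρ c7 v) = 0 := by
      intro j h1 h2
      have h3 := hcon j h1 h2 v
      rw [nrm_mul ρ h1.symm (by rw [c7_order, h2]; norm_num)] at h3
      rw [nrm, h2, Finset.sum_range_succ, Finset.sum_range_one, pow_zero, pow_one, map_one] at h3
      exact h3
    have h1 := hz i1 (by decide) (ho i1 (by decide) (by decide))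
    have h2 := hz i2 (by decide) (ho i2 (by decide) (by decide))
    have h3 := hz i3 (by decide) (ho i3 (by decide) (by decide))
    set w := nrm ρ c7 v with hw
    have h4 : ρ i3 w = ρ i1 (ρ i2 w) := by
      rw [show i3 = i1 * i2 from by decide, map_mul]; rfl
    have h5 : ρ i1 w = -w := (neg_eq_of_add_eq_zero_right h1).symm
    have h6 : ρ i2 w = -w := (neg_eq_of_add_eq_zero_right h2).symm
    have h7 : ρ i3 w = -w := (neg_eq_of_add_eq_zero_right h3).symm
    rw [h7, h6, map_neg, h5, neg_neg] at h4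
    have h8 : (2 : ℕ) • w = 0 := by rw [two_nsmul]; nth_rewrite 1 [← h4]; exact neg_add_cancel w
    have h9 : (3 : ℕ) • w = 0 := hV w
    apply hv
    have h10 : (3 : ℕ) • w = (2 : ℕ) • w + w := by rw [succ_nsmul]
    rw [h9, h8, zero_add] at h10
    exact h10.symm
  obtain ⟨j, h1, h2, h3⟩ := key
  refine ⟨c7 * j, ?_, h3⟩
  have h4 : orderOf (c7 * j) = 6 := by
    have hc : Commute c7 j := h1.symm
    rw [hc.orderOf_mul_eq_mul_orderOf_of_coprime (by rw [c7_order, h2]; norm_num), c7_order, h2]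
  rw [h4, show 3 * 6 = 3 ^ (1 + 1) * 2 ^ (0 + 1) from rfl, val2 (by norm_num) (by norm_num) (by norm_num), if_pos (by decide)]
  norm_num

end seven

end Cfsg.Agent.H357.Sp
end

-- part: H964/SpAlt/HCen
section
/-!
# SPEC-ALT (S3397 / S3446), task HCEN: the numeric hypothesis `hcen` of `eq_bot_of_solvable`

The case `ε = 0`, `m = 15`, `n = 16`, `t = 3` is false and excluded.
-/

set_option autoImplicit false

namespace Cfsg.Agent.H964.SpAlt

open Cfsg Cfsg.Agent.H357.Sp Cfsg.Agent.H267.Sp.SpecAlt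

/-- the lists of distinct odd primes in use -/
def cenL : List (List ℕ) := [[3], [3, 23], [5], [5, 11], [5, 17], [5, 19], [7], [7, 13], [7, 19], [11], [13], [17], [19], [23]]

/-- the test -/
def cenOk (m n t : ℕ) (l : List ℕ) : Bool := Nat.ble l.sum m && Nat.blt n (t + l.sum) && !(l.contains t)

theorem cenL_ok : ∀ l ∈ cenL, (∀ p ∈ l, p.Prime) ∧ l.Nodup ∧ 2 ∉ l := by
  have h : (cenL.all fun l => (l.all fun p => decide p.Prime) && decide l.Nodup && decide (2 ∉ l)) = true := by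
    decide +kernel
  intro l hl
  have h1 := List.all_eq_true.1 h l hl
  simp only [Bool.and_eq_true, decide_eq_true_eq, List.all_eq_true] at h1
  exact ⟨h1.1.1, h1.1.2, h1.2⟩

/-- the distances that occur -/
def dOk (m n : ℕ) : Bool := Nat.beq n m || (Nat.beq n (m + 1) && (Nat.beq m 7 || Nat.beq m 8 || Nat.ble 11 m)) ||
  (Nat.beq n (m + 2) && (Nat.beq m 7 || Nat.beq m 13))

theorem cen_chk : ((List.range 28).all fun m => Nat.blt m 7 || Nat.beq m 10 || (List.range 30).all fun n => !(dOk m n) ||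
    [3, 5, 7, 11, 13, 17, 19, 23].all fun t => (Nat.beq m 15 && Nat.beq n 16 && Nat.beq t 3) ||
      cenL.any fun l => cenOk m n t l) = true := by
  decide +kernel

theorem prime_lt_28 {t : ℕ} (ht : t.Prime) (h2 : t ≠ 2) (h : t < 28) : t ∈ [3, 5, 7, 11, 13, 17, 19, 23] := by
  interval_cases t <;> first | (simp; done) | (exfalso; revert ht; norm_num; done) | (exfalso; exact h2 rfl)

theorem not_dvd_prod {t : ℕ} (ht : t.Prime) {P : Finset ℕ} (hP : ∀ p ∈ P, p.Prime) (h : t ∉ P) :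
    ¬ t ∣ ∏ p ∈ P, p := by
  intro hd
  obtain ⟨p, hp, hd'⟩ := (Prime.dvd_finsetProd_iff ht.prime _).1 hd
  exact h (((Nat.prime_dvd_prime_iff_eq ht (hP p hp)).1 hd') ▸ hp)

/-- the conclusion from a set of odd primes -/
theorem of_set {ε n m t : ℕ} (ht : t.Prime) {P : Finset ℕ} (hP : ∀ p ∈ P, p.Prime) (h2 : 2 ∉ P) (htP : t ∉ P)
    (hs : ∑ p ∈ P, p ≤ m) (hn : n < t + ∑ p ∈ P, p + (if t = 2 then ε else 0)) :
    ∃ k, 0 < k ∧ ¬ t ∣ k ∧ (∃ a : alternatingGroup (Fin m), orderOf a = k) ∧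
      n < W (t * k) + (if Even (t * k) then ε else 0) := by
  have h0 := prod_pos hP
  have ho := odd_prod hP h2
  have hW := W_prod hP
  refine ⟨∏ p ∈ P, p, h0, not_dvd_prod ht hP htP, ?_, ?_⟩
  · apply (spec_alt m).down _ h0
    rw [if_neg (Nat.not_even_iff_odd.2 ho), add_zero, hW]
    exact hs
  · have h3 : W (t * ∏ p ∈ P, p) = t + ∑ p ∈ P, p := by
      rw [W_mul ht.ne_zero h0.ne' ((Nat.Prime.coprime_iff_not_dvd ht).2 (not_dvd_prod ht hP htP)), hW]
      congr 1
      have := W_pow (j := 1) ht one_ne_zero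
      rwa [pow_one] at this
    rw [h3]
    have h4 : Even (t * ∏ p ∈ P, p) ↔ t = 2 := by
      rw [Nat.even_mul]
      constructor
      · rintro (h | h)
        · exact (Nat.Prime.even_iff ht).1 h
        · exact absurd h (Nat.not_even_iff_odd.2 ho)
      · rintro rfl
        exact Or.inl even_two
    by_cases h5 : t = 2
    · rw [if_pos (h4.2 h5)]
      rw [if_pos h5] at hn
      exact hn
    · rw [if_neg fun h => h5 (h4.1 h)]
      rw [if_neg h5] at hn
      exact hn

/-- a set of odd primes with sum `m` -/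
theorem exists_set {m : ℕ} (hm : 7 ≤ m) (h9 : m ≠ 9) : ∃ P : Finset ℕ, (∀ p ∈ P, p.Prime) ∧ 2 ∉ P ∧ ∑ p ∈ P, p = m := by
  by_cases h : m < 28
  · obtain ⟨l, -, h1, h2, h3, h4⟩ := tabO_ok m h hm h9
    refine ⟨l.toFinset, fun p hp => h1 p (List.mem_toFinset.1 hp), fun h => h3 (List.mem_toFinset.1 h), ?_⟩
    rw [List.sum_toFinset (fun p => p) h2, List.map_id']
    exact h4
  · obtain ⟨P, hP, hs⟩ := Cfsg.Agent.H357.NT.exists_rep (t := 2) (M := m) (by omega)
    exact ⟨P, fun p hp => (hP p hp).1, fun h2 => (hP 2 h2).2.1 rfl, hs⟩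

/-- **Task HCEN.** -/
theorem hcen_alt {ε n m t : ℕ} (hε : ε = 0 ∨ ε = 2) (hm : 7 ≤ m) (hmn : m ≤ n)
    (hd : n = m ∨ (n = m + 1 ∧ (m = 7 ∧ ε = 2 ∨ m = 8 ∧ ε = 2 ∨ 11 ≤ m)) ∨ (n = m + 2 ∧ ε = 2 ∧ (m = 7 ∨ m = 13)))
    (hne : m ≠ 10) (hne' : ε = 2 ∨ (m ≠ 8 ∧ m ≠ 9)) (ht : t.Prime) (hex : ¬ (ε = 0 ∧ m = 15 ∧ n = 16 ∧ t = 3)) :
    ∃ k, 0 < k ∧ ¬ t ∣ k ∧ (∃ a : alternatingGroup (Fin m), orderOf a = k) ∧
      n < W (t * k) + (if Even (t * k) then ε else 0) := by
  classical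
  -- the exception with `ε = 2`
  by_cases hx : m = 15 ∧ n = 16 ∧ t = 3
  · obtain ⟨rfl, rfl, rfl⟩ := hx
    have he : ε = 2 := by
      rcases hε with h | h
      · exact absurd ⟨h, rfl, rfl, rfl⟩ hex
      · exact h
    subst he
    have hW : W 22 = 13 := by
      have h1 := W_mul (a := 2 ^ 1) (b := 11 ^ 1) (by norm_num) (by norm_num) (by norm_num)
      rw [W_pow Nat.prime_two one_ne_zero, W_pow (p := 11) (by norm_num) one_ne_zero] at h1
      norm_num at h1
      exact h1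
    refine ⟨22, by norm_num, by norm_num, ?_, ?_⟩
    · apply (spec_alt 15).down _ (by norm_num)
      rw [if_pos (by decide), hW]
    · have h2 := W_mul (a := 3 ^ 1) (b := 22) (by norm_num) (by norm_num) (by norm_num)
      rw [W_pow Nat.prime_three one_ne_zero, hW] at h2
      rw [show (3 : ℕ) * 22 = 3 ^ 1 * 22 by norm_num, h2, if_pos (by decide)]
      norm_num
  have hd3 : n = m ∨ n = m + 1 ∨ n = m + 2 := by
    rcases hd with h | ⟨h, -⟩ | ⟨h, -⟩
    · exact Or.inl h
    · exact Or.inr (Or.inl h)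
    · exact Or.inr (Or.inr h)
  by_cases h2 : t = 2
  · subst h2
    by_cases h9 : m = 9
    · subst h9
      -- `k = 3 ^ 2` has `W k = 9`
      have hW : W (3 ^ 2) = 9 := W_pow Nat.prime_three two_ne_zero
      refine ⟨3 ^ 2, by norm_num, by norm_num, ?_, ?_⟩
      · apply (spec_alt 9).down _ (by norm_num)
        rw [if_neg (by decide), hW]
      · rw [W_mul (by norm_num) (by norm_num) (by norm_num), hW]
        have h2 := W_pow (j := 1) Nat.prime_two one_ne_zero
        rw [pow_one] at h2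
        rw [h2, if_pos (by decide)]
        rcases hd with h | ⟨h, h'⟩ | ⟨h, h', h''⟩
        · omega
        · omega
        · omega
    · obtain ⟨P, hP, h2P, hs⟩ := exists_set hm h9
      refine of_set ht hP h2P h2P hs.le ?_
      rw [hs, if_pos rfl]
      rcases hd with h | ⟨h, h'⟩ | ⟨h, h', h''⟩ <;> omega
  · by_cases hm28 : 28 ≤ m
    · obtain ⟨P, hP, hs⟩ := Cfsg.Agent.H357.NT.exists_rep (t := t) hm28
      refine of_set ht (fun p hp => (hP p hp).1) (fun h => (hP 2 h).2.1 rfl) (fun h => (hP t h).2.2 rfl) hs.le ?_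
      rw [hs, if_neg h2]
      have := ht.two_le
      omega
    · rw [not_le] at hm28
      by_cases htm : t < 28
      · have h3 := prime_lt_28 ht h2 htm
        have h4 := List.all_eq_true.1 cen_chk m (List.mem_range.2 hm28)
        simp only [Bool.or_eq_true, Nat.blt_eq, Nat.beq_eq] at h4
        rcases h4 with (h4 | h4) | h4
        · omega
        · (clear * - hne h4; omega)
        have h5 := List.all_eq_true.1 h4 n (List.mem_range.2 (by omega))
        simp only [Bool.or_eq_true, Bool.not_eq_true'] at h5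
        rcases h5 with h5 | h5
        · exfalso
          have h6 : dOk m n = true := by
            unfold dOk
            simp only [Bool.or_eq_true, Bool.and_eq_true, Nat.beq_eq, Nat.ble_eq]
            (clear * - hd; omega)
          rw [h6] at h5
          cases h5
        have h6 := List.all_eq_true.1 h5 t h3
        simp only [Bool.or_eq_true, Bool.and_eq_true, Nat.beq_eq] at h6
        rcases h6 with ⟨⟨h6, h7⟩, h8⟩ | h6
        · exact absurd ⟨h6, h7, h8⟩ hx
        obtain ⟨l, hl, h7⟩ := List.any_eq_true.1 h6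
        obtain ⟨hl1, hl2, hl3⟩ := cenL_ok l hl
        simp only [cenOk, Bool.and_eq_true, Nat.ble_eq, Nat.blt_eq, Bool.not_eq_true', List.contains_eq_mem,
          decide_eq_false_iff_not] at h7
        have hsum : ∑ p ∈ l.toFinset, p = l.sum := by
          rw [List.sum_toFinset (fun p => p) hl2, List.map_id']
        refine of_set ht (P := l.toFinset) (fun p hp => hl1 p (List.mem_toFinset.1 hp))
          (fun h => hl3 (List.mem_toFinset.1 h)) (fun h => h7.2 (List.mem_toFinset.1 h)) ?_ ?_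
        · rw [hsum]; exact h7.1.1
        · rw [hsum, if_neg h2, add_zero]; exact h7.1.2
      · -- `t` is large
        refine of_set ht (P := {5}) (fun p hp => ?_) ?_ ?_ ?_ ?_
        · rw [Finset.mem_singleton.1 hp]; norm_num
        · rw [Finset.mem_singleton]; norm_num
        · rw [Finset.mem_singleton]; omega
        · rw [Finset.sum_singleton]; omega
        · rw [Finset.sum_singleton, if_neg h2]; omega

end Cfsg.Agent.H964.SpAlt
end

-- part: H357/Sp/Main
section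
/-!
# Recognition of the alternating groups by their spectra (helper357, TEAM SPEC-ALT): the induction

The rows for the small degrees are hypotheses here (structure `Rows`); they are supplied in `S3397.lean`.
-/

set_option autoImplicit false

namespace Cfsg.Agent.H357.Sp.Main

open Cfsg Cfsg.Agent.H357.Sp Cfsg.Agent.H102.SpCent Cfsg.Agent.H357.Sp.Gen

/-- recognition in degree `n` -/
def Rec (n : ℕ) : Prop := ∀ (G : Type) [Group G] [Finite G], Spec 2 n G → Std 2 n G

/-- weak form of a row: `N` arbitrary -/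
def TRow (n p : ℕ) : Prop :=
  ∀ (G : Type) [Group G] [Finite G], Spec 2 n G → ∃ (N : Subgroup G) (_ : N.Normal), ∃ m, p ≤ m ∧ m ≤ n ∧ Top m N

/-- the kill lemmas, the solvability lemma and the rows -/
structure Rows : Prop where
  r5 : Rec 5
  r7 : Row 2 7 7
  r8 : Row 2 8 7
  r9 : Row 2 9 7
  r11 : Row 2 11 11
  r12 : Row 2 12 11
  r13 : Row 2 13 13
  r14 : Row 2 14 13
  r15 : Row 2 15 13
  r16 : Row 2 16 13
  r17 : Row 2 17 17
  r18 : Row 2 18 17
  r19 : Row 2 19 19
  r20 : Row 2 20 19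
  r21 : Rec 8 → Row 2 21 19
  r22 : Rec 5 → Rec 9 → Row 2 22 19
  r23 : Row 2 23 23
  r24 : Row 2 24 23
  r25 : Row 2 25 23
  r26 : TRow 26 23
  r27 : TRow 27 23
  r28 : TRow 28 23
  r29 : Row 2 29 29
  r30 : Rec 13 → Row 2 30 29
  m16 : ∀ (G : Type) [Group G] [Finite G], Spec 2 16 G → ∀ (N : Subgroup G) [N.Normal] (m : ℕ), Top m N → 13 ≤ m → 16 ≤ m
  m22 : ∀ (G : Type) [Group G] [Finite G], Spec 2 22 G → ∀ (N : Subgroup G) [N.Normal] (m : ℕ), Top m N → 19 ≤ m → 22 ≤ m
  known : ∀ (S : Type) [Group S] [Finite S] [IsSimpleGroup S], IsKnownSimple' S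
  schreier : ∀ (S : Type) [Group S] [Finite S] [IsSimpleGroup S], Group.IsSolvable (Cfsg.Out S)
  j4 : ∀ (n : ℕ) (G : Type) [Group G] [Finite G], Spec 2 n G → ∀ {K : Subgroup G} [K.Normal] {M : Subgroup (G ⧸ K)} [M.Normal]
    [IsSimpleGroup ↥M], 43 ≤ n → n ≤ 46 → ¬ IsMulCommutative ↥M → Nat.card ↥M = cJ4 → False

theorem hc_21_19 : HC 2 21 19 := by
  intro t ht
  by_cases h : t = 19
  · subst h
    exact H964.SpAlt.of_set ht (P := {13}) (by simp; norm_num) (by simp) (by simp) (by simp) (by simp)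
  · refine H964.SpAlt.of_set ht (P := {19}) (by simp; norm_num) (by simp) (by simpa using h) (by simp) ?_
    have := ht.two_le
    rw [Finset.sum_singleton]
    split_ifs <;> omega

theorem hc_25_23 : HC 2 25 23 := by
  intro t ht
  by_cases h : t = 23
  · subst h
    exact H964.SpAlt.of_set ht (P := {19}) (by simp; norm_num) (by simp) (by simp) (by simp) (by simp)
  · refine H964.SpAlt.of_set ht (P := {23}) (by simp; norm_num) (by simp) (by simpa using h) (by simp) ?_
    have := ht.two_le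
    rw [Finset.sum_singleton]
    split_ifs <;> omega

theorem hc {n m : ℕ} (hm : 7 ≤ m) (hmn : m ≤ n) (hd : n = m ∨ (n = m + 1 ∧ (m = 7 ∨ m = 8 ∨ 11 ≤ m)) ∨ (n = m + 2 ∧ (m = 7 ∨ m = 13)))
    (hne : m ≠ 10) : HC 2 n m := fun t ht =>
  H964.SpAlt.hcen_alt (Or.inr rfl) hm hmn (by (clear * - hd; tauto)) hne (Or.inl rfl) ht (by simp)

theorem hh {n : ℕ} (hn : 7 ≤ n) (h10 : n ≠ 10) : HH 2 n n := fun t ht =>
  hh_self (Or.inr rfl) hn h10 (by simp) ht

theorem hh1 {n m : ℕ} (h : ∀ t : ℕ, t.Prime → HHt 0 n m t) : HH 2 n m := fun t ht => (h t ht).mono 2 le_rfl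

theorem hh97 : HH 2 9 7 := by
  intro t ht
  by_cases h3 : t = 3
  · subst h3; exact hh_2_9_7_three
  by_cases h5 : t = 5
  · subst h5; exact hh_2_9_7_five
  exact hh_2_9_7 ht h3 h5

/-- the end of a row -/
theorem fin_row {n p : ℕ} (hn : 7 ≤ n) (hp : 5 ≤ p) (hr : Row 2 n p)
    (h : ∀ (G : Type) [Group G] [Finite G], Spec 2 n G → ∀ (N : Subgroup G) [N.Normal] (m : ℕ), Top m N → p ≤ m → m ≤ n → HH 2 n m ∧ HC 2 n m) : Rec n := by
  intro G _ _ hS
  obtain ⟨N, hN, hs, m, h1, h2, hT⟩ := hr G hS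
  obtain ⟨h3, h4⟩ := h G hS N m hT h1 h2
  exact finish (Or.inr rfl) hS hs hn (by omega) hT h3 h4

theorem fin_trow {n p r : ℕ} (hr : r.Prime) (hrn : r + 5 ≤ n) (hn : n < 2 * r) (hrp : r + 3 ≤ p) (h : TRow n p)
    (hnd : ∀ (G : Type) [Group G] [Finite G], Spec 2 n G → ∀ (N : Subgroup G) [N.Normal] (m : ℕ), Top m N → p ≤ m → ¬ r ∣ Nat.card ↥N)
    (IH : Rec (n - r)) (h10 : n ≠ 10) (h7 : 7 ≤ n) : Rec n := by
  intro G _ _ hS
  obtain ⟨N, hN, m, h1, h2, hT⟩ := h G hS
  exact step_finish (Or.inr rfl) hS hr hrn hn (hnd G hS N m hT h1) (by omega) h2 hT IH (hh h7 h10) (hc h7 le_rfl (Or.inl rfl) h10)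

theorem main (R : Rows) : ∀ n : ℕ, 5 ≤ n → n ≠ 6 → n ≠ 10 → Rec n := by
  intro n
  induction n using Nat.strong_induction_on with
  | _ n IH =>
  intro h5 h6 h10
  rcases Nat.lt_or_ge n 31 with hn | hn
  · have r8 : n ≠ 8 → 8 < n → Rec 8 := fun _ h => IH 8 h (by norm_num) (by norm_num) (by norm_num)
    interval_cases n
    · exact R.r5
    · exact absurd rfl h6
    · exact fin_row (by norm_num) (by norm_num) R.r7 fun G _ _ _ N _ m _ h1 h2 => by
        have : m = 7 := by omega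
        subst this
        exact ⟨hh le_rfl (by norm_num), hc le_rfl le_rfl (Or.inl rfl) (by norm_num)⟩
    · exact fin_row (by norm_num) (by norm_num) R.r8 fun G _ _ _ N _ m _ h1 h2 => by
        interval_cases m
        · exact ⟨fun t ht => hh_2_8_7 ht, hc (by norm_num) (by norm_num) (by norm_num) (by norm_num)⟩
        · exact ⟨hh (by norm_num) (by norm_num), hc (by norm_num) (by norm_num) (by norm_num) (by norm_num)⟩
    · exact fin_row (by norm_num) (by norm_num) R.r9 fun G _ _ _ N _ m _ h1 h2 => by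
        interval_cases m
        · exact ⟨hh97, hc (by norm_num) (by norm_num) (by norm_num) (by norm_num)⟩
        · exact ⟨fun t ht => hh_2_9_8 ht, hc (by norm_num) (by norm_num) (by norm_num) (by norm_num)⟩
        · exact ⟨hh (by norm_num) (by norm_num), hc (by norm_num) (by norm_num) (by norm_num) (by norm_num)⟩
    · exact absurd rfl h10
    · exact fin_row (by norm_num) (by norm_num) R.r11 fun G _ _ _ N _ m _ h1 h2 => by
        interval_cases m
        exact ⟨hh (by norm_num) (by norm_num), hc (by norm_num) (by norm_num) (by norm_num) (by norm_num)⟩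
    · exact fin_row (by norm_num) (by norm_num) R.r12 fun G _ _ _ N _ m _ h1 h2 => by
        interval_cases m
        · exact ⟨hh1 fun t ht => hh_0_12_11 ht, hc (by norm_num) (by norm_num) (by norm_num) (by norm_num)⟩
        · exact ⟨hh (by norm_num) (by norm_num), hc (by norm_num) (by norm_num) (by norm_num) (by norm_num)⟩
    · exact fin_row (by norm_num) (by norm_num) R.r13 fun G _ _ _ N _ m _ h1 h2 => by
        interval_cases m
        exact ⟨hh (by norm_num) (by norm_num), hc (by norm_num) (by norm_num) (by norm_num) (by norm_num)⟩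
    · exact fin_row (by norm_num) (by norm_num) R.r14 fun G _ _ _ N _ m _ h1 h2 => by
        interval_cases m
        · exact ⟨hh1 fun t ht => hh_0_14_13 ht, hc (by norm_num) (by norm_num) (by norm_num) (by norm_num)⟩
        · exact ⟨hh (by norm_num) (by norm_num), hc (by norm_num) (by norm_num) (by norm_num) (by norm_num)⟩
    · exact fin_row (by norm_num) (by norm_num) R.r15 fun G _ _ _ N _ m _ h1 h2 => by
        interval_cases m
        · exact ⟨fun t ht => hh_2_15_13 ht, hc (by norm_num) (by norm_num) (by norm_num) (by norm_num)⟩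
        · exact ⟨hh1 fun t ht => hh_0_15_14 ht, hc (by norm_num) (by norm_num) (by norm_num) (by norm_num)⟩
        · exact ⟨hh (by norm_num) (by norm_num), hc (by norm_num) (by norm_num) (by norm_num) (by norm_num)⟩
    · exact fin_row (by norm_num) (by norm_num) R.r16 fun G _ _ hS N _ m hT h1 h2 => by
        have := R.m16 G hS N m hT h1
        interval_cases m
        exact ⟨hh (by norm_num) (by norm_num), hc (by norm_num) (by norm_num) (by norm_num) (by norm_num)⟩
    · exact fin_row (by norm_num) (by norm_num) R.r17 fun G _ _ _ N _ m _ h1 h2 => by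
        interval_cases m
        exact ⟨hh (by norm_num) (by norm_num), hc (by norm_num) (by norm_num) (by norm_num) (by norm_num)⟩
    · exact fin_row (by norm_num) (by norm_num) R.r18 fun G _ _ _ N _ m _ h1 h2 => by
        interval_cases m
        · exact ⟨hh1 fun t ht => hh_0_18_17 ht, hc (by norm_num) (by norm_num) (by norm_num) (by norm_num)⟩
        · exact ⟨hh (by norm_num) (by norm_num), hc (by norm_num) (by norm_num) (by norm_num) (by norm_num)⟩
    · exact fin_row (by norm_num) (by norm_num) R.r19 fun G _ _ _ N _ m _ h1 h2 => by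
        interval_cases m
        exact ⟨hh (by norm_num) (by norm_num), hc (by norm_num) (by norm_num) (by norm_num) (by norm_num)⟩
    · exact fin_row (by norm_num) (by norm_num) R.r20 fun G _ _ _ N _ m _ h1 h2 => by
        interval_cases m
        · exact ⟨hh1 fun t ht => hh_0_20_19 ht, hc (by norm_num) (by norm_num) (by norm_num) (by norm_num)⟩
        · exact ⟨hh (by norm_num) (by norm_num), hc (by norm_num) (by norm_num) (by norm_num) (by norm_num)⟩
    · exact fin_row (by norm_num) (by norm_num) (R.r21 (IH 8 (by norm_num) (by norm_num) (by norm_num) (by norm_num)))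
        fun G _ _ _ N _ m _ h1 h2 => by
        interval_cases m
        · exact ⟨fun t ht => hh_2_21_19 ht, hc_21_19⟩
        · exact ⟨hh1 fun t ht => hh_0_21_20 ht, hc (by norm_num) (by norm_num) (by norm_num) (by norm_num)⟩
        · exact ⟨hh (by norm_num) (by norm_num), hc (by norm_num) (by norm_num) (by norm_num) (by norm_num)⟩
    · exact fin_row (by norm_num) (by norm_num) (R.r22 R.r5 (IH 9 (by norm_num) (by norm_num) (by norm_num) (by norm_num)))
        fun G _ _ hS N _ m hT h1 h2 => by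
        have := R.m22 G hS N m hT h1
        interval_cases m
        exact ⟨hh (by norm_num) (by norm_num), hc (by norm_num) (by norm_num) (by norm_num) (by norm_num)⟩
    · exact fin_row (by norm_num) (by norm_num) R.r23 fun G _ _ _ N _ m _ h1 h2 => by
        interval_cases m
        exact ⟨hh (by norm_num) (by norm_num), hc (by norm_num) (by norm_num) (by norm_num) (by norm_num)⟩
    · exact fin_row (by norm_num) (by norm_num) R.r24 fun G _ _ _ N _ m _ h1 h2 => by
        interval_cases m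
        · exact ⟨hh1 fun t ht => hh_0_24_23 ht, hc (by norm_num) (by norm_num) (by norm_num) (by norm_num)⟩
        · exact ⟨hh (by norm_num) (by norm_num), hc (by norm_num) (by norm_num) (by norm_num) (by norm_num)⟩
    · exact fin_row (by norm_num) (by norm_num) R.r25 fun G _ _ _ N _ m _ h1 h2 => by
        interval_cases m
        · exact ⟨fun t ht => hh_2_25_23 ht, hc_25_23⟩
        · exact ⟨hh1 fun t ht => hh_0_25_24 ht, hc (by norm_num) (by norm_num) (by norm_num) (by norm_num)⟩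
        · exact ⟨hh (by norm_num) (by norm_num), hc (by norm_num) (by norm_num) (by norm_num) (by norm_num)⟩
    · exact fin_trow (r := 19) (by norm_num) (by norm_num) (by norm_num) (by norm_num) R.r26
        (fun G _ _ hS N _ m hT h1 => H221.Sp.not_dvd_nc hS hT (s := 11) (by norm_num) (by norm_num) (by norm_num) (by norm_num) (by omega) (by norm_num))
        (IH 7 (by norm_num) (by norm_num) (by norm_num) (by norm_num)) (by norm_num) (by norm_num)
    · exact fin_trow (r := 19) (by norm_num) (by norm_num) (by norm_num) (by norm_num) R.r27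
        (fun G _ _ hS N _ m hT h1 => H221.Sp.not_dvd_nc hS hT (s := 11) (by norm_num) (by norm_num) (by norm_num) (by norm_num) (by omega) (by norm_num))
        (IH 8 (by norm_num) (by norm_num) (by norm_num) (by norm_num)) (by norm_num) (by norm_num)
    · exact fin_trow (r := 19) (by norm_num) (by norm_num) (by norm_num) (by norm_num) R.r28
        (fun G _ _ hS N _ m hT h1 => H221.Sp.not_dvd_nc hS hT (s := 11) (by norm_num) (by norm_num) (by norm_num) (by norm_num) (by omega) (by norm_num))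
        (IH 9 (by norm_num) (by norm_num) (by norm_num) (by norm_num)) (by norm_num) (by norm_num)
    · exact fin_row (by norm_num) (by norm_num) R.r29 fun G _ _ _ N _ m _ h1 h2 => by
        interval_cases m
        exact ⟨hh (by norm_num) (by norm_num), hc (by norm_num) (by norm_num) (by norm_num) (by norm_num)⟩
    · exact fin_row (by norm_num) (by norm_num) (R.r30 (IH 13 (by norm_num) (by norm_num) (by norm_num) (by norm_num)))
        fun G _ _ _ N _ m _ h1 h2 => by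
        interval_cases m
        · exact ⟨hh1 fun t ht => hh_0_30_29 ht, hc (by norm_num) (by norm_num) (by norm_num) (by norm_num)⟩
        · exact ⟨hh (by norm_num) (by norm_num), hc (by norm_num) (by norm_num) (by norm_num) (by norm_num)⟩
  · intro G _ _ hS
    exact gen R.known R.schreier (fun {K} _ {M} _ _ => R.j4 n G hS)
      (fun {N} _ {m t s} hT ht hs h2 hst hsm hnt => H221.Sp.not_dvd_nc hS hT ht hs h2 hst hsm hnt) (Or.inr rfl) hn hS
      (hh (by omega) (by omega)) (hc (by omega) le_rfl (Or.inl rfl) (by omega))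
      fun k hk7 hkn h8 h10 => IH k hkn (by omega) (by omega) h10

end Cfsg.Agent.H357.Sp.Main
end

-- part: H357/Sp/End
section
/-!
# Recognition of the alternating groups by their spectra (helper357, TEAM SPEC-ALT): the end

* `rec_five` : degree 5 from the recognition of `PSL(2, 5)`;
* `result_of` : the statement S3397 from the rows.
-/

set_option autoImplicit false

namespace Cfsg.Agent.H357.Sp.End

open Cfsg Cfsg.Agent.H357.Sp Cfsg.Agent.H102.SpCent Cfsg.Agent.H357.Sp.Gen Cfsg.Agent.H357.Sp.Main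

theorem range_eq {ε n : ℕ} {G H : Type*} [Group G] [Finite G] [Group H] [Finite H] (hG : Spec ε n G) (hH : Spec ε n H) :
    Set.range (orderOf : G → ℕ) = Set.range (orderOf : H → ℕ) := by
  ext k
  constructor
  · rintro ⟨x, rfl⟩
    exact hH.down _ (orderOf_pos x) (hG.up x)
  · rintro ⟨x, rfl⟩
    exact hG.down _ (orderOf_pos x) (hH.up x)

theorem rec_five (h : ∀ (G : Type) [Group G] [Finite G],
    Set.range (orderOf : G → ℕ) = Set.range (orderOf : Matrix.ProjectiveSpecialLinearGroup (Fin 2) (ZMod 5) → ℕ) →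
      Nonempty (G ≃* Matrix.ProjectiveSpecialLinearGroup (Fin 2) (ZMod 5))) : Rec 5 := by
  intro G _ _ hG
  have : Fact (Nat.Prime 5) := ⟨by norm_num⟩
  obtain ⟨e⟩ := Cfsg.Agent.S0253.result (F := ZMod 5) (ZMod.card 5)
  have h1 : Set.range (orderOf : alternatingGroup (Fin 5) → ℕ) =
      Set.range (orderOf : Matrix.ProjectiveSpecialLinearGroup (Fin 2) (ZMod 5) → ℕ) := by
    ext k
    constructor
    · rintro ⟨x, rfl⟩
      exact ⟨e.symm x, orderOf_injective e.symm.toMonoidHom e.symm.injective x⟩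
    · rintro ⟨x, rfl⟩
      exact ⟨e x, orderOf_injective e.toMonoidHom e.injective x⟩
  obtain ⟨f⟩ := h G ((range_eq hG (H267.Sp.SpecAlt.spec_alt 5)).trans h1)
  exact ⟨fun _ => ⟨f.trans e⟩, fun h0 => by norm_num at h0⟩

universe u

theorem result_of (R : Rows) {G : Type u} [Group G] [Finite G] (n : ℕ) (hn : 5 ≤ n) (h6 : n ≠ 6) (h10 : n ≠ 10)
    (h : Set.range (fun g : G => orderOf g) = Set.range (fun g : alternatingGroup (Fin n) => orderOf g)) :
    Nonempty (G ≃* alternatingGroup (Fin n)) := by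
  obtain ⟨G', i1, i2, ⟨e⟩⟩ := Finite.exists_type_univ_nonempty_mulEquiv.{u, 0} G
  have hf : Finite G' := Finite.of_fintype G'
  have hS : Spec 2 n G := H267.Sp.SpecAlt.Spec.congr h (H267.Sp.SpecAlt.spec_alt n)
  have hS' : Spec 2 n G' := by
    constructor
    · intro x
      rw [← orderOf_injective e.symm.toMonoidHom e.symm.injective x]
      exact hS.up _
    · intro k hk hW
      obtain ⟨x, hx⟩ := hS.down k hk hW
      exact ⟨e x, by rw [← hx]; exact orderOf_injective e.toMonoidHom e.injective x⟩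
  obtain ⟨f⟩ := (main R n hn h6 h10 G' hS').1 rfl
  exact ⟨e.trans f⟩

end Cfsg.Agent.H357.Sp.End
end

private theorem dce_af4f508c8237 : _root_.True := by
  try have : _root_.True := by simp only [_root_.Cfsg.Agent.H221.RecCost.fOk.eq_3]
  try have : _root_.True := by simp only [_root_.Cfsg.Agent.H221.RecCost.fE.eq_8]
  try have : _root_.True := by simp only [_root_.Cfsg.Agent.H221.RecCost.fE.eq_4]
  try have : _root_.True := by simp only [_root_.Cfsg.Agent.H221.RecCost.fB.eq_3]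
  try have : _root_.True := by simp only [_root_.Cfsg.Agent.H221.RecCost.fOk.eq_5]
  try have : _root_.True := by simp only [_root_.Cfsg.Agent.H221.RecCost.rOk.eq_1]
  try have : _root_.True := by simp only [_root_.Cfsg.Agent.H221.RecCost.fOk.eq_7]
  try have : _root_.True := by simp only [_root_.Cfsg.Agent.H367.Rec.sg.eq_1]
  try have : _root_.True := by simp only [_root_.Cfsg.Agent.H221.RecCost.fOk.eq_8]
  try have : _root_.True := by simp only [_root_.Cfsg.Agent.H221.RecCost.fOk.eq_4]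
  try have : _root_.True := by simp only [_root_.Cfsg.Agent.H221.RecCost.rOk.eq_3]
  try have : _root_.True := by simp only [_root_.Cfsg.Agent.H221.RecCost.fOk.eq_2]
  try have : _root_.True := by simp only [_root_.Cfsg.Agent.H221.RecCost.rOk.eq_5]
  try have : _root_.True := by simp only [_root_.Cfsg.Agent.H221.RecCost.fOk.eq_1]
  try have : _root_.True := by simp only [_root_.Cfsg.Agent.H221.RecCost.rOk.eq_7]
  try have : _root_.True := by simp only [_root_.Cfsg.Agent.H221.RecCost.rOk.eq_9]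
  try have : _root_.True := by simp only [_root_.Cfsg.Agent.H267.Sp.NoSub.N1.eq_1]
  try have : _root_.True := by simp only [_root_.Cfsg.Agent.H221.RecCost.lOk.eq_1]
  try have : _root_.True := by simp only [_root_.Cfsg.Agent.H870.CardT.cntF.eq_def]
  try have : _root_.True := by simp only [_root_.Cfsg.Agent.H221.RecCost.chk.eq_def]
  try have : _root_.True := by simp only [_root_.Cfsg.Agent.H221.RecCost.fOk.eq_6]
  try have : _root_.True := by simp only [_root_.Cfsg.Agent.H221.RecCost.lOk.eq_def]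
  try have : _root_.True := by simp only [_root_.Cfsg.Agent.H267.Sp.NoSub.eb.eq_1]
  try have : _root_.True := by simp only [_root_.Cfsg.Agent.H221.RecCost.rOk.eq_4]
  try have : _root_.True := by simp only [_root_.Cfsg.Agent.H221.RecCost.rOk.eq_8]
  try have : _root_.True := by simp only [_root_.Cfsg.Agent.H221.RecCost.lOk.eq_2]
  try have : _root_.True := by simp only [_root_.Cfsg.Agent.H221.RecCost.fE.eq_7]
  try have : _root_.True := by simp only [_root_.Cfsg.Agent.H964.SpAlt.cenOk.eq_1]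
  try have : _root_.True := by simp only [_root_.Cfsg.Agent.H221.RecCost.fE.eq_5]
  try have : _root_.True := by simp only [_root_.Cfsg.Agent.H221.RecCost.rOk.eq_2]
  try have : _root_.True := by simp only [_root_.Cfsg.Agent.H221.RecCost.fE.eq_6]
  try have : _root_.True := by simp only [_root_.Cfsg.Agent.H221.RecCost.fE.eq_3]
  try have : _root_.True := by simp only [_root_.Cfsg.Agent.H221.RecCost.fB.eq_4]
  try have : _root_.True := by simp only [_root_.Cfsg.Agent.H221.RecCost.rOk.eq_6]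
  try have : _root_.True := by simp only [_root_.Cfsg.Agent.H221.RecCost.fE.eq_2]
  try have : _root_.True := by simp only [_root_.Cfsg.Agent.H221.RecCost.fB.eq_1]
  try have : _root_.True := by simp only [_root_.Cfsg.Agent.H221.RecCost.fE.eq_1]
  try have : _root_.True := by simp only [_root_.Cfsg.Agent.H221.RecCost.fB.eq_2]
  exact _root_.True.intro
end
end
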